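import Cfsg.Agent.Lib.H11.OppSyl

set_option autoImplicit false
set_option maxRecDepth 100000

namespace Cfsg.Agent.H11.A6Opp

open Equiv Equiv.Perm

abbrev S6 := Perm (Fin 6)
abbrev A6 := alternatingGroup (Fin 6)

/-- swap -/
def sw (a b : Fin 6) : S6 := Equiv.swap a b

/-- elements of the Sylow subgroup -/
def pl : List S6 :=
  [1,
  sw 1 3 * sw 4 5,
  sw 0 1 * sw 2 3,
  sw 0 1 * sw 1 2 * sw 2 3 * sw 4 5,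
  sw 0 2 * sw 4 5,
  sw 0 2 * sw 1 3,
  sw 0 3 * sw 3 2 * sw 2 1 * sw 4 5,
  sw 0 3 * sw 1 2]

/-- coset representatives -/
def tlist : List S6 :=
  [sw 3 4 * sw 4 5,
  sw 3 5 * sw 5 4,
  sw 2 4 * sw 4 5,
  sw 2 4 * sw 3 5,
  sw 2 5 * sw 5 4,
  sw 2 5 * sw 3 4,
  sw 1 3 * sw 3 4,
  sw 1 3 * sw 3 5,
  sw 1 3 * sw 3 5 * sw 5 2 * sw 2 4,
  sw 1 3 * sw 3 4 * sw 4 2 * sw 2 5,
  sw 0 1 * sw 1 2 * sw 2 3 * sw 3 4,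
  sw 0 1 * sw 1 2 * sw 2 3 * sw 3 5,
  sw 0 1 * sw 1 2 * sw 2 4 * sw 3 5,
  sw 0 1 * sw 1 2 * sw 2 5 * sw 3 4,
  sw 0 2 * sw 2 4 * sw 1 3 * sw 3 5,
  sw 0 2 * sw 2 5 * sw 1 3 * sw 3 4,
  sw 2 3 * sw 3 4,
  sw 2 3 * sw 3 5,
  sw 2 4 * sw 4 3,
  sw 2 5 * sw 5 3,
  sw 1 2 * sw 3 4,
  sw 1 2 * sw 3 5,
  sw 1 2 * sw 2 3 * sw 3 4 * sw 4 5,
  sw 1 2 * sw 2 3 * sw 3 5 * sw 5 4,
  sw 1 2 * sw 2 4,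
  sw 1 2 * sw 2 5,
  sw 1 3 * sw 3 4 * sw 4 5 * sw 5 2,
  sw 1 3 * sw 3 5 * sw 5 4 * sw 4 2,
  sw 0 1 * sw 1 2 * sw 2 4 * sw 4 5,
  sw 0 1 * sw 1 2 * sw 2 5 * sw 5 4,
  sw 0 1 * sw 1 3 * sw 3 4 * sw 4 5,
  sw 0 1 * sw 1 3 * sw 3 5 * sw 5 4,
  1,
  sw 2 3 * sw 4 5,
  sw 1 2 * sw 4 5,
  sw 1 2 * sw 2 4 * sw 4 3 * sw 3 5,
  sw 1 2 * sw 2 5 * sw 5 3 * sw 3 4,
  sw 1 4 * sw 4 3 * sw 3 5 * sw 5 2,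
  sw 1 4 * sw 3 5,
  sw 1 4 * sw 4 2 * sw 2 3 * sw 3 5,
  sw 0 1 * sw 1 3 * sw 3 5 * sw 2 4,
  sw 0 1 * sw 1 3 * sw 3 4 * sw 2 5,
  sw 0 1 * sw 1 4 * sw 4 3 * sw 3 5,
  sw 0 1 * sw 1 4 * sw 2 3 * sw 3 5,
  sw 0 2 * sw 2 3 * sw 3 5 * sw 1 4]

/-- central involution -/
def zz : S6 := sw 0 2 * sw 1 3

/-- representative -/
def t (i : Fin 45) : S6 := tlist.getD i.val 1

lemma pl_one : (1 : S6) ∈ pl := by decide +kernel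
lemma pl_mul : ∀ x ∈ pl, ∀ y ∈ pl, x * y ∈ pl := by decide +kernel
lemma pl_inv : ∀ x ∈ pl, x⁻¹ ∈ pl := by decide +kernel
lemma pl_even : ∀ x ∈ pl, sign x = 1 := by decide +kernel
lemma pl_nodup : pl.Nodup := by decide +kernel
lemma pl_length : pl.length = 8 := by decide +kernel
lemma t_even : ∀ i : Fin 45, sign (t i) = 1 := by decide +kernel
lemma zz_mem : zz ∈ pl := by decide +kernel
lemma zz_ne : zz ≠ 1 := by decide +kernel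
lemma zz_comm : ∀ x ∈ pl, x * zz = zz * x := by decide +kernel
lemma zz_unique : ∀ x ∈ pl, x ≠ 1 → (∀ y ∈ pl, x * y = y * x) → x = zz := by decide +kernel
lemma t_zz_inj : ∀ i j : Fin 45, t i * zz * (t i)⁻¹ = t j * zz * (t j)⁻¹ → i = j := by decide +kernel
lemma c_a : ∀ i : Fin 45, 32 ≤ i.val → ∃ x ∈ pl, x ≠ 1 ∧ (t i)⁻¹ * x * t i ∈ pl := by decide +kernel
lemma c_b : ∀ i : Fin 45, i.val < 16 → ∃ x ∈ pl, x ≠ 1 ∧ ∃ y ∈ pl, y ≠ 1 ∧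
    x * (t i * y * (t i)⁻¹) = (t i * y * (t i)⁻¹) * x := by decide +kernel
lemma c_c : ∀ i : Fin 45, 16 ≤ i.val → i.val < 32 → ∀ x ∈ pl, x ≠ 1 → ∀ y ∈ pl, y ≠ 1 →
    x * (t i * y * (t i)⁻¹) ≠ (t i * y * (t i)⁻¹) * x := by decide +kernel

end Cfsg.Agent.H11.A6Opp
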