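import Mathlib

set_option autoImplicit false

namespace Cfsg.Agent.H11

open Equiv Perm

/-- A prime power dividing the lcm of a multiset divides a member. -/
lemma exists_mem_pp_dvd {p k : ℕ} (hp : p.Prime) (hk : k ≠ 0) (m : Multiset ℕ)
    (h : p ^ k ∣ m.lcm) : ∃ a ∈ m, p ^ k ∣ a := by
  induction m using Multiset.induction_on with
  | empty =>
    simp only [Multiset.lcm_zero] at h
    have := Nat.dvd_one.1 h
    exact absurd this (Nat.one_lt_pow hk hp.one_lt).ne'
  | cons a s ih =>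
    rw [Multiset.lcm_cons] at h
    by_cases ha : a = 0
    · exact ⟨a, Multiset.mem_cons_self a s, by simp [ha]⟩
    by_cases hs : s.lcm = 0
    · obtain h0 : (0 : ℕ) ∈ s := by simpa [Multiset.lcm_eq_zero_iff] using hs
      exact ⟨0, Multiset.mem_cons_of_mem h0, dvd_zero _⟩
    have h' : p ^ k ∣ Nat.lcm a s.lcm := h
    rw [hp.pow_dvd_iff_le_factorization (Nat.lcm_ne_zero ha hs), Nat.factorization_lcm ha hs,
      Finsupp.sup_apply, le_sup_iff] at h'
    rcases h' with h' | h'
    · exact ⟨a, Multiset.mem_cons_self a s, (hp.pow_dvd_iff_le_factorization ha).2 h'⟩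
    · obtain ⟨b, hb, hd⟩ := ih ((hp.pow_dvd_iff_le_factorization hs).2 h')
      exact ⟨b, Multiset.mem_cons_of_mem hb, hd⟩

lemma exists_mem_cycleType_pp_dvd {α : Type*} [Fintype α] [DecidableEq α] {p k : ℕ} (hp : p.Prime)
    (hk : k ≠ 0) (σ : Perm α) (h : p ^ k ∣ orderOf σ) : ∃ a ∈ σ.cycleType, p ^ k ∣ a := by
  rw [← lcm_cycleType] at h
  exact exists_mem_pp_dvd hp hk _ h

lemma add_le_sum_of_mem_ne (m : Multiset ℕ) {a b : ℕ} (ha : a ∈ m) (hb : b ∈ m) (hab : a ≠ b) :
    a + b ≤ m.sum := by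
  obtain ⟨t, rfl⟩ := Multiset.exists_cons_of_mem ha
  have hb' : b ∈ t := by
    rcases Multiset.mem_cons.1 hb with h | h
    · exact absurd h.symm hab
    · exact h
  rw [Multiset.sum_cons]
  exact Nat.add_le_add_left (Multiset.le_sum_of_mem hb') a

lemma mem_alternating_of_cycleType {n : ℕ} (g : Perm (Fin n))
    (h : Even (g.cycleType.sum + Multiset.card g.cycleType)) :
    g ∈ alternatingGroup (Fin n) := by
  rw [Equiv.Perm.mem_alternatingGroup, sign_of_cycleType]
  exact h.neg_one_pow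

lemma orderOf_alternating {n : ℕ} (g : alternatingGroup (Fin n)) :
    orderOf g = orderOf (g : Perm (Fin n)) := (Subgroup.orderOf_coe g).symm

end Cfsg.Agent.H11
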