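import Cfsg.Agent.Lib.H11.Wall2

/-! Norms in quotients of polynomial rings with a semilinear involution. -/

set_option autoImplicit false
set_option linter.unusedSectionVars false
set_option linter.unusedVariables false

namespace Cfsg.Agent.H11.GUC

open Polynomial

variable {K : Type*} [Field K] [Fintype K] (ρ : K →+* K) (hρ : ∀ x, ρ (ρ x) = x) (hne : ∃ c, ρ c ≠ c)

include hρ

theorem map_map_self (f : K[X]) : (f.map ρ).map ρ = f := by
  rw [Polynomial.map_map]
  have : ρ.comp ρ = RingHom.id K := RingHom.ext hρ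
  rw [this, Polynomial.map_id]

include hne in
theorem exists_trace_one : ∃ θ, θ + ρ θ = 1 := by
  obtain ⟨c, hc⟩ : ∃ c, c + ρ c ≠ 0 := by
    by_cases h2 : (2 : K) = 0
    · obtain ⟨c, hc⟩ := hne
      refine ⟨c, fun h => hc ?_⟩
      linear_combination (-1 : K) * h + ρ c * h2
    · refine ⟨1, ?_⟩
      rw [map_one]
      rw [one_add_one_eq_two]
      exact h2
  refine ⟨c * (c + ρ c)⁻¹, ?_⟩
  have hd : ρ (c + ρ c) = c + ρ c := by
    rw [map_add, hρ, add_comm]
  rw [map_mul, map_inv₀, hd]
  field_simp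

theorem congr_norm {m r r' : K[X]} (hm : m.map ρ = m) (h : m ∣ r - r') :
    m ∣ r.map ρ * r - r'.map ρ * r' := by
  have h1 : m ∣ r.map ρ - r'.map ρ := by
    have := Polynomial.map_dvd ρ h
    rwa [hm, Polynomial.map_sub] at this
  have e : r.map ρ * r - r'.map ρ * r' = (r.map ρ - r'.map ρ) * r + r'.map ρ * (r - r') := by ring
  rw [e]
  exact dvd_add (h1.mul_right _) (h.mul_left _)

theorem glue {m₁ m₂ r₁ r₂ : K[X]} (hc : IsCoprime m₁ m₂) (h1 : m₁.map ρ = m₁) (h2 : m₂.map ρ = m₂)
    (hr1 : m₁ ∣ r₁.map ρ * r₁ - X) (hr2 : m₂ ∣ r₂.map ρ * r₂ - X) :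
    ∃ r, m₁ * m₂ ∣ r.map ρ * r - X := by
  obtain ⟨u, v, huv⟩ := hc
  refine ⟨r₁ * (v * m₂) + r₂ * (u * m₁), ?_⟩
  set r := r₁ * (v * m₂) + r₂ * (u * m₁) with hr
  have e1 : m₁ ∣ r - r₁ := ⟨(r₂ - r₁) * u, by
    rw [hr]
    linear_combination r₁ * huv⟩
  have e2 : m₂ ∣ r - r₂ := ⟨(r₁ - r₂) * v, by
    rw [hr]
    linear_combination r₂ * huv⟩
  apply IsCoprime.mul_dvd ⟨u, v, huv⟩
  · have := dvd_add (congr_norm ρ hρ h1 e1) hr1
    rwa [sub_add_sub_cancel] at this
  · have := dvd_add (congr_norm ρ hρ h2 e2) hr2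
    rwa [sub_add_sub_cancel] at this

theorem pair {P : K[X]} (hc : IsCoprime P (P.map ρ)) : ∃ r, P * P.map ρ ∣ r.map ρ * r - X := by
  obtain ⟨u, v, huv⟩ := hc
  refine ⟨X * (v * P.map ρ) + 1 * (u * P), ?_⟩
  set r := X * (v * P.map ρ) + 1 * (u * P) with hr
  have e1 : P ∣ r - X := ⟨(1 - X) * u, by
    rw [hr]
    linear_combination X * huv⟩
  have e2 : P.map ρ ∣ r - 1 := ⟨(X - 1) * v, by
    rw [hr]
    linear_combination huv⟩
  have e3 : P.map ρ ∣ r.map ρ - X := by
    have := Polynomial.map_dvd ρ e1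
    rwa [Polynomial.map_sub, Polynomial.map_X] at this
  have e4 : P ∣ r.map ρ - 1 := by
    have := Polynomial.map_dvd ρ e2
    rwa [map_map_self ρ hρ, Polynomial.map_sub, Polynomial.map_one] at this
  apply IsCoprime.mul_dvd ⟨u, v, huv⟩
  · have e : r.map ρ * r - X = (r.map ρ - 1) * r + (r - X) := by ring
    rw [e]
    exact dvd_add (e4.mul_right _) e1
  · have e : r.map ρ * r - X = (r.map ρ - X) * r + X * (r - 1) := by ring
    rw [e]
    exact dvd_add (e3.mul_right _) (e2.mul_left _)

include hne in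
theorem base {g : K[X]} (hg : Irreducible g) (hgm : g.Monic) (hfix : g.map ρ = g) (h0 : g.coeff 0 ≠ 0) :
    ∃ r, g ∣ r.map ρ * r - X ∧ ¬ g ∣ r := by
  classical
  haveI : Fact (Irreducible g) := ⟨hg⟩
  haveI : Module.Finite K (AdjoinRoot g) := (AdjoinRoot.powerBasis' hgm).finite
  haveI : Finite (AdjoinRoot g) := Module.finite_of_finite K
  letI : Fintype (AdjoinRoot g) := Fintype.ofFinite _
  let τ : AdjoinRoot g →+* AdjoinRoot g := AdjoinRoot.lift ((AdjoinRoot.of g).comp ρ) (AdjoinRoot.root g) (by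
    rw [← Polynomial.eval₂_map, hfix]
    exact AdjoinRoot.eval₂_root g)
  have hτof : ∀ c, τ (AdjoinRoot.of g c) = AdjoinRoot.of g (ρ c) := fun c => by
    simp [τ]
  have hτroot : τ (AdjoinRoot.root g) = AdjoinRoot.root g := by
    simp [τ]
  have hτmk : ∀ f : K[X], τ (AdjoinRoot.mk g f) = AdjoinRoot.mk g (f.map ρ) := by
    intro f
    have h : τ.comp (AdjoinRoot.mk g) = (AdjoinRoot.mk g).comp (Polynomial.mapRingHom ρ) := by
      apply Polynomial.ringHom_ext
      · intro a
        simp only [RingHom.comp_apply, Polynomial.coe_mapRingHom, Polynomial.map_C]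
        exact hτof a
      · simp only [RingHom.comp_apply, Polynomial.coe_mapRingHom, Polynomial.map_X]
        exact hτroot
    exact congrArg (fun φ : K[X] →+* AdjoinRoot g => φ f) h
  have hττ : ∀ y, τ (τ y) = y := by
    intro y
    obtain ⟨f, rfl⟩ := AdjoinRoot.mk_surjective y
    rw [hτmk, hτmk, map_map_self ρ hρ]
  have hne' : ∃ e, τ e ≠ e := by
    obtain ⟨c, hc⟩ := hne
    refine ⟨AdjoinRoot.of g c, ?_⟩
    rw [hτof]
    exact fun h => hc ((AdjoinRoot.of g).injective h)
  have hx : AdjoinRoot.root g ≠ 0 := by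
    intro h
    have h1 : g ∣ X := by
      rw [← AdjoinRoot.mk_eq_zero]
      exact h
    have h2 := hg.associated_of_dvd Polynomial.irreducible_X h1
    have h3 := Polynomial.eq_of_monic_of_associated hgm Polynomial.monic_X h2
    rw [h3, Polynomial.coeff_X_zero] at h0
    exact h0 rfl
  obtain ⟨d, hd⟩ := Cfsg.Agent.H11.Wall.norm_of_invol τ hττ hne' (AdjoinRoot.root g) hx hτroot
  obtain ⟨r, rfl⟩ := AdjoinRoot.mk_surjective d
  refine ⟨r, ?_, ?_⟩
  · rw [← AdjoinRoot.mk_eq_zero, map_sub, map_mul, ← hτmk, AdjoinRoot.mk_X, ← hd]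
    ring
  · intro h
    have h1 : AdjoinRoot.mk g r = 0 := AdjoinRoot.mk_eq_zero.2 h
    rw [h1, zero_mul] at hd
    exact hx hd.symm

include hne in
theorem step {g r : K[X]} (hg : Irreducible g) (hgm : g.Monic) (hfix : g.map ρ = g) {a : ℕ} (ha : 1 ≤ a)
    (h1 : g ^ a ∣ r.map ρ * r - X) (h2 : ¬ g ∣ r) :
    ∃ r', g ^ (a + 1) ∣ r'.map ρ * r' - X ∧ ¬ g ∣ r' := by
  obtain ⟨h, hh⟩ := h1
  have hg0 : g ^ a ≠ 0 := pow_ne_zero _ hg.ne_zero
  have hs : (r.map ρ * r - X).map ρ = r.map ρ * r - X := by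
    rw [Polynomial.map_sub, Polynomial.map_mul, map_map_self ρ hρ, Polynomial.map_X, mul_comm]
  have hhfix : h.map ρ = h := by
    apply mul_left_cancel₀ hg0
    rw [hh, Polynomial.map_mul, Polynomial.map_pow, hfix] at hs
    exact hs
  obtain ⟨θ, hθ⟩ := exists_trace_one ρ hρ hne
  have hnd : ¬ g ∣ r.map ρ := by
    intro hd
    have := Polynomial.map_dvd ρ hd
    rw [hfix, map_map_self ρ hρ] at this
    exact h2 this
  obtain ⟨v, u, huv⟩ := (hg.coprime_iff_not_dvd).2 hnd
  let w : K[X] := C (-θ) * h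
  have hw : w.map ρ = C (-(ρ θ)) * h := by
    show (C (-θ) * h).map ρ = _
    rw [Polynomial.map_mul, Polynomial.map_C, hhfix, map_neg]
  let t : K[X] := u * w
  have ht : t.map ρ = u.map ρ * (C (-(ρ θ)) * h) := by
    simp only [t, Polynomial.map_mul, hw]
  have hmapuv : v.map ρ * g + u.map ρ * r = 1 := by
    have := congrArg (Polynomial.map ρ) huv
    simp only [Polynomial.map_add, Polynomial.map_mul, map_map_self ρ hρ, hfix, Polynomial.map_one] at this
    exact this
  refine ⟨r + g ^ a * t, ?_, ?_⟩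
  · have e1 : (r + g ^ a * t).map ρ = r.map ρ + g ^ a * t.map ρ := by
      rw [Polynomial.map_add, Polynomial.map_mul, Polynomial.map_pow, hfix]
    rw [e1]
    have hga : g ∣ g ^ a := dvd_pow_self g (by omega)
    obtain ⟨g', hg'⟩ := hga
    have hθ' : C θ + C (ρ θ) = (1 : K[X]) := by
      rw [← C_add, hθ, C_1]
    have key : g ∣ h + t.map ρ * r + r.map ρ * t + g ^ a * (t.map ρ * t) := by
      have h3 : t.map ρ * r = (1 - v.map ρ * g) * (C (-(ρ θ)) * h) := by
        rw [ht]
        linear_combination (C (-(ρ θ)) * h) * hmapuv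
      have h4 : r.map ρ * t = (1 - v * g) * w := by
        show r.map ρ * (u * w) = _
        linear_combination w * huv
      have h5 : h + C (-(ρ θ)) * h + w = 0 := by
        show h + C (-(ρ θ)) * h + C (-θ) * h = 0
        rw [C_neg, C_neg]
        linear_combination (-h) * hθ'
      rw [h3, h4]
      refine ⟨-(v.map ρ) * (C (-(ρ θ)) * h) - v * w + g' * (t.map ρ * t), ?_⟩
      rw [hg']
      linear_combination h5
    obtain ⟨y, hy⟩ := key
    refine ⟨y, ?_⟩
    rw [pow_succ, mul_assoc, ← hy]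
    have : (r.map ρ + g ^ a * t.map ρ) * (r + g ^ a * t) - X = (r.map ρ * r - X) + g ^ a * (t.map ρ * r + r.map ρ * t + g ^ a * (t.map ρ * t)) := by ring
    rw [this, hh]
    ring
  · intro hd
    apply h2
    have h3 : g ∣ g ^ a * t := (dvd_pow_self g (by omega)).mul_right _
    exact (dvd_add_left h3).1 hd

include hne in
theorem local_sol {g : K[X]} (hg : Irreducible g) (hgm : g.Monic) (hfix : g.map ρ = g) (h0 : g.coeff 0 ≠ 0) (a : ℕ) :
    ∃ r, g ^ a ∣ r.map ρ * r - X ∧ ¬ g ∣ r := by
  induction a with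
  | zero =>
    obtain ⟨r, _, h2⟩ := base ρ hρ hne hg hgm hfix h0
    exact ⟨r, by simp, h2⟩
  | succ a ih =>
    by_cases ha : a = 0
    · subst ha
      obtain ⟨r, h1, h2⟩ := base ρ hρ hne hg hgm hfix h0
      exact ⟨r, by simpa using h1, h2⟩
    · obtain ⟨r, h1, h2⟩ := ih
      exact step ρ hρ hne hg hgm hfix (by omega) h1 h2

omit hρ in
theorem coeff_zero_of_mul {f g : K[X]} (h : (f * g).coeff 0 ≠ 0) : f.coeff 0 ≠ 0 ∧ g.coeff 0 ≠ 0 := by
  rw [Polynomial.mul_coeff_zero] at h
  exact ⟨left_ne_zero_of_mul h, right_ne_zero_of_mul h⟩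

theorem map_irred {g : K[X]} (hg : Irreducible g) : Irreducible (g.map ρ) := by
  have hb : Function.Bijective ρ := ⟨ρ.injective, fun x => ⟨ρ x, hρ x⟩⟩
  let e : K ≃+* K := RingEquiv.ofBijective ρ hb
  have : g.map ρ = (Polynomial.mapEquiv e) g := rfl
  rw [this]
  exact (MulEquiv.irreducible_iff (Polynomial.mapEquiv e)).2 hg

include hne in
/-- the norm lemma -/
theorem herm_norm : ∀ (n : ℕ) (m : K[X]), m.natDegree = n → m.Monic → m.map ρ = m → m.coeff 0 ≠ 0 →
    ∃ r, m ∣ r.map ρ * r - X := by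
  intro n
  induction n using Nat.strong_induction_on with
  | _ n ih =>
    intro m hdeg hm hfix h0
    by_cases hn : n = 0
    · subst hn
      have h1 : m = 1 := Polynomial.eq_one_of_monic_natDegree_zero hm hdeg
      exact ⟨0, by rw [h1]; exact one_dvd _⟩
    · have hnu : ¬ IsUnit m := by
        intro hu
        have := Polynomial.natDegree_eq_zero_of_isUnit hu
        omega
      obtain ⟨g, hgm, hg, hgd⟩ := Polynomial.exists_monic_irreducible_factor m hnu
      have hm0 : m ≠ 0 := hm.ne_zero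
      obtain ⟨a, m', hnd, hfac⟩ := WfDvdMonoid.max_power_factor hm0 hg
      have ha : 1 ≤ a := by
        by_contra h
        have : a = 0 := by omega
        subst this
        rw [pow_zero, one_mul] at hfac
        exact hnd (hfac ▸ hgd)
      have hpm : (g ^ a).Monic := hgm.pow a
      have hm'm : m'.Monic := by
        rw [hfac] at hm
        exact hpm.of_mul_monic_left hm
      have hdg : 1 ≤ g.natDegree := hg.natDegree_pos
      have hdegm : m.natDegree = a * g.natDegree + m'.natDegree := by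
        rw [hfac, hpm.natDegree_mul hm'm, hgm.natDegree_pow]
      have hlt : a * g.natDegree ≥ 1 := Nat.mul_pos ha hdg
      have h0' : g.coeff 0 ≠ 0 := by
        have h1 : (g * (g ^ (a - 1) * m')).coeff 0 ≠ 0 := by
          have e : g * (g ^ (a - 1) * m') = m := by
            rw [hfac, ← mul_assoc, ← pow_succ']
            congr 2
            omega
          rwa [e]
        exact (coeff_zero_of_mul h1).1
      have h0m' : m'.coeff 0 ≠ 0 := by
        rw [hfac] at h0
        exact (coeff_zero_of_mul h0).2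
      by_cases hgfix : g.map ρ = g
      · have hm'fix : m'.map ρ = m' := by
          apply mul_left_cancel₀ (pow_ne_zero a hg.ne_zero)
          rw [hfac, Polynomial.map_mul, Polynomial.map_pow, hgfix] at hfix
          exact hfix
        obtain ⟨r₂, hr₂⟩ := ih m'.natDegree (by omega) m' rfl hm'm hm'fix h0m'
        obtain ⟨r₁, hr₁, -⟩ := local_sol ρ hρ hne hg hgm hgfix h0' a
        have hc : IsCoprime (g ^ a) m' := ((hg.coprime_iff_not_dvd).2 hnd).pow_left
        obtain ⟨r, hr⟩ := glue ρ hρ hc (by rw [Polynomial.map_pow, hgfix]) hm'fix hr₁ hr₂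
        exact ⟨r, hfac ▸ hr⟩
      · -- the pair case
        have hg1 : Irreducible (g.map ρ) := map_irred ρ hρ hg
        have hg1m : (g.map ρ).Monic := hgm.map ρ
        have hcop : IsCoprime g (g.map ρ) := by
          refine (hg.coprime_iff_not_dvd).2 (fun hd => hgfix ?_)
          have := hg.associated_of_dvd hg1 hd
          exact (Polynomial.eq_of_monic_of_associated hgm hg1m this).symm
        have hd1 : (g.map ρ) ^ a ∣ m' := by
          have h3 : (g.map ρ) ^ a ∣ m := by
            rw [← hfix, hfac, Polynomial.map_mul, Polynomial.map_pow]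
            exact dvd_mul_right _ _
          rw [hfac] at h3
          exact (hcop.symm.pow (m := a) (n := a)).dvd_of_dvd_mul_left h3
        obtain ⟨m'', hm''⟩ := hd1
        have hp1m : ((g.map ρ) ^ a).Monic := hg1m.pow a
        have hm''m : m''.Monic := by
          rw [hm''] at hm'm
          exact hp1m.of_mul_monic_left hm'm
        have hfac2 : m = (g ^ a * (g.map ρ) ^ a) * m'' := by
          rw [hfac, hm'', mul_assoc]
        have hm''fix : m''.map ρ = m'' := by
          apply mul_left_cancel₀ (mul_ne_zero (pow_ne_zero a hg.ne_zero) (pow_ne_zero a hg1.ne_zero))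
          have h4 := hfix
          rw [hfac2, Polynomial.map_mul, Polynomial.map_mul, Polynomial.map_pow, Polynomial.map_pow,
            map_map_self ρ hρ] at h4
          calc _ = (g.map ρ) ^ a * g ^ a * m''.map ρ := by ring
            _ = _ := h4
        have hdeg'' : m'.natDegree = a * (g.map ρ).natDegree + m''.natDegree := by
          rw [hm'', hp1m.natDegree_mul hm''m, hg1m.natDegree_pow]
        have h0'' : m''.coeff 0 ≠ 0 := by
          rw [hm''] at h0m'
          exact (coeff_zero_of_mul h0m').2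
        have hnd1 : ¬ g ∣ m'' := fun h => hnd (hm'' ▸ h.mul_left _)
        have hnd2 : ¬ g.map ρ ∣ m'' := by
          intro h
          have := Polynomial.map_dvd ρ h
          rw [map_map_self ρ hρ, hm''fix] at this
          exact hnd1 this
        obtain ⟨r₂, hr₂⟩ := ih m''.natDegree (by omega) m'' rfl hm''m hm''fix h0''
        have hPcop : IsCoprime (g ^ a) ((g ^ a).map ρ) := by
          rw [Polynomial.map_pow]
          exact hcop.pow
        obtain ⟨r₁, hr₁⟩ := pair ρ hρ hPcop
        have hc : IsCoprime (g ^ a * (g.map ρ) ^ a) m'' :=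
          IsCoprime.mul_left ((hg.coprime_iff_not_dvd).2 hnd1).pow_left ((hg1.coprime_iff_not_dvd).2 hnd2).pow_left
        rw [Polynomial.map_pow] at hr₁
        obtain ⟨r, hr⟩ := glue ρ hρ hc (by
          rw [Polynomial.map_mul, Polynomial.map_pow, Polynomial.map_pow, map_map_self ρ hρ, mul_comm]) hm''fix hr₁ hr₂
        exact ⟨r, hfac2 ▸ hr⟩

end Cfsg.Agent.H11.GUC
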