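import Cfsg.Agent.Lib.H11.PrimeGr2

/-! Elements of order `r * p` in `PSL_n(q)`: the main theorem. -/

set_option autoImplicit false
set_option linter.unusedSectionVars false
set_option linter.unusedVariables false

namespace Cfsg.Agent.H11.PrimeGr

open Matrix Module

variable {F : Type*} [Field F] [Fintype F]

theorem exists_unit_order (t : ℕ) (ht : t ∣ Fintype.card F - 1) : ∃ a : Fˣ, orderOf a = t := by
  classical
  obtain ⟨c, hc⟩ := IsCyclic.exists_generator (α := Fˣ)
  have hord : orderOf c = Fintype.card F - 1 := by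
    rw [orderOf_eq_card_of_forall_mem_zpowers hc, Nat.card_eq_fintype_card, Fintype.card_units]
  have hq2 : 2 ≤ Fintype.card F := Fintype.one_lt_card
  obtain ⟨m, hm⟩ := ht
  have hm0 : m ≠ 0 := by
    rintro rfl
    simp at hm
    omega
  refine ⟨c ^ m, ?_⟩
  rw [orderOf_pow_of_dvd hm0 ⟨t, by rw [hord, hm]; ring⟩, hord, hm]
  exact Nat.mul_div_cancel _ (Nat.pos_of_ne_zero hm0)

theorem lift_data (p r : ℕ) [Fact p.Prime] [CharP F p] (hr : r.Prime) (hrp : r ≠ p) {n : ℕ} (hn : 1 ≤ n)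
    (y : Matrix.ProjectiveSpecialLinearGroup (Fin n) F) (hy : orderOf y = r * p) :
    ∃ (S U : Matrix.SpecialLinearGroup (Fin n) F) (c : F), c ≠ 0 ∧
      ((S ^ r : Matrix.SpecialLinearGroup (Fin n) F) : Matrix (Fin n) (Fin n) F) = Matrix.scalar (Fin n) c ∧
      U ^ p = 1 ∧ S * U = U * S ∧ U ≠ 1 ∧ (∀ b : F, (S : Matrix (Fin n) (Fin n) F) ≠ Matrix.scalar (Fin n) b) ∧
      (¬ r ∣ Fintype.card F - 1 → (S ^ (Fintype.card F - 1)) ^ r = 1 ∧ S ^ (Fintype.card F - 1) ≠ 1) := by
  classical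
  haveI : Nonempty (Fin n) := ⟨⟨0, hn⟩⟩
  have hpP : p.Prime := Fact.out
  set q := Fintype.card F with hq
  have hq2 : 2 ≤ q := Fintype.one_lt_card
  obtain ⟨g, rfl⟩ := QuotientGroup.mk_surjective y
  have h1 : (QuotientGroup.mk g : Matrix.ProjectiveSpecialLinearGroup (Fin n) F) ^ (r * p) = 1 := by
    rw [← hy, pow_orderOf_eq_one]
  rw [← QuotientGroup.mk_pow, QuotientGroup.eq_one_iff] at h1
  obtain ⟨c, hc1, hc2⟩ := (Matrix.SpecialLinearGroup.mem_center_iff (A := g ^ (r * p))).1 h1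
  have hcu : c ≠ 0 := by
    rintro rfl
    have : (0 : F) ^ Fintype.card (Fin n) = 0 := zero_pow (Fintype.card_ne_zero)
    rw [this] at hc1
    exact zero_ne_one hc1
  have hcq : c ^ (q - 1) = 1 := FiniteField.pow_card_sub_one_eq_one c hcu
  have hpow : ∀ m, g ^ m = 1 → r * p ∣ m := by
    intro m hm
    rw [← hy, orderOf_dvd_iff_pow_eq_one, ← QuotientGroup.mk_pow, hm]
    rfl
  have hrp1 : g ^ (r * p * (q - 1)) = 1 := by
    rw [pow_mul]
    apply Subtype.ext
    rw [Matrix.SpecialLinearGroup.coe_pow, ← hc2, ← map_pow, hcq]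
    simp
  have hpq : ¬ p ∣ q - 1 := by
    intro h
    have h2 : p ∣ q := (ZMod.natCast_eq_zero_iff _ _).1 (card_cast_zero p)
    have h3 : p ∣ 1 := by
      have := (Nat.dvd_sub h2 h)
      rwa [show q - (q - 1) = 1 by omega] at this
    exact hpP.one_lt.ne' (Nat.dvd_one.1 h3)
  refine ⟨g ^ p, g ^ (r * (q - 1)), c, hcu, ?_, ?_, ?_, ?_, ?_, ?_⟩
  · rw [← pow_mul, mul_comm, ← hc2]
  · rw [← pow_mul, show r * (q - 1) * p = r * p * (q - 1) by ring, hrp1]
  · exact (Commute.refl g).pow_pow _ _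
  · intro h
    have h2 := hpow _ h
    have h3 : p ∣ q - 1 := Nat.dvd_of_mul_dvd_mul_left hr.pos h2
    exact hpq h3
  · intro b hb
    have hdet := (g ^ p).2
    rw [hb] at hdet
    have hb2 : b ^ Fintype.card (Fin n) = 1 := by simpa using hdet
    have hc : g ^ p ∈ Subgroup.center (Matrix.SpecialLinearGroup (Fin n) F) :=
      (Matrix.SpecialLinearGroup.mem_center_iff).2 ⟨b, hb2, hb.symm⟩
    have h3 : r * p ∣ p := by
      rw [← hy, orderOf_dvd_iff_pow_eq_one, ← QuotientGroup.mk_pow]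
      exact (QuotientGroup.eq_one_iff _).2 hc
    have h4 : r ∣ 1 := by
      have h5 : r * p ∣ 1 * p := by simpa using h3
      exact Nat.dvd_of_mul_dvd_mul_right hpP.pos h5
    exact hr.one_lt.ne' (Nat.dvd_one.1 h4)
  · intro hr1
    constructor
    · rw [← pow_mul, ← pow_mul, show p * ((q - 1) * r) = r * p * (q - 1) by ring, hrp1]
    · intro h
      rw [← pow_mul] at h
      have h2 := hpow _ h
      rw [mul_comm r p] at h2
      exact hr1 (Nat.dvd_of_mul_dvd_mul_left hpP.pos h2)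

/-- the linear form of the data -/
theorem lin_data {n r p : ℕ} (S U : Matrix.SpecialLinearGroup (Fin n) F) (c : F)
    (h1 : ((S ^ r : Matrix.SpecialLinearGroup (Fin n) F) : Matrix (Fin n) (Fin n) F) = Matrix.scalar (Fin n) c)
    (h2 : U ^ p = 1) (h3 : S * U = U * S) (h4 : U ≠ 1)
    (h5 : ∀ b : F, (S : Matrix (Fin n) (Fin n) F) ≠ Matrix.scalar (Fin n) b) :
    ∃ (TS TU : (Fin n → F) →ₗ[F] (Fin n → F)), TS ^ r = c • 1 ∧ TU ^ p = 1 ∧ TU ≠ 1 ∧ TS * TU = TU * TS ∧
      (∀ b : F, TS ≠ b • 1) ∧ LinearMap.det TS = 1 := by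
  classical
  let φ := Matrix.toLinAlgEquiv' (R := F) (n := Fin n)
  have hsc : ∀ b : F, φ (Matrix.scalar (Fin n) b) = b • 1 := by
    intro b
    rw [scalar_eq_smul_one, map_smul, map_one]
  refine ⟨φ (S : Matrix (Fin n) (Fin n) F), φ (U : Matrix (Fin n) (Fin n) F), ?_, ?_, ?_, ?_, ?_, ?_⟩
  · rw [← map_pow, ← Matrix.SpecialLinearGroup.coe_pow, h1, hsc]
  · rw [← map_pow, ← Matrix.SpecialLinearGroup.coe_pow, h2]
    simp
  · intro h
    apply h4
    apply Subtype.ext
    apply φ.injective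
    rw [h]
    simp
  · rw [← map_mul, ← map_mul, ← Matrix.SpecialLinearGroup.coe_mul, ← Matrix.SpecialLinearGroup.coe_mul, h3]
  · intro b h
    apply h5 b
    apply φ.injective
    rw [h, hsc]
  · have : LinearMap.det (φ (S : Matrix (Fin n) (Fin n) F)) = (S : Matrix (Fin n) (Fin n) F).det := LinearMap.det_toLin' _
    rw [this]
    exact S.2

theorem card_fin_dim (n : ℕ) : finrank F (Fin n → F) = n := by simp

/-- Main result, in the form we need. -/
theorem adjacent_char_iff (p : ℕ) [Fact p.Prime] [CharP F p] {n r : ℕ} (hn : 2 ≤ n) (hr : r.Prime) (hrp : r ≠ p)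
    [Fact r.Prime] :
    (r * p ∈ Set.range (orderOf : Matrix.ProjectiveSpecialLinearGroup (Fin n) F → ℕ)) ↔
      (orderOf ((Fintype.card F : ℕ) : ZMod r) + 2 ≤ n ∧
        ¬ (n = 3 ∧ r = 3 ∧ 3 ∣ Fintype.card F - 1 ∧ ¬ 9 ∣ Fintype.card F - 1)) := by
  classical
  have hpP : p.Prime := Fact.out
  set q := Fintype.card F with hq
  have hq2 : 2 ≤ q := Fintype.one_lt_card
  have hrq : (q : ZMod r) ≠ 0 := Cfsg.Agent.H29.natCast_q_ne_zero (F := F) (p := p) hq.symm hrp
  have hkpos : 0 < orderOf (q : ZMod r) := Cfsg.Agent.H29.orderOf_q_pos (F := F) (p := p) hq.symm hrp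
  have hk1 : r ∣ q - 1 ↔ orderOf (q : ZMod r) = 1 := Cfsg.Agent.H29.dvd_sub_one_iff hq2
  set k := orderOf (q : ZMod r) with hk
  have hcop : r.Coprime p := (Nat.coprime_primes hr hpP).2 hrp
  have hrF : (r : F) ≠ 0 := by
    intro h
    have h1 := (CharP.cast_eq_zero_iff F p r).1 h
    exact hrp ((Nat.prime_dvd_prime_iff_eq hpP hr).1 h1).symm
  constructor
  · rintro ⟨y, hy⟩
    obtain ⟨S, U, c, hc, h1, h2, h3, h4, h5, h6⟩ := lift_data p r hr hrp (by omega) y hy
    by_cases hk2 : 2 ≤ k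
    · have hr1 : ¬ r ∣ q - 1 := by
        rw [hk1]
        omega
      obtain ⟨h7, h8⟩ := h6 hr1
      have h9 : k + 2 ≤ n := dims_rp p r ((S ^ (q - 1) : Matrix.SpecialLinearGroup (Fin n) F) : Matrix (Fin n) (Fin n) F) (U : Matrix (Fin n) (Fin n) F)
        (by rw [← Matrix.SpecialLinearGroup.coe_pow, h7]; rfl)
        (by rw [← Matrix.SpecialLinearGroup.coe_pow, h2]; rfl)
        (by
          rw [← Matrix.SpecialLinearGroup.coe_mul, ← Matrix.SpecialLinearGroup.coe_mul]
          congr 1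
          exact Commute.pow_left h3 _)
        (fun h => h8 (Subtype.ext h)) (fun h => h4 (Subtype.ext h)) hrq hrF hk2
      refine ⟨h9, ?_⟩
      rintro ⟨rfl, -⟩
      omega
    · have hk3 : k = 1 := by omega
      obtain ⟨TS, TU, e1, e2, e3, e4, e5, e6⟩ := lin_data S U c h1 h2 h3 h4 h5
      have hn3 : n ≠ 2 := by
        rintro rfl
        exact no_dim_two p r (card_fin_dim 2) hrF TS TU c hc e1 e2 e3 e4 e5
      refine ⟨by omega, ?_⟩
      rintro ⟨rfl, rfl, h7, h8⟩
      have h30 : (3 : F) ≠ 0 := by exact_mod_cast hrF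
      obtain ⟨a, ha9, ha3⟩ := dim_three p (card_fin_dim 3) h30 TS TU c hc e1 e2 e3 e4 e5 e6
      apply h8
      have ha0 : a ≠ 0 := by
        rintro rfl
        simp at ha9
      have hord : orderOf a = 3 ^ (1 + 1) := orderOf_eq_prime_pow (p := 3) (n := 1) (by simpa using ha3) (by simpa using ha9)
      have h9 : orderOf a ∣ q - 1 := orderOf_dvd_of_pow_eq_one (FiniteField.pow_card_sub_one_eq_one a ha0)
      rw [hord] at h9
      exact h9
  · rintro ⟨h1, h2⟩
    by_cases hk2 : 2 ≤ k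
    · have hr1 : ¬ r ∣ q - 1 := by
        rw [hk1]
        omega
      have hrd : r ∣ q ^ k - 1 := (Cfsg.Agent.H29.dvd_pow_sub_one_iff hq2 k).2 dvd_rfl
      obtain ⟨A, hA⟩ := exists_GL_order (F := F) k r (by omega) hrd
      have hdet : (A : Matrix (Fin k) (Fin k) F).det = 1 := by
        apply Cfsg.Agent.H29.eq_one_of_pow_eq_one (F := F) (r := r) hq.symm hr1
        rw [← Matrix.det_pow, ← Units.val_pow_eq_pow_val, ← hA, pow_orderOf_eq_one]
        simp
      obtain ⟨y, hy⟩ := exists_rp p hr hrp A hA hdet h1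
      exact ⟨y, hy⟩
    · have hk3 : k = 1 := by omega
      have hr1 : r ∣ q - 1 := hk1.2 hk3
      by_cases hn4 : 4 ≤ n
      · obtain ⟨a, ha⟩ := exists_unit_order (F := F) r hr1
        obtain ⟨f, hf, hfdet, -⟩ := exists_blk (F := F) 1 1 2 rfl
        have hinj : ∀ b : Fˣ, orderOf (Matrix.GeneralLinearGroup.scalar (Fin 1) b : GL (Fin 1) F) = orderOf b := by
          intro b
          apply orderOf_injective
          intro x x' hxx
          have h3 := congrArg (fun u : GL (Fin 1) F => (u : Matrix (Fin 1) (Fin 1) F) 0 0) hxx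
          apply Units.ext
          simpa [Matrix.GeneralLinearGroup.coe_scalar] using h3
        let B := f (Matrix.GeneralLinearGroup.scalar (Fin 1) a, Matrix.GeneralLinearGroup.scalar (Fin 1) a⁻¹)
        have hB : orderOf B = r := by
          change orderOf (f _) = r
          rw [orderOf_injective f hf, Prod.orderOf_mk, hinj, hinj, orderOf_inv, ha]
          simp
        have hBdet : (B : Matrix (Fin 2) (Fin 2) F).det = 1 := by
          change ((f _ : GL (Fin 2) F) : Matrix (Fin 2) (Fin 2) F).det = 1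
          rw [hfdet]
          simp only [Matrix.GeneralLinearGroup.coe_scalar, Matrix.scalar_apply, Matrix.det_diagonal]
          simp
        obtain ⟨y, hy⟩ := exists_rp p (n := n) hr hrp B hB hBdet hn4
        exact ⟨y, hy⟩
      · have hn3 : n = 3 := by omega
        subst hn3
        by_cases hr3 : r = 3
        · subst hr3
          have h9 : 9 ∣ q - 1 := by
            by_contra h
            exact h2 ⟨rfl, rfl, hr1, h⟩
          obtain ⟨a, ha⟩ := exists_unit_order (F := F) 9 h9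
          have ha3 : orderOf (a ^ 3) = 3 := by
            rw [orderOf_pow, ha]
            norm_num
          obtain ⟨y, hy⟩ := exists_rp3 p hr hrp a ha3
          exact ⟨y, hy⟩
        · obtain ⟨a, ha⟩ := exists_unit_order (F := F) r hr1
          have ha3 : orderOf (a ^ 3) = r := by
            rw [orderOf_pow, ha]
            have h3 : Nat.gcd r 3 = 1 := (Nat.coprime_primes hr Nat.prime_three).2 hr3
            rw [h3, Nat.div_one]
          obtain ⟨y, hy⟩ := exists_rp3 p hr hrp a ha3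
          exact ⟨y, hy⟩

end Cfsg.Agent.H11.PrimeGr
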