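import Cfsg.Agent.Lib.H11.PSU3c
import Cfsg.Agent.Lib.H11.PrimeGr3

/-! Explicit elements of `PSU_3(q)`. -/

set_option autoImplicit false
set_option linter.unusedSectionVars false
set_option linter.unusedVariables false

namespace Cfsg.Agent.H11.PSU3

open Matrix Module

variable {F : Type*} [Field F] [Fintype F] {q p : ℕ}

/-- the standard form -/
theorem herm_std [Fact p.Prime] [CharP F p] (hF : Fintype.card F = q ^ 2) {j : ℕ} (hq : q = p ^ j) (hq0 : q ≠ 0) :
    Herm (F := F) q (Cfsg.hermForm 3 F q) := by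
  classical
  obtain ⟨ρ', hρ'⟩ := exists_rh (p := p) F hq 1
  have hρ : ∀ x, ρ' x = x ^ q := fun x => by rw [hρ', pow_one]
  refine ⟨?_, ?_, ?_, ?_⟩
  · intro x x' y
    simp only [Cfsg.hermForm, Fin.sum_univ_three, Pi.add_apply]
    ring
  · intro c x y
    simp only [Cfsg.hermForm, Fin.sum_univ_three, Pi.smul_apply, smul_eq_mul]
    ring
  · intro x y
    simp only [Cfsg.hermForm, Fin.sum_univ_three]
    have e : (x 0 * y 0 ^ q + x 1 * y 1 ^ q + x 2 * y 2 ^ q) ^ q = x 0 ^ q * y 0 + x 1 ^ q * y 1 + x 2 ^ q * y 2 := by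
      rw [← hρ, map_add, map_add, map_mul, map_mul, map_mul]
      simp only [hρ, pow_q_q hF]
    rw [e]
    ring
  · intro x hx
    funext i
    have h1 := hx (Pi.single i 1)
    fin_cases i <;> simpa [Cfsg.hermForm, Fin.sum_univ_three, hq0] using h1

/-- The form with a hyperbolic plane. -/
def formH (q : ℕ) (F : Type*) [Field F] (x y : Fin 3 → F) : F :=
  x 0 * (y 0) ^ q + x 1 * (y 2) ^ q + x 2 * (y 1) ^ q

theorem herm_H [Fact p.Prime] [CharP F p] (hF : Fintype.card F = q ^ 2) {j : ℕ} (hq : q = p ^ j) (hq0 : q ≠ 0) :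
    Herm (F := F) q (formH q F) := by
  classical
  obtain ⟨ρ', hρ'⟩ := exists_rh (p := p) F hq 1
  have hρ : ∀ x, ρ' x = x ^ q := fun x => by rw [hρ', pow_one]
  refine ⟨?_, ?_, ?_, ?_⟩
  · intro x x' y
    simp only [formH, Pi.add_apply]
    ring
  · intro c x y
    simp only [formH, Pi.smul_apply, smul_eq_mul]
    ring
  · intro x y
    simp only [formH]
    have e : (x 0 * y 0 ^ q + x 1 * y 2 ^ q + x 2 * y 1 ^ q) ^ q = x 0 ^ q * y 0 + x 1 ^ q * y 2 + x 2 ^ q * y 1 := by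
      rw [← hρ, map_add, map_add, map_mul, map_mul, map_mul]
      simp only [hρ, pow_q_q hF]
    rw [e]
    ring
  · intro x hx
    funext i
    have h0 := hx (Pi.single 0 1)
    have h1 := hx (Pi.single 1 1)
    have h2 := hx (Pi.single 2 1)
    simp [formH, hq0] at h0 h1 h2
    fin_cases i
    · exact h0
    · exact h2
    · exact h1

/-- from a matrix isometry to an element of `PSU_3` -/
theorem exists_of_matrix [Fact p.Prime] [CharP F p] (hF : Fintype.card F = q ^ 2) (hp2 : p ≠ 2) {j : ℕ} (hq : q = p ^ j) (hq0 : 0 < q)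
    (B : (Fin 3 → F) → (Fin 3 → F) → F) (hB : Herm (F := F) q B) (X : Matrix (Fin 3) (Fin 3) F)
    (hX : ∀ x y, B (X *ᵥ x) (X *ᵥ y) = B x y) (hdet : X.det = 1) (t : ℕ)
    (ht : ∀ m : ℕ, (∃ c : F, X ^ m = c • 1) ↔ t ∣ m) : ∃ y : Cfsg.PSU 3 F q, orderOf y = t := by
  classical
  let φ := Matrix.toLinAlgEquiv' (R := F) (n := Fin 3)
  obtain ⟨g, hg⟩ := transport hF hp2 hq hq0 B hB (by simp) (φ X) (fun x y => hX x y)
    (by
      have : LinearMap.det (φ X) = X.det := LinearMap.det_toLin' _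
      rw [this, hdet])
  apply psu_order hF g t
  intro m
  rw [← ht]
  apply exists_congr
  intro c
  rw [hg, ← map_pow]
  constructor
  · intro h
    apply φ.injective
    rw [h, map_smul, map_one]
  · intro h
    rw [h, map_smul, map_one]

theorem nat_gcd_fact (q : ℕ) (hq : 2 ≤ q) : Nat.gcd (q + 1) (q - 2) = Nat.gcd 3 (q + 1) := by
  obtain ⟨m, rfl⟩ : ∃ m, q = m + 2 := ⟨q - 2, by omega⟩
  have h1 : m + 2 + 1 = m + 3 := rfl
  simp only [Nat.add_sub_cancel, h1]
  rw [Nat.gcd_comm 3, Nat.gcd_comm]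
  simp [Nat.gcd_add_self_right, Nat.gcd_comm]

theorem exists_unit_of_order (t : ℕ) (ht : t ∣ Fintype.card F - 1) : ∃ a : F, a ≠ 0 ∧ orderOf a = t := by
  obtain ⟨a, ha⟩ := Cfsg.Agent.H11.PrimeGr.exists_unit_order (F := F) t ht
  exact ⟨a, a.ne_zero, by rw [orderOf_units, ha]⟩

/-- Element of order `q + 1`. -/
theorem element_one [Fact p.Prime] [CharP F p] (hF : Fintype.card F = q ^ 2) (hp2 : p ≠ 2) {j : ℕ} (hq : q = p ^ j) (hq0 : 0 < q) :
    ∃ y : Cfsg.PSU 3 F q, orderOf y = q + 1 := by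
  classical
  have hd : q + 1 ∣ Fintype.card F - 1 := by
    rw [hF]
    refine ⟨q - 1, ?_⟩
    obtain ⟨m, rfl⟩ : ∃ m, q = m + 1 := ⟨q - 1, by omega⟩
    simp
    ring_nf
    omega
  obtain ⟨a, ha0, ha⟩ := exists_unit_of_order (F := F) (q + 1) hd
  have ha1 : a ^ (q + 1) = 1 := by rw [← ha, pow_orderOf_eq_one]
  have ha2 : a * a ^ q = 1 := by rw [← pow_succ', ha1]
  have ha3 : a⁻¹ * (a⁻¹) ^ q = 1 := by
    rw [inv_pow, ← mul_inv, ha2, inv_one]
  apply exists_of_matrix hF hp2 hq hq0 _ (herm_std hF hq hq0.ne') (Matrix.diagonal ![a, a⁻¹, 1])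
  · intro x y
    simp only [Cfsg.hermForm, Fin.sum_univ_three, Matrix.mulVec_diagonal, mul_pow]
    simp
    linear_combination (x 0 * y 0 ^ q) * ha2 + (x 1 * y 1 ^ q) * ha3
  · simp [Matrix.det_diagonal, Fin.prod_univ_three, ha0]
  · intro m
    rw [← ha, orderOf_dvd_iff_pow_eq_one]
    constructor
    · rintro ⟨c, hc⟩
      rw [Matrix.diagonal_pow] at hc
      have h1 := congrFun (congrFun hc 0) 0
      have h2 := congrFun (congrFun hc 2) 2
      simp at h1 h2
      rw [h1, ← h2]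
    · intro h
      refine ⟨1, ?_⟩
      rw [Matrix.diagonal_pow, one_smul, ← Matrix.diagonal_one]
      congr 1
      funext i
      fin_cases i <;> simp [h]

/-- Element of order `p * (q + 1) / d`. -/
theorem element_two [Fact p.Prime] [CharP F p] (hF : Fintype.card F = q ^ 2) (hp2 : p ≠ 2) {j : ℕ} (hq : q = p ^ j) (hj : 0 < j) :
    ∃ y : Cfsg.PSU 3 F q, orderOf y = p * ((q + 1) / Nat.gcd 3 (q + 1)) := by
  classical
  have hpP : p.Prime := Fact.out
  have hq0 : 0 < q := by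
    rw [hq]
    exact pow_pos hpP.pos _
  obtain ⟨ρ', hρ'⟩ := exists_rh (p := p) F hq 1
  have hρ : ∀ x, ρ' x = x ^ q := fun x => by rw [hρ', pow_one]
  have hd : q + 1 ∣ Fintype.card F - 1 := by
    rw [hF]
    refine ⟨q - 1, ?_⟩
    obtain ⟨m, rfl⟩ : ∃ m, q = m + 1 := ⟨q - 1, by omega⟩
    simp
    ring_nf
    omega
  obtain ⟨a, ha0, ha⟩ := exists_unit_of_order (F := F) (q + 1) hd
  have ha1 : a ^ (q + 1) = 1 := by rw [← ha, pow_orderOf_eq_one]
  have ha2 : a * a ^ q = 1 := by rw [← pow_succ', ha1]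
  obtain ⟨w, hw⟩ := Cfsg.Agent.Lead.exists_not_fixed hF
  set c₀ := w ^ q - w with hc₀
  have hc0 : c₀ ≠ 0 := sub_ne_zero.2 hw
  have hcq : c₀ ^ q = - c₀ := by
    rw [hc₀, ← hρ, map_sub, hρ, hρ, pow_q_q hF]
    ring
  let X : Matrix (Fin 3) (Fin 3) F := !![(a⁻¹) ^ 2, 0, 0; 0, a, a * c₀; 0, 0, a]
  have hXpow : ∀ m : ℕ, X ^ m = !![((a⁻¹) ^ 2) ^ m, 0, 0; 0, a ^ m, (m : F) * a ^ m * c₀; 0, 0, a ^ m] := by
    intro m
    induction m with
    | zero =>
      ext i k
      fin_cases i <;> fin_cases k <;> simp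
    | succ m ih =>
      rw [pow_succ, ih]
      ext i k
      fin_cases i <;> fin_cases k <;> simp [X, Matrix.mul_apply, Fin.sum_univ_three, pow_succ]
      ring
  set d := Nat.gcd 3 (q + 1) with hdd
  have hd1 : d ∣ q + 1 := Nat.gcd_dvd_right _ _
  have hord3 : orderOf (a ^ 3) = (q + 1) / d := by
    rw [orderOf_pow' a (by norm_num), ha, Nat.gcd_comm]
  have hcop : p.Coprime ((q + 1) / d) := by
    rw [Nat.Prime.coprime_iff_not_dvd hpP]
    intro h
    have h1 : p ∣ q + 1 := h.trans (Nat.div_dvd_of_dvd hd1)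
    have h2 : p ∣ q := by
      rw [hq]
      exact dvd_pow_self _ hj.ne'
    have h3 : p ∣ 1 := (Nat.dvd_add_right h2).1 h1
    exact hpP.one_lt.ne' (Nat.dvd_one.1 h3)
  have h3c : ∀ m : ℕ, (a ^ 3) ^ m = 1 ↔ ((a⁻¹) ^ 2) ^ m = a ^ m := by
    intro m
    have hne : (a ^ 2) ^ m ≠ 0 := pow_ne_zero _ (pow_ne_zero _ ha0)
    have e1 : (a ^ 3) ^ m = (a ^ 2) ^ m * a ^ m := by
      rw [← mul_pow]
      congr 1
      ring
    have e2 : (a ^ 2) ^ m * ((a⁻¹) ^ 2) ^ m = 1 := by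
      rw [← mul_pow, ← mul_pow, mul_inv_cancel₀ ha0, one_pow, one_pow]
    rw [e1]
    constructor
    · intro h
      exact (mul_left_cancel₀ hne (e2.trans h.symm))
    · intro h
      rw [← h, e2]
  apply exists_of_matrix hF hp2 hq hq0 _ (herm_H hF hq hq0.ne') X
  · intro x y
    have e1 : ∀ v : Fin 3 → F, (X *ᵥ v) 0 = (a⁻¹) ^ 2 * v 0 := by
      intro v
      simp [X, Matrix.mulVec, dotProduct, Fin.sum_univ_three]
    have e2 : ∀ v : Fin 3 → F, (X *ᵥ v) 1 = a * v 1 + a * c₀ * v 2 := by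
      intro v
      simp [X, Matrix.mulVec, dotProduct, Fin.sum_univ_three]
    have e3 : ∀ v : Fin 3 → F, (X *ᵥ v) 2 = a * v 2 := by
      intro v
      simp [X, Matrix.mulVec, dotProduct, Fin.sum_univ_three]
    have e4 : (a * y 1 + a * c₀ * y 2) ^ q = a ^ q * y 1 ^ q + a ^ q * (- c₀) * y 2 ^ q := by
      rw [← hρ (a * y 1 + a * c₀ * y 2), map_add, map_mul, map_mul, map_mul]
      simp only [hρ, hcq]
    have e5 : ((a⁻¹) ^ 2) * ((a⁻¹) ^ 2) ^ q = 1 := by
      rw [← pow_mul, mul_comm 2 q, pow_mul, ← mul_pow, inv_pow, ← mul_inv, ha2, inv_one, one_pow]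
    simp only [formH, e1, e2, e3, mul_pow (a⁻¹ ^ 2), mul_pow a, e4]
    linear_combination (x 0 * y 0 ^ q) * e5 + (x 1 * y 2 ^ q + x 2 * y 1 ^ q) * ha2
  · rw [Matrix.det_fin_three]
    simp [X]
    field_simp
  · intro m
    rw [hXpow]
    constructor
    · rintro ⟨c, hc⟩
      have h1 := congrFun (congrFun hc 0) 0
      have h2 := congrFun (congrFun hc 1) 1
      have h3 := congrFun (congrFun hc 1) 2
      simp at h1 h2 h3
      have h4 : (m : F) = 0 := by
        rcases h3 with (h3 | h3) | h3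
        · exact h3
        · exact (ha0 h3.1).elim
        · exact (hc0 h3).elim
      have h5 : p ∣ m := (CharP.cast_eq_zero_iff F p m).1 h4
      have h6 : (a ^ 3) ^ m = 1 := (h3c m).2 (by
        have h8 : ((a⁻¹) ^ 2) ^ m = ((a ^ 2) ^ m)⁻¹ := by rw [inv_pow, inv_pow]
        rw [h8, h1, h2])
      have h7 : (q + 1) / d ∣ m := by
        rw [← hord3]
        exact orderOf_dvd_of_pow_eq_one h6
      exact hcop.mul_dvd_of_dvd_of_dvd h5 h7
    · intro h
      have h5 : p ∣ m := dvd_of_mul_right_dvd h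
      have h7 : (q + 1) / d ∣ m := dvd_of_mul_left_dvd h
      have h4 : (m : F) = 0 := (CharP.cast_eq_zero_iff F p m).2 h5
      have h6 : (a ^ 3) ^ m = 1 := by
        rw [← orderOf_dvd_iff_pow_eq_one, hord3]
        exact h7
      refine ⟨a ^ m, ?_⟩
      rw [(h3c m).1 h6, h4]
      ext i k
      fin_cases i <;> fin_cases k <;> simp

/-- Element of order `(q ^ 2 - 1) / d`. -/
theorem element_three [Fact p.Prime] [CharP F p] (hF : Fintype.card F = q ^ 2) (hp2 : p ≠ 2) {j : ℕ} (hq : q = p ^ j) (hq3 : 3 ≤ q) :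
    ∃ y : Cfsg.PSU 3 F q, orderOf y = (q ^ 2 - 1) / Nat.gcd 3 (q + 1) := by
  classical
  have hpP : p.Prime := Fact.out
  have hq0 : 0 < q := by omega
  obtain ⟨b, hb0, hb⟩ := exists_unit_of_order (F := F) (q ^ 2 - 1) (by rw [hF])
  have hbq : (b ^ q) ^ q = b := pow_q_q hF b
  have hbq0 : b ^ q ≠ 0 := pow_ne_zero _ hb0
  let d₀ := b ^ q * b⁻¹
  let d₂ := (b ^ q)⁻¹
  have hd₀0 : d₀ ≠ 0 := mul_ne_zero hbq0 (inv_ne_zero hb0)
  have e0 : d₀ * d₀ ^ q = 1 := by
    simp only [d₀]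
    rw [mul_pow, hbq, inv_pow]
    field_simp
  have e1 : b * d₂ ^ q = 1 := by
    simp only [d₂]
    rw [inv_pow, hbq]
    field_simp
  have e2 : d₂ * b ^ q = 1 := by
    simp only [d₂]
    field_simp
  apply exists_of_matrix hF hp2 hq hq0 _ (herm_H hF hq hq0.ne') (Matrix.diagonal ![d₀, b, d₂])
  · intro x y
    simp only [formH, Matrix.mulVec_diagonal, mul_pow]
    simp
    linear_combination (x 0 * y 0 ^ q) * e0 + (x 1 * y 2 ^ q) * e1 + (x 2 * y 1 ^ q) * e2
  · simp only [Matrix.det_diagonal, Fin.prod_univ_three]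
    simp [d₀, d₂]
    field_simp
  · intro m
    set d := Nat.gcd 3 (q + 1) with hdd
    have hd1 : d ∣ q + 1 := Nat.gcd_dvd_right _ _
    have hd3 : d ∣ 3 := Nat.gcd_dvd_left _ _
    have hd0 : 0 < d := Nat.pos_of_dvd_of_pos hd3 (by norm_num)
    have hN : q ^ 2 - 1 = (q + 1) * (q - 1) := by
      obtain ⟨n, rfl⟩ : ∃ n, q = n + 1 := ⟨q - 1, by omega⟩
      simp
      ring_nf
      omega
    have hd2 : d ∣ q ^ 2 - 1 := by
      rw [hN]
      exact Dvd.dvd.mul_right hd1 _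
    obtain ⟨f, hf⟩ := hd2
    have hfeq : (q ^ 2 - 1) / d = f := by
      rw [hf]
      exact Nat.mul_div_cancel_left _ hd0
    rw [hfeq]
    have hkey1 : ∀ m : ℕ, (b ^ (q + 1)) ^ m = 1 ↔ b ^ m = d₂ ^ m := by
      intro m
      have e3 : d₂ ^ m * (b ^ q) ^ m = 1 := by rw [← mul_pow, e2, one_pow]
      have e4 : (b ^ (q + 1)) ^ m = b ^ m * (b ^ q) ^ m := by
        rw [← mul_pow, pow_succ']
      rw [e4]
      have hne : (b ^ q) ^ m ≠ 0 := pow_ne_zero _ hbq0
      constructor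
      · intro h
        exact mul_right_cancel₀ hne (h.trans e3.symm)
      · intro h
        rw [h, e3]
    have hkey2 : ∀ m : ℕ, (b ^ (q - 2)) ^ m = 1 ↔ d₀ ^ m = b ^ m := by
      intro m
      have hq2 : b ^ q = b ^ (q - 2) * (b * b) := by
        rw [← pow_two, ← pow_add]
        congr 1
        omega
      have e3 : d₀ = b ^ (q - 2) * b := by
        simp only [d₀]
        rw [hq2]
        field_simp
      rw [e3, mul_pow]
      have hne : b ^ m ≠ 0 := pow_ne_zero _ hb0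
      constructor
      · intro h
        rw [h, one_mul]
      · intro h
        apply mul_right_cancel₀ hne
        rw [h, one_mul]
    have hgcd := nat_gcd_fact q (by omega)
    constructor
    · rintro ⟨c, hc⟩
      rw [Matrix.diagonal_pow] at hc
      have h0 := congrFun (congrFun hc 0) 0
      have h1 := congrFun (congrFun hc 1) 1
      have h2 := congrFun (congrFun hc 2) 2
      simp at h0 h1 h2
      have h3 : (b ^ (q + 1)) ^ m = 1 := (hkey1 m).2 (by rw [h1, h2])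
      have h4 : (b ^ (q - 2)) ^ m = 1 := (hkey2 m).2 (by rw [h0, h1])
      rw [← pow_mul, ← orderOf_dvd_iff_pow_eq_one, hb] at h3 h4
      have h5 := Nat.dvd_gcd h3 h4
      rw [Nat.gcd_mul_right, hgcd, hf] at h5
      exact Nat.dvd_of_mul_dvd_mul_left hd0 h5
    · intro h
      have h5 : q ^ 2 - 1 ∣ d * m := by
        rw [hf]
        exact Nat.mul_dvd_mul_left _ h
      have h3 : q ^ 2 - 1 ∣ (q + 1) * m := by
        obtain ⟨e, he⟩ := hd1
        rw [he, mul_assoc]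
        exact h5.trans (Dvd.intro e (by ring) : d * m ∣ d * (e * m)) 
      have h4 : q ^ 2 - 1 ∣ (q - 2) * m := by
        have hd4 : d ∣ q - 2 := by
          have h1 := Nat.dvd_sub hd1 hd3
          rwa [show q + 1 - 3 = q - 2 by omega] at h1
        obtain ⟨e, he⟩ := hd4
        rw [he, mul_assoc]
        exact h5.trans (Dvd.intro e (by ring) : d * m ∣ d * (e * m))
      rw [← hb, orderOf_dvd_iff_pow_eq_one, pow_mul] at h3 h4
      refine ⟨b ^ m, ?_⟩
      rw [Matrix.diagonal_pow, ← Matrix.diagonal_one, ← Matrix.diagonal_smul]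
      congr 1
      funext i
      fin_cases i
      · simpa using (hkey2 m).1 h4
      · simp
      · simpa using ((hkey1 m).1 h3).symm

end Cfsg.Agent.H11.PSU3
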