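import Cfsg.Agent.Lib.H11.PSpE

/-! Prime graph of `PSp_{2n}(q)`: lifts and elements. -/

set_option autoImplicit false
set_option linter.unusedSectionVars false
set_option linter.unusedVariables false

namespace Cfsg.Agent.H11.PSpG

open Module Matrix Cfsg.Agent.H29

section

variable {F : Type*} [Field F] [Fintype F]

theorem center_sq {n : ℕ} (hn : 1 ≤ n) (A : symplecticGroup (Fin n) F)
    (hA : A ∈ Subgroup.center (symplecticGroup (Fin n) F)) :
    ∃ c : F, c ^ 2 = 1 ∧ (A : Matrix (Fin n ⊕ Fin n) (Fin n ⊕ Fin n) F) = c • 1 := by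
  haveI : Nonempty (Fin n) := ⟨⟨0, hn⟩⟩
  obtain ⟨c, hc⟩ := Cfsg.Agent.Lead.center_scalar hA
  refine ⟨c, ?_, hc⟩
  have h1 := A.2
  rw [hc] at h1
  exact (Cfsg.Agent.Lead.scalar_mem_iff c).1 h1

theorem center_sq_eq {n : ℕ} (hn : 1 ≤ n) (A : symplecticGroup (Fin n) F)
    (hA : A ∈ Subgroup.center (symplecticGroup (Fin n) F)) : A ^ 2 = 1 := by
  obtain ⟨c, hc1, hc2⟩ := center_sq hn A hA
  apply Subtype.ext
  have h1 : ((A ^ 2 : symplecticGroup (Fin n) F) : Matrix (Fin n ⊕ Fin n) (Fin n ⊕ Fin n) F) =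
      (A : Matrix (Fin n ⊕ Fin n) (Fin n ⊕ Fin n) F) ^ 2 := rfl
  rw [h1, hc2, smul_pow, hc1]
  simp

/-- orders in the projective group -/
theorem psp_order {n : ℕ} (hn : 1 ≤ n) (g : symplecticGroup (Fin n) F) (N : ℕ) (hg : ∀ m : ℕ, g ^ m = 1 ↔ N ∣ m)
    (h : Odd N ∨ ∀ c : F, c ^ 2 = 1 → c = 1) : orderOf (QuotientGroup.mk g : Cfsg.PSp n F) = N := by
  apply Nat.dvd_antisymm
  · apply orderOf_dvd_of_pow_eq_one
    rw [← QuotientGroup.mk_pow, (hg N).2 dvd_rfl]
    rfl
  · set m := orderOf (QuotientGroup.mk g : Cfsg.PSp n F) with hm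
    have h1 : (QuotientGroup.mk g : Cfsg.PSp n F) ^ m = 1 := pow_orderOf_eq_one _
    rw [← QuotientGroup.mk_pow, QuotientGroup.eq_one_iff] at h1
    rcases h with h | h
    · have h2 := center_sq_eq hn _ h1
      rw [← pow_mul, hg] at h2
      rw [mul_comm] at h2
      exact Nat.Coprime.dvd_of_dvd_mul_left (Nat.coprime_two_right.2 h) h2
    · obtain ⟨c, hc1, hc2⟩ := center_sq hn _ h1
      rw [← hg]
      apply Subtype.ext
      rw [hc2, h c hc1, one_smul]
      rfl

theorem lift_pow {n : ℕ} (g : symplecticGroup (Fin n) F) (M : ℕ) (h : orderOf (QuotientGroup.mk g : Cfsg.PSp n F) = M) (m : ℕ)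
    (hm : g ^ m = 1) : M ∣ m := by
  rw [← h]
  apply orderOf_dvd_of_pow_eq_one
  rw [← QuotientGroup.mk_pow, hm]
  rfl

theorem lift_center {n : ℕ} (hn : 1 ≤ n) (g : symplecticGroup (Fin n) F) (M : ℕ)
    (h : orderOf (QuotientGroup.mk g : Cfsg.PSp n F) = M) : (g ^ M) ^ 2 = 1 := by
  apply center_sq_eq hn
  rw [← QuotientGroup.eq_one_iff, QuotientGroup.mk_pow, ← h]
  exact pow_orderOf_eq_one _

/-- lifts of elements of prime order -/
theorem lift_one {n : ℕ} (hn : 1 ≤ n) (y : Cfsg.PSp n F) (s : ℕ) (hs : s.Prime) (hs2 : s ≠ 2) (hy : orderOf y = s) :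
    ∃ Y : symplecticGroup (Fin n) F, Y ^ s = 1 ∧ Y ≠ 1 := by
  obtain ⟨g, rfl⟩ := QuotientGroup.mk_surjective y
  have h1 := lift_center hn g _ hy
  refine ⟨g ^ 2, ?_, ?_⟩
  · rw [← pow_mul, mul_comm, pow_mul, h1]
  · intro h
    have h2 := lift_pow g _ hy 2 h
    exact hs2 ((Nat.prime_dvd_prime_iff_eq hs Nat.prime_two).1 h2)

/-- lifts of elements of order a product of two odd primes -/
theorem lift_two {n : ℕ} (hn : 1 ≤ n) (y : Cfsg.PSp n F) (r s : ℕ) (hr : r.Prime) (hs : s.Prime) (hr2 : r ≠ 2) (hs2 : s ≠ 2)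
    (hy : orderOf y = r * s) :
    ∃ Y : symplecticGroup (Fin n) F, Y ^ (r * s) = 1 ∧ Y ^ s ≠ 1 ∧ Y ^ r ≠ 1 := by
  obtain ⟨g, rfl⟩ := QuotientGroup.mk_surjective y
  have h1 := lift_center hn g _ hy
  refine ⟨g ^ 2, ?_, ?_, ?_⟩
  · rw [← pow_mul, mul_comm, pow_mul, h1]
  · intro h
    rw [← pow_mul] at h
    have h2 := lift_pow g _ hy _ h
    rw [mul_comm 2 s, mul_comm r s] at h2
    have h3 := Nat.dvd_of_mul_dvd_mul_left hs.pos h2
    exact hr2 ((Nat.prime_dvd_prime_iff_eq hr Nat.prime_two).1 h3)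
  · intro h
    rw [← pow_mul] at h
    have h2 := lift_pow g _ hy _ h
    rw [mul_comm 2 r] at h2
    have h3 := Nat.dvd_of_mul_dvd_mul_left hr.pos h2
    exact hs2 ((Nat.prime_dvd_prime_iff_eq hs Nat.prime_two).1 h3)

theorem sq_eq_one_of_char_two [CharP F 2] (c : F) (h : c ^ 2 = 1) : c = 1 := by
  haveI : Fact (Nat.Prime 2) := ⟨Nat.prime_two⟩
  exact Cfsg.Agent.H11.PrimeGr.eq_one_of_pow_char 2 c h

/-- lifts of elements of order a product of an odd prime and the characteristic -/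
theorem lift_rp {n : ℕ} (hn : 1 ≤ n) (p : ℕ) [Fact p.Prime] [CharP F p] (y : Cfsg.PSp n F) (r : ℕ) (hr : r.Prime) (hr2 : r ≠ 2) (hrp : r ≠ p)
    (hy : orderOf y = r * p) :
    ∃ T U : symplecticGroup (Fin n) F, T ^ r = 1 ∧ T ≠ 1 ∧ U ^ p = 1 ∧ U ≠ 1 ∧ T * U = U * T := by
  have hpP : p.Prime := Fact.out
  obtain ⟨g, rfl⟩ := QuotientGroup.mk_surjective y
  by_cases hp2 : p = 2
  · subst hp2
    have h0 : g ^ (r * 2) ∈ Subgroup.center (symplecticGroup (Fin n) F) := by
      rw [← QuotientGroup.eq_one_iff, QuotientGroup.mk_pow, ← hy]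
      exact pow_orderOf_eq_one _
    obtain ⟨c, hc1, hc2⟩ := center_sq hn _ h0
    have h2 : g ^ (r * 2) = 1 := by
      apply Subtype.ext
      rw [hc2, sq_eq_one_of_char_two c hc1, one_smul]
      rfl
    refine ⟨g ^ 2, g ^ r, ?_, ?_, ?_, ?_, (Commute.refl g).pow_pow _ _⟩
    · rw [← pow_mul, mul_comm, h2]
    · intro h
      have h3 := lift_pow g _ hy _ h
      have h4 := Nat.le_of_dvd (by norm_num) h3
      have := hr.two_le
      omega
    · rw [← pow_mul, h2]
    · intro h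
      have h3 := lift_pow g _ hy _ h
      have h4 := Nat.le_of_dvd hr.pos h3
      have := hr.two_le
      omega
  · have h1 := lift_center hn g _ hy
    refine ⟨g ^ (2 * p), g ^ (2 * r), ?_, ?_, ?_, ?_, (Commute.refl g).pow_pow _ _⟩
    · rw [← pow_mul, show 2 * p * r = r * p * 2 by ring, pow_mul, h1]
    · intro h
      have h3 := lift_pow g _ hy _ h
      rw [mul_comm 2 p, mul_comm r p] at h3
      have h4 := Nat.dvd_of_mul_dvd_mul_left hpP.pos h3
      exact hr2 ((Nat.prime_dvd_prime_iff_eq hr Nat.prime_two).1 h4)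
    · rw [← pow_mul, show 2 * r * p = r * p * 2 by ring, pow_mul, h1]
    · intro h
      have h3 := lift_pow g _ hy _ h
      rw [mul_comm 2 r] at h3
      have h4 := Nat.dvd_of_mul_dvd_mul_left hr.pos h3
      exact hp2 ((Nat.prime_dvd_prime_iff_eq hpP Nat.prime_two).1 h4)

/-- the elementary blocks for a prime -/
theorem q_half (r q η : ℕ) [Fact r.Prime] (h0 : (q : ZMod r) ≠ 0) (hη : 2 * η = orderOf ((q : ℕ) : ZMod r)) (hpos : 0 < η) :
    ((q : ℕ) : ZMod r) ^ η = -1 := by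
  have h1 : (((q : ℕ) : ZMod r) ^ η) * (((q : ℕ) : ZMod r) ^ η) = 1 := by
    rw [← pow_add, ← two_mul, hη, pow_orderOf_eq_one]
  rcases mul_self_eq_one_iff.1 h1 with h2 | h2
  · exfalso
    have h3 := orderOf_le_of_pow_eq_one hpos h2
    omega
  · exact h2

theorem dvd_of_half (r q η : ℕ) [Fact r.Prime] (h : ((q : ℕ) : ZMod r) ^ η = -1) : r ∣ q ^ η + 1 := by
  rw [← ZMod.natCast_eq_zero_iff]
  push_cast
  rw [h]
  ring

theorem dvd_of_order (r q k : ℕ) [Fact r.Prime] (hq : 1 ≤ q) (h : ((q : ℕ) : ZMod r) ^ k = 1) : r ∣ q ^ k - 1 := by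
  rw [← ZMod.natCast_eq_zero_iff, Nat.cast_sub (Nat.one_le_pow _ _ hq)]
  push_cast
  rw [h, sub_self]

theorem blk_eta (p : ℕ) [Fact p.Prime] [CharP F p] (r : ℕ) [Fact r.Prime] (hrp : r ≠ p) (η : ℕ)
    (hη : (Odd (orderOf ((Fintype.card F : ℕ) : ZMod r)) ∧ η = orderOf ((Fintype.card F : ℕ) : ZMod r)) ∨
      (Even (orderOf ((Fintype.card F : ℕ) : ZMod r)) ∧ 2 * η = orderOf ((Fintype.card F : ℕ) : ZMod r))) :
    Blk F η r := by
  have hk0 := Cfsg.Agent.H29.orderOf_q_pos (F := F) (p := p) (r := r) (q := Fintype.card F) rfl hrp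
  have h0 := Cfsg.Agent.H29.natCast_q_ne_zero (F := F) (p := p) (r := r) (q := Fintype.card F) rfl hrp
  have hq : 1 ≤ Fintype.card F := Fintype.card_pos
  rcases hη with ⟨-, h⟩ | ⟨-, h⟩
  · rw [h]
    exact blk_sub _ hk0 _ (dvd_of_order r _ _ hq (pow_orderOf_eq_one _))
  · have hpos : 0 < η := by omega
    exact blk_add _ hpos _ (dvd_of_half r _ _ (q_half r _ _ h0 h hpos))

theorem not_dvd_card (p : ℕ) [Fact p.Prime] [CharP F p] (r : ℕ) (hr : r.Prime) (hrp : r ≠ p) : (r : F) ≠ 0 := by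
  intro h
  have h1 := (CharP.cast_eq_zero_iff F p r).1 h
  have hpP : p.Prime := Fact.out
  exact hrp ((Nat.prime_dvd_prime_iff_eq hpP hr).1 h1).symm

/-- isometries from a symplectic matrix: the adjacency of the characteristic -/
theorem psp_rp (p : ℕ) [Fact p.Prime] [CharP F p] (n : ℕ) (hn : 2 ≤ n) (r : ℕ) (hr : r.Prime) (hr2 : r ≠ 2) (hrp : r ≠ p) (ηk : ℕ)
    (hηk : (Odd (orderOf ((Fintype.card F : ℕ) : ZMod r)) ∧ ηk = orderOf ((Fintype.card F : ℕ) : ZMod r)) ∨
      (Even (orderOf ((Fintype.card F : ℕ) : ZMod r)) ∧ 2 * ηk = orderOf ((Fintype.card F : ℕ) : ZMod r))) :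
    (r * p ∉ Set.range (orderOf : Cfsg.PSp n F → ℕ)) ↔ n - 1 < ηk := by
  haveI : Fact r.Prime := ⟨hr⟩
  have hpP : p.Prime := Fact.out
  have h0 := Cfsg.Agent.H29.natCast_q_ne_zero (F := F) (p := p) (r := r) (q := Fintype.card F) rfl hrp
  have hrF := not_dvd_card (F := F) p r hr hrp
  constructor
  · intro h
    by_contra hcon
    apply h
    have hle : ηk + 1 ≤ n := by omega
    have hb := blk_prod (blk_eta (F := F) p r hrp ηk hηk)
      (blk_mono (blk_char (F := F) p) (show 1 ≤ n - ηk by omega))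
    rw [Nat.add_sub_cancel' (by omega : ηk ≤ n), Nat.Coprime.lcm_eq_mul ((Nat.coprime_primes hr hpP).2 hrp)] at hb
    obtain ⟨g, hg⟩ := hb
    refine ⟨_, psp_order (by omega) g _ hg ?_⟩
    by_cases hp2 : p = 2
    · subst hp2
      exact Or.inr (sq_eq_one_of_char_two)
    · exact Or.inl (Nat.odd_mul.2 ⟨hr.odd_of_ne_two hr2, hpP.odd_of_ne_two hp2⟩)
  · rintro hlt ⟨y, hy⟩
    obtain ⟨T, U, h1, h2, h3, h4, h5⟩ := lift_rp (by omega) p y r hr hr2 hrp hy
    have hT := toLin_pow_eq_one T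
    have hU := toLin_pow_eq_one U
    have := core_rp p (lsf n F) (lsf_alt n) (lsf_nd n) n (finrank_std n)
      (Matrix.toLin' (T : Matrix (Fin n ⊕ Fin n) (Fin n ⊕ Fin n) F))
      (Matrix.toLin' (U : Matrix (Fin n ⊕ Fin n) (Fin n ⊕ Fin n) F)) (toLin_iso T) (toLin_iso U) r hr2 hrF h0
      ((hT r).2 h1) (fun h => h2 (by simpa using (hT 1).1 (by simpa using h))) ((hU p).2 h3)
      (fun h => h4 (by simpa using (hU 1).1 (by simpa using h)))
      (by
        have h6 := congrArg (fun A : symplecticGroup (Fin n) F => Matrix.toLin' (A : Matrix (Fin n ⊕ Fin n) (Fin n ⊕ Fin n) F)) h5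
        simp only [Submonoid.coe_mul, Matrix.toLin'_mul] at h6
        exact h6) ηk hηk
    omega

/-- odd primes -/
theorem psp_rs (p : ℕ) [Fact p.Prime] [CharP F p] (n : ℕ) (hn : 2 ≤ n) (r s : ℕ) (hr : r.Prime) (hs : s.Prime) (hr2 : r ≠ 2) (hs2 : s ≠ 2)
    (hrp : r ≠ p) (hsp : s ≠ p) (hrs : r ≠ s) (hrG : r ∣ Nat.card (Cfsg.PSp n F)) (hsG : s ∣ Nat.card (Cfsg.PSp n F))
    (k l ηk ηl : ℕ) (hk : k = orderOf ((Fintype.card F : ℕ) : ZMod r)) (hl : l = orderOf ((Fintype.card F : ℕ) : ZMod s))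
    (hηk : (Odd k ∧ ηk = k) ∨ (Even k ∧ 2 * ηk = k)) (hηl : (Odd l ∧ ηl = l) ∨ (Even l ∧ 2 * ηl = l)) (hkl : ηk ≤ ηl) :
    (r * s ∉ Set.range (orderOf : Cfsg.PSp n F → ℕ)) ↔ (n < ηk + ηl ∧ ¬ ∃ t : ℕ, Odd t ∧ l = k * t) := by
  haveI : Fact r.Prime := ⟨hr⟩
  haveI : Fact s.Prime := ⟨hs⟩
  have hpP : p.Prime := Fact.out
  have h0r := Cfsg.Agent.H29.natCast_q_ne_zero (F := F) (p := p) (r := r) (q := Fintype.card F) rfl hrp
  have h0s := Cfsg.Agent.H29.natCast_q_ne_zero (F := F) (p := p) (r := s) (q := Fintype.card F) rfl hsp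
  have hrF := not_dvd_card (F := F) p r hr hrp
  have hsF := not_dvd_card (F := F) p s hs hsp
  have hq : 1 ≤ Fintype.card F := Fintype.card_pos
  have hcop := (Nat.coprime_primes hr hs).2 hrs
  have hodd : Odd (r * s) := Nat.odd_mul.2 ⟨hr.odd_of_ne_two hr2, hs.odd_of_ne_two hs2⟩
  have hnpos : 1 ≤ n := by omega
  constructor
  · intro h
    by_contra hcon
    apply h
    have hb : Blk F n (r * s) := by
      by_cases hsum : ηk + ηl ≤ n
      · have hb1 := blk_prod (blk_eta (F := F) p r hrp ηk (by rw [← hk]; exact hηk))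
          (blk_eta (F := F) p s hsp ηl (by rw [← hl]; exact hηl))
        rw [Nat.Coprime.lcm_eq_mul hcop] at hb1
        exact blk_mono hb1 hsum
      · obtain ⟨t, ht, hlk⟩ : ∃ t, Odd t ∧ l = k * t := by
          by_contra hno
          exact hcon ⟨by omega, hno⟩
        -- the order bound from the Cauchy element
        have hle : ηl ≤ n := by
          obtain ⟨y, hy⟩ := exists_prime_orderOf_dvd_card' (G := Cfsg.PSp n F) s hsG
          obtain ⟨Y, hY1, hY2⟩ := lift_one hnpos y s hs hs2 hy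
          have hT := toLin_pow_eq_one Y
          exact eta_le (lsf n F) (lsf_alt n) (lsf_nd n) n (finrank_std n)
            (Matrix.toLin' (Y : Matrix (Fin n ⊕ Fin n) (Fin n ⊕ Fin n) F)) (toLin_iso Y) s hsF h0s
            ((hT s).2 hY1) (fun h => hY2 (by simpa using (hT 1).1 (by simpa using h))) ηl (by rw [← hl]; exact hηl)
        have hk0 : 0 < k := by
          rw [hk]
          exact Cfsg.Agent.H29.orderOf_q_pos (F := F) (p := p) (r := r) (q := Fintype.card F) rfl hrp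
        have hl0 : 0 < l := by
          rw [hl]
          exact Cfsg.Agent.H29.orderOf_q_pos (F := F) (p := p) (r := s) (q := Fintype.card F) rfl hsp
        have hqr : ((Fintype.card F : ℕ) : ZMod r) ^ k = 1 := by
          rw [hk]
          exact pow_orderOf_eq_one _
        have hqs : ((Fintype.card F : ℕ) : ZMod s) ^ l = 1 := by
          rw [hl]
          exact pow_orderOf_eq_one _
        rcases hηl with ⟨hlo, hl1⟩ | ⟨hle2, hl1⟩
        · rw [hl1] at hle
          have h1 : r ∣ Fintype.card F ^ l - 1 := by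
            apply dvd_of_order r _ _ hq
            rw [hlk, pow_mul, hqr, one_pow]
          have h2 : s ∣ Fintype.card F ^ l - 1 := dvd_of_order s _ _ hq hqs
          exact blk_mono (blk_sub l hl0 _ (Nat.Coprime.mul_dvd_of_dvd_of_dvd hcop h1 h2)) hle
        · -- `l` even, so `k` even
          have hke : Even k := by
            have := hle2
            rw [hlk] at this
            rcases Nat.even_mul.1 this with h | h
            · exact h
            · exact absurd h (Nat.not_even_iff_odd.2 ht)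
          have hk1 : 2 * ηk = k := by
            rcases hηk with ⟨h, -⟩ | ⟨-, h⟩
            · exact absurd h (Nat.not_odd_iff_even.2 hke)
            · exact h
          have hηl1 : ηl = ηk * t := by
            have : 2 * ηl = 2 * (ηk * t) := by
              rw [hl1, hlk, ← hk1]
              ring
            omega
          have hηpos : 0 < ηl := by omega
          have hηkpos : 0 < ηk := by omega
          have h1 : r ∣ Fintype.card F ^ ηl + 1 := by
            apply dvd_of_half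
            rw [hηl1, pow_mul, q_half r _ _ h0r (by rw [← hk]; exact hk1) hηkpos, ht.neg_one_pow]
          have h2 : s ∣ Fintype.card F ^ ηl + 1 :=
            dvd_of_half s _ _ (q_half s _ _ h0s (by rw [← hl]; exact hl1) hηpos)
          exact blk_mono (blk_add ηl hηpos _ (Nat.Coprime.mul_dvd_of_dvd_of_dvd hcop h1 h2)) hle
    obtain ⟨g, hg⟩ := hb
    exact ⟨_, psp_order hnpos g _ hg (Or.inl hodd)⟩
  · rintro ⟨hlt, hno⟩ ⟨y, hy⟩
    obtain ⟨Y, h1, h2, h3⟩ := lift_two hnpos y r s hr hs hr2 hs2 hy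
    have hT := toLin_pow_eq_one Y
    rcases core_rs (lsf n F) (lsf_alt n) (lsf_nd n) n (finrank_std n)
      (Matrix.toLin' (Y : Matrix (Fin n ⊕ Fin n) (Fin n ⊕ Fin n) F)) (toLin_iso Y) r s hr2 hs2 hrF hsF h0r h0s
      ((hT _).2 h1) (fun h => h2 ((hT _).1 h)) (fun h => h3 ((hT _).1 h)) k l ηk ηl hk hl hηk hηl hkl with h4 | h4
    · omega
    · exact hno h4

end

end Cfsg.Agent.H11.PSpG
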