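import Cfsg.Agent.Lib.H11.Wall5
import Cfsg.Agent.Lib.H11.PSpF

/-! Semisimple conjugacy classes of symplectic groups. -/

set_option autoImplicit false
set_option linter.unusedSectionVars false
set_option linter.unusedVariables false

namespace Cfsg.Agent.H11.Wall

open Polynomial Module Matrix

universe u

variable {F : Type u} [Field F] [Fintype F]

theorem sympForm_sf (n : ℕ) : Sf (RingHom.id F) (-1) (Cfsg.Agent.Lead.sympForm (l := Fin n) (F := F)) :=
  { rho2 := fun _ => rfl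
    eps := by simp
    add_left := Cfsg.Agent.Lead.sympForm_add_left
    smul_left := Cfsg.Agent.Lead.sympForm_smul_left
    symm := fun x y => by
      rw [Cfsg.Agent.Lead.sympForm_swap y x]
      simp
    nd := fun x hx => by
      by_contra h
      obtain ⟨z, hz⟩ := Cfsg.Agent.Lead.sympForm_nondeg h
      exact hz (hx z) }

theorem charpoly_toLin_eq {ι : Type*} [Fintype ι] [DecidableEq ι] (M : Matrix ι ι F) :
    (Matrix.toLin' M).charpoly = M.charpoly := by
  rw [← LinearMap.charpoly_toMatrix _ (Pi.basisFun F ι), LinearMap.toMatrix_eq_toMatrix', LinearMap.toMatrix'_toLin']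

/-- semisimple elements of the symplectic group with the same characteristic polynomial -/
theorem sp_conj {n : ℕ} (g h : symplecticGroup (Fin n) F) (N : ℕ) (hN0 : (N : F) ≠ 0) (hg : g ^ N = 1) (hh : h ^ N = 1)
    (hc : (g : Matrix (Fin n ⊕ Fin n) (Fin n ⊕ Fin n) F).charpoly = (h : Matrix (Fin n ⊕ Fin n) (Fin n ⊕ Fin n) F).charpoly) :
    IsConj g h := by
  classical
  have hN : 0 < N := Nat.pos_of_ne_zero (by
    rintro rfl
    exact hN0 (by simp))
  obtain ⟨φ, hφA, hφB⟩ := core (ρ := RingHom.id F) (ε := -1) _ (Fin n ⊕ Fin n → F) (Fin n ⊕ Fin n → F) _ _ (sympForm_sf n) (sympForm_sf n)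
    (Matrix.toLin' (g : Matrix (Fin n ⊕ Fin n) (Fin n ⊕ Fin n) F))
    (Matrix.toLin' (h : Matrix (Fin n ⊕ Fin n) (Fin n ⊕ Fin n) F)) N hN hN0
    ((Cfsg.Agent.H11.PSpG.toLin_pow_eq_one g N).2 hg) ((Cfsg.Agent.H11.PSpG.toLin_pow_eq_one h N).2 hh)
    (Cfsg.Agent.H11.PSpG.toLin_iso g) (Cfsg.Agent.H11.PSpG.toLin_iso h)
    (fun _ v _ => Cfsg.Agent.Lead.sympForm_self v) (fun _ v _ => Cfsg.Agent.Lead.sympForm_self v) rfl
    (by rw [charpoly_toLin_eq, charpoly_toLin_eq, hc])
  let M : Matrix (Fin n ⊕ Fin n) (Fin n ⊕ Fin n) F := LinearMap.toMatrix' (φ : (Fin n ⊕ Fin n → F) →ₗ[F] (Fin n ⊕ Fin n → F))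
  have hM : ∀ u, M *ᵥ u = φ u := by
    intro u
    rw [← Matrix.toLin'_apply, Matrix.toLin'_toMatrix']
    rfl
  have hmem : M ∈ symplecticGroup (Fin n) F := by
    apply Cfsg.Agent.H11.PSpG.mem_of_form
    intro u v
    rw [hM, hM]
    exact hφB u v
  let c : symplecticGroup (Fin n) F := ⟨M, hmem⟩
  have hcomm : c * g = h * c := by
    apply Subtype.ext
    apply Cfsg.Agent.Lead.mat_ext_mulVec
    intro u
    change (M * (g : Matrix _ _ F)) *ᵥ u = ((h : Matrix _ _ F) * M) *ᵥ u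
    rw [← Matrix.mulVec_mulVec, ← Matrix.mulVec_mulVec, hM, hM]
    exact hφA u
  rw [isConj_iff]
  exact ⟨c, by rw [hcomm]; group⟩

/-- conjugacy in matrices implies conjugacy in the symplectic group, for semisimple elements -/
theorem sp_conj_of_matrix {n : ℕ} (p : ℕ) [Fact p.Prime] [CharP F p] (A B : symplecticGroup (Fin n) F) (hA : (orderOf A).Coprime p) :
    IsConj A B ↔ IsConj (A : Matrix (Fin n ⊕ Fin n) (Fin n ⊕ Fin n) F) (B : Matrix (Fin n ⊕ Fin n) (Fin n ⊕ Fin n) F) := by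
  constructor
  · intro h
    exact MonoidHom.map_isConj (symplecticGroup (Fin n) F).subtype h
  · intro h
    have hpP : p.Prime := Fact.out
    have hcast : ((orderOf A : ℕ) : F) ≠ 0 := by
      rw [Ne, CharP.cast_eq_zero_iff F p]
      intro h1
      have := Nat.Coprime.eq_one_of_dvd hA.symm h1
      exact hpP.one_lt.ne' this
    obtain ⟨c, hc⟩ := h
    have hcB : (B : Matrix (Fin n ⊕ Fin n) (Fin n ⊕ Fin n) F) = (c.val * (A : Matrix (Fin n ⊕ Fin n) (Fin n ⊕ Fin n) F)) * (c⁻¹).val := by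
      have h1 : c.val * (A : Matrix (Fin n ⊕ Fin n) (Fin n ⊕ Fin n) F) = (B : Matrix (Fin n ⊕ Fin n) (Fin n ⊕ Fin n) F) * c.val := hc.eq
      rw [h1, Matrix.mul_assoc]
      simp
    have hBN : B ^ orderOf A = 1 := by
      apply Subtype.ext
      have h1 : ((B ^ orderOf A : symplecticGroup (Fin n) F) : Matrix (Fin n ⊕ Fin n) (Fin n ⊕ Fin n) F) =
          (B : Matrix (Fin n ⊕ Fin n) (Fin n ⊕ Fin n) F) ^ orderOf A := rfl
      rw [h1]
      have h2 : (A : Matrix (Fin n ⊕ Fin n) (Fin n ⊕ Fin n) F) ^ orderOf A = 1 := by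
        have h3 := congrArg Subtype.val (pow_orderOf_eq_one A)
        exact h3
      have h4 : c.val * (A : Matrix (Fin n ⊕ Fin n) (Fin n ⊕ Fin n) F) ^ orderOf A =
          (B : Matrix (Fin n ⊕ Fin n) (Fin n ⊕ Fin n) F) ^ orderOf A * c.val := (hc.pow_right (orderOf A)).eq
      rw [h2, mul_one] at h4
      have h6 := congrArg (fun x => x * (c⁻¹).val) h4
      simp only [Units.mul_inv, Matrix.mul_assoc, Matrix.mul_one] at h6
      exact h6.symm
    apply sp_conj A B (orderOf A) hcast (pow_orderOf_eq_one A) hBN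
    rw [hcB, Matrix.coe_units_inv, Matrix.charpoly_units_conj]

end Cfsg.Agent.H11.Wall
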