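import Cfsg.Agent.Lib.H11.Wall7
import Cfsg.Agent.Lib.H11.PSU3d
import Cfsg.Agent.Lib.H11.WallSp

/-! Semisimple conjugacy classes in special unitary groups. -/

set_option autoImplicit false
set_option linter.unusedSectionVars false
set_option linter.unusedVariables false

namespace Cfsg.Agent.H11.Wall

open Polynomial Module Matrix

universe u

variable {F : Type u} [Field F] [Fintype F] {q p : ℕ}

theorem natDeg_pow_sub (hq2 : 2 ≤ q) : (X ^ q - X : F[X]).natDegree = q := by
  rw [natDegree_sub_eq_left_of_natDegree_lt (by rw [natDegree_X, natDegree_X_pow]; omega), natDegree_X_pow]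

theorem exists_not_fixed (hF : Fintype.card F = q ^ 2) (hq2 : 2 ≤ q) : ∃ c : F, c ^ q ≠ c := by
  classical
  by_contra hcon
  push Not at hcon
  have hP : (X ^ q - X : F[X]) ≠ 0 := by
    have h1 : (X ^ q - X : F[X]).natDegree = q := natDeg_pow_sub hq2
    intro h
    rw [h, natDegree_zero] at h1
    omega
  have hsub : (Finset.univ : Finset F).val ⊆ (X ^ q - X : F[X]).roots := by
    intro c _
    rw [mem_roots hP]
    simp [hcon c]
  have h2 := card_le_degree_of_subset_roots hsub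
  have h3 : (X ^ q - X : F[X]).natDegree = q := natDeg_pow_sub hq2
  rw [h3, Finset.card_univ, hF] at h2
  nlinarith

theorem herm_sf [Fact p.Prime] [CharP F p] (hF : Fintype.card F = q ^ 2) (hq0 : q ≠ 0) (ρ : F →+* F) (hρ : ∀ x, ρ x = x ^ q) (n : ℕ) :
    Sf ρ 1 (Cfsg.hermForm n F q) :=
  { rho2 := fun x => by rw [hρ, hρ, PSU3.pow_q_q hF]
    eps := by simp
    add_left := fun x x' y => by
      simp only [Cfsg.hermForm, Pi.add_apply, add_mul, Finset.sum_add_distrib]
    smul_left := fun c x y => by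
      simp only [Cfsg.hermForm, Pi.smul_apply, smul_eq_mul, Finset.mul_sum, mul_assoc]
    symm := fun x y => by
      simp only [Cfsg.hermForm, one_mul, map_sum, map_mul]
      apply Finset.sum_congr rfl
      intro i _
      rw [hρ, hρ, PSU3.pow_q_q hF, mul_comm]
    nd := fun x hx => by
      funext i
      have h1 := hx (Pi.single i 1)
      simp only [Cfsg.hermForm] at h1
      rw [Finset.sum_eq_single i] at h1
      · simpa using h1
      · intro j _ hj
        rw [Pi.single_eq_of_ne hj, zero_pow hq0, mul_zero]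
      · intro hi
        exact absurd (Finset.mem_univ i) hi }

theorem su_iso (n : ℕ) (g : Cfsg.SU n F q) (x y : Fin n → F) :
    Cfsg.hermForm n F q (Matrix.toLin' ((g : SpecialLinearGroup (Fin n) F) : Matrix (Fin n) (Fin n) F) x)
      (Matrix.toLin' ((g : SpecialLinearGroup (Fin n) F) : Matrix (Fin n) (Fin n) F) y) = Cfsg.hermForm n F q x y :=
  g.2 x y

theorem su_pow_lin (n : ℕ) (g : Cfsg.SU n F q) (m : ℕ) (h : g ^ m = 1) :
    (Matrix.toLin' ((g : SpecialLinearGroup (Fin n) F) : Matrix (Fin n) (Fin n) F)) ^ m = 1 := by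
  have h1 : (((g : SpecialLinearGroup (Fin n) F) : Matrix (Fin n) (Fin n) F)) ^ m = 1 := by
    have h2 := congrArg (fun x : Cfsg.SU n F q => ((x : SpecialLinearGroup (Fin n) F) : Matrix (Fin n) (Fin n) F)) h
    simpa using h2
  have h3 := (Matrix.toLinAlgEquiv' (R := F) (n := Fin n)).map_pow (((g : SpecialLinearGroup (Fin n) F) : Matrix (Fin n) (Fin n) F)) m
  rw [h1, map_one] at h3
  exact h3.symm

/-- element of `SU` from a linear map -/
theorem su_of_lin (n : ℕ) (ψ : (Fin n → F) →ₗ[F] (Fin n → F)) (hψ : ∀ x y, Cfsg.hermForm n F q (ψ x) (ψ y) = Cfsg.hermForm n F q x y)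
    (hd : LinearMap.det ψ = 1) : ∃ c : Cfsg.SU n F q, ∀ u, ((c : SpecialLinearGroup (Fin n) F) : Matrix (Fin n) (Fin n) F) *ᵥ u = ψ u := by
  classical
  let M : Matrix (Fin n) (Fin n) F := LinearMap.toMatrix' ψ
  have hM : ∀ u, M *ᵥ u = ψ u := by
    intro u
    rw [← Matrix.toLin'_apply, Matrix.toLin'_toMatrix']
  have hdet : M.det = 1 := by
    rw [LinearMap.det_toMatrix']
    exact hd
  refine ⟨⟨⟨M, hdet⟩, ?_⟩, hM⟩
  intro u v
  change Cfsg.hermForm n F q (M *ᵥ u) (M *ᵥ v) = _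
  rw [hM, hM, hψ]

/-- semisimple elements of `SU_n(q)` with the same characteristic polynomial are conjugate -/
theorem su_conj [Fact p.Prime] [CharP F p] (hF : Fintype.card F = q ^ 2) (n : ℕ) (g h : Cfsg.SU n F q)
    (hg : (orderOf g).Coprime p) (hh : (orderOf h).Coprime p)
    (hc : ((g : SpecialLinearGroup (Fin n) F) : Matrix (Fin n) (Fin n) F).charpoly =
      ((h : SpecialLinearGroup (Fin n) F) : Matrix (Fin n) (Fin n) F).charpoly) : IsConj g h := by
  classical
  have hpP : p.Prime := Fact.out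
  obtain ⟨j, hj0, hq⟩ := PSU3.q_eq (F := F) (p := p) (q := q) hF
  have hq2 : 2 ≤ q := by
    rw [hq]
    calc 2 ≤ p := hpP.two_le
      _ = p ^ 1 := (pow_one p).symm
      _ ≤ p ^ j := Nat.pow_le_pow_right hpP.pos hj0
  have hq0 : q ≠ 0 := by omega
  obtain ⟨ρ, hρ'⟩ := PSU3.exists_rh (p := p) F hq 1
  have hρ : ∀ x, ρ x = x ^ q := fun x => by rw [hρ', pow_one]
  have hB := herm_sf (p := p) hF hq0 ρ hρ n
  have hρne : ∃ c, ρ c ≠ c := by
    obtain ⟨c, hc⟩ := exists_not_fixed hF hq2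
    exact ⟨c, by rwa [hρ]⟩
  have halt : ∀ (A : (Fin n → F) →ₗ[F] (Fin n → F)), (∀ c, ρ c = c) → ∀ v, (A v = v ∨ A v = -v) → Cfsg.hermForm n F q v v = 0 := by
    intro A h
    obtain ⟨c, hc⟩ := hρne
    exact absurd (h c) hc
  by_cases hn : n = 0
  · subst hn
    have : g = h := Subtype.ext (Subtype.ext (Subsingleton.elim _ _))
    rw [this]
  set N := orderOf g * orderOf h with hNdef
  have hNc : N.Coprime p := Nat.Coprime.mul_left hg hh
  have hN0 : (N : F) ≠ 0 := by
    intro h0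
    rw [CharP.cast_eq_zero_iff F p] at h0
    exact hpP.one_lt.ne' (Nat.Coprime.eq_one_of_dvd hNc.symm h0)
  have hN : 0 < N := Nat.pos_of_ne_zero (fun h0 => hN0 (by rw [h0]; simp))
  have hgN : g ^ N = 1 := by rw [hNdef, pow_mul, pow_orderOf_eq_one, one_pow]
  have hhN : h ^ N = 1 := by rw [hNdef, mul_comm, pow_mul, pow_orderOf_eq_one, one_pow]
  set Tg := Matrix.toLin' ((g : SpecialLinearGroup (Fin n) F) : Matrix (Fin n) (Fin n) F) with hTg
  set Th := Matrix.toLin' ((h : SpecialLinearGroup (Fin n) F) : Matrix (Fin n) (Fin n) F) with hTh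
  obtain ⟨φ, hφA, hφB⟩ := core (ρ := ρ) (ε := 1) _ (Fin n → F) (Fin n → F) _ _ hB hB Tg Th N hN hN0
    (su_pow_lin n g N hgN) (su_pow_lin n h N hhN) (su_iso n g) (su_iso n h) (halt _) (halt _) rfl
    (by rw [hTg, hTh, charpoly_toLin_eq, charpoly_toLin_eq, hc])
  have hdetφ : LinearMap.det (φ : (Fin n → F) →ₗ[F] (Fin n → F)) * ρ (LinearMap.det (φ : (Fin n → F) →ₗ[F] (Fin n → F))) = 1 :=
    dual_det ρ hB.rho2 (Cfsg.hermForm n F q) hB.add_left hB.smul_left hB.add_right hB.smul_right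
      (riesz_top hB) hB.nd_right _ _ hφB
  set d := LinearMap.det (φ : (Fin n → F) →ₗ[F] (Fin n → F)) with hd
  have hd0 : d ≠ 0 := left_ne_zero_of_mul_eq_one hdetφ
  have hρd0 : ρ d ≠ 0 := right_ne_zero_of_mul_eq_one hdetφ
  obtain ⟨c, hcA, hcB, hcd⟩ := det_lift hB Tg (su_iso n g) N hN hN0 (su_pow_lin n g N hgN) hρne
    (by simpa using hn) d⁻¹ (by
      rw [map_inv₀]
      field_simp
      rw [hdetφ])
  obtain ⟨x, hx⟩ := su_of_lin (q := q) n ((φ : (Fin n → F) →ₗ[F] (Fin n → F)) ∘ₗ c)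
    (fun a b => by
      rw [LinearMap.comp_apply, LinearMap.comp_apply]
      exact (hφB _ _).trans (hcB _ _))
    (by rw [LinearMap.det_comp, hcd, ← hd, mul_inv_cancel₀ hd0])
  rw [isConj_iff]
  have hcomm : x * g = h * x := by
    apply Subtype.ext
    apply Subtype.ext
    apply Matrix.toLin'.injective
    apply LinearMap.ext
    intro u
    rw [Matrix.toLin'_apply, Matrix.toLin'_apply]
    change (((x : SpecialLinearGroup (Fin n) F) : Matrix (Fin n) (Fin n) F) * ((g : SpecialLinearGroup (Fin n) F) : Matrix (Fin n) (Fin n) F)) *ᵥ u =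
      (((h : SpecialLinearGroup (Fin n) F) : Matrix (Fin n) (Fin n) F) * ((x : SpecialLinearGroup (Fin n) F) : Matrix (Fin n) (Fin n) F)) *ᵥ u
    rw [← Matrix.mulVec_mulVec, ← Matrix.mulVec_mulVec, hx, hx]
    have e1 : ((g : SpecialLinearGroup (Fin n) F) : Matrix (Fin n) (Fin n) F) *ᵥ u = Tg u := rfl
    have e2 : ∀ w, ((h : SpecialLinearGroup (Fin n) F) : Matrix (Fin n) (Fin n) F) *ᵥ w = Th w := fun _ => rfl
    rw [e1, e2, LinearMap.comp_apply, LinearMap.comp_apply, hcA]
    exact hφA _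
  exact ⟨x, by rw [hcomm]; group⟩

end Cfsg.Agent.H11.Wall
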