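import Cfsg.Agent.Lib.H11.GUC1
import Cfsg.Agent.Lib.H11.WallSU

/-! Hermitian elements in invariant forms; a Hilbert 90 for finite commutative rings. -/

set_option autoImplicit false
set_option linter.unusedSectionVars false
set_option linter.unusedVariables false

namespace Cfsg.Agent.H11.GUC

open Polynomial Matrix

section ring

variable {K : Type*} [Field K] (ρ : K →+* K) (hne : ∃ c, ρ c ≠ c)
  {D : Type*} [CommRing D] [Finite D] (ι : K →+* D) (σ : D →+* D) (hσ : ∀ x, σ (σ x) = x)
  (hι : ∀ c, σ (ι c) = ι (ρ c)) (T : D) (hT : T * σ T = 1)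

include hne hσ hι hT in
/-- a version of Hilbert 90 -/
theorem hilbert_ring : ∃ z, IsUnit z ∧ z = T * σ z := by
  classical
  haveI : Finite (Ideal D) := Finite.of_injective (fun I : Ideal D => (I : Set D)) SetLike.coe_injective
  let bad : D → Set (Ideal D) := fun z => {n | n.IsMaximal ∧ z ∈ n}
  have hstep : ∀ k : ℕ, ∀ z : D, z = T * σ z → (bad z).ncard = k → ∃ z', IsUnit z' ∧ z' = T * σ z' := by
    intro k
    induction k using Nat.strong_induction_on with
    | _ k ih =>
      intro z hz hk
      by_cases hu : IsUnit z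
      · exact ⟨z, hu, hz⟩
      obtain ⟨n, hn, hzn⟩ := exists_max_ideal_of_mem_nonunits hu
      -- the involution on ideals
      have hcm : ∀ m : Ideal D, m.IsMaximal → (Ideal.comap σ m).IsMaximal := by
        intro m hm
        exact Ideal.comap_isMaximal_of_surjective σ (fun x => ⟨σ x, hσ x⟩)
      have hσz : σ z = σ T * z := by
        conv_lhs => rw [hz]
        rw [map_mul, hσ]
      let n' := Ideal.comap σ n
      have hn' : n'.IsMaximal := hcm n hn
      have hzn' : z ∈ n' := by
        show σ z ∈ n
        rw [hσz]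
        exact n.mul_mem_left _ hzn
      let C : Finset (Ideal D) := (Set.toFinite {m : Ideal D | m.IsMaximal ∧ z ∉ m}).toFinset
      have hC : ∀ m, m ∈ C ↔ m.IsMaximal ∧ z ∉ m := fun m => by simp [C]
      let I : Ideal D := C.inf id
      have hI : ∀ m, m.IsMaximal → z ∉ m → I ≤ m := fun m h1 h2 => Finset.inf_le ((hC m).2 ⟨h1, h2⟩)
      have hnI : ∀ m : Ideal D, m.IsMaximal → z ∈ m → ¬ I ≤ m := by
        intro m hm hzm hle
        obtain ⟨i, hi, hil⟩ := (Ideal.IsPrime.inf_le' hm.isPrime).1 hle
        obtain ⟨h1, h2⟩ := (hC i).1 hi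
        have : i = m := h1.eq_of_le hm.ne_top hil
        exact h2 (this ▸ hzm)
      obtain ⟨f, hfI, hfn⟩ : ∃ f, f ∈ I ∧ f ∉ (n : Set D) ∪ n' := by
        by_contra hcon
        push Not at hcon
        have hsub : (I : Set D) ⊆ (n : Set D) ∪ n' := fun x hx => hcon x hx
        rcases Ideal.subset_union.1 hsub with h | h
        · exact hnI n hn hzn h
        · exact hnI n' hn' hzn' h
      have hf1 : f ∉ n := fun h => hfn (Or.inl h)
      have hf2 : σ f ∉ n := fun h => hfn (Or.inr h)
      let e := f * σ f
      have hee : σ e = e := by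
        show σ (f * σ f) = f * σ f
        rw [map_mul, hσ, mul_comm]
      have heI : e ∈ I := I.mul_mem_right _ hfI
      have hen : e ∉ n := fun h => (hn.isPrime.mem_or_mem h).elim hf1 hf2
      -- a suitable element of the fixed module
      obtain ⟨w, hw, hwn⟩ : ∃ w, w = T * σ w ∧ w ∉ n := by
        have hw1 : (1 + T) = T * σ (1 + T) := by
          rw [map_add, map_one, mul_add, hT, mul_one, add_comm]
        obtain ⟨c, hc⟩ := hne
        have hw2 : (ι c + T * ι (ρ c)) = T * σ (ι c + T * ι (ρ c)) := by
          rw [map_add, map_mul, hι, hι, mul_add, ← mul_assoc, hT, one_mul]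
          have : ρ (ρ c) = c := by
            have h1 := hσ (ι c)
            rw [hι, hι] at h1
            by_cases hD : Subsingleton D
            · exact absurd hn.ne_top (by
                intro h
                exact h (Subsingleton.elim _ _))
            · haveI : Nontrivial D := not_subsingleton_iff_nontrivial.1 hD
              exact ι.injective h1
          rw [this, add_comm]
        by_cases h1 : (1 + T) ∈ n
        · refine ⟨_, hw2, fun h2 => ?_⟩
          have h3 : ι c - ι (ρ c) ∈ n := by
            have e1 : ι c - ι (ρ c) = (ι c + T * ι (ρ c)) - ι (ρ c) * (1 + T) := by ring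
            rw [e1]
            exact n.sub_mem h2 (n.mul_mem_left _ h1)
          rw [← map_sub] at h3
          have hu' : IsUnit (ι (c - ρ c)) := (IsUnit.mk0 (c - ρ c) (sub_ne_zero.2 hc.symm)).map ι
          exact hn.ne_top (Ideal.eq_top_of_isUnit_mem _ h3 hu')
        · exact ⟨_, hw1, h1⟩
      have hz' : z + e * w = T * σ (z + e * w) := by
        rw [map_add, map_mul, hee, mul_add]
        nth_rewrite 1 [hz, hw]
        ring
      have hsub : bad (z + e * w) ⊂ bad z := by
        constructor
        · rintro m ⟨hm, hzm⟩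
          refine ⟨hm, ?_⟩
          by_contra hzm'
          have h1 : e ∈ m := hI m hm hzm' heI
          have h2 : z ∈ m := by
            have := m.sub_mem hzm (m.mul_mem_right w h1)
            simpa using this
          exact hzm' h2
        · intro hsub
          have h1 : n ∈ bad (z + e * w) := hsub ⟨hn, hzn⟩
          have h2 : e * w ∈ n := by
            have := n.sub_mem h1.2 hzn
            simpa using this
          exact (hn.isPrime.mem_or_mem h2).elim hen hwn
      have hlt : (bad (z + e * w)).ncard < k := by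
        rw [← hk]
        exact Set.ncard_lt_ncard hsub (Set.toFinite _)
      exact ih _ hlt _ hz' rfl
  exact hstep _ 0 (by simp) rfl

end ring

section matrix

variable {K : Type*} [Field K] [Fintype K] {n : ℕ} (ρ : K →+* K)

/-- conjugate transpose -/
def dg (M : Matrix (Fin n) (Fin n) K) : Matrix (Fin n) (Fin n) K := (M.map ρ)ᵀ

theorem dg_mul (M N : Matrix (Fin n) (Fin n) K) : dg ρ (M * N) = dg ρ N * dg ρ M := by
  unfold dg
  rw [Matrix.map_mul, Matrix.transpose_mul]

theorem dg_one : dg ρ (1 : Matrix (Fin n) (Fin n) K) = 1 := by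
  unfold dg
  rw [Matrix.map_one ρ (map_zero ρ) (map_one ρ), Matrix.transpose_one]

theorem dg_add (M N : Matrix (Fin n) (Fin n) K) : dg ρ (M + N) = dg ρ M + dg ρ N := by
  unfold dg
  rw [Matrix.map_add ρ (map_add ρ), Matrix.transpose_add]

theorem dg_smul (a : K) (M : Matrix (Fin n) (Fin n) K) : dg ρ (a • M) = ρ a • dg ρ M := by
  ext i j
  simp [dg]

theorem dg_pow (M : Matrix (Fin n) (Fin n) K) (k : ℕ) : dg ρ (M ^ k) = (dg ρ M) ^ k := by
  induction k with
  | zero => simp [dg_one]
  | succ k ih => rw [pow_succ, dg_mul, ih, pow_succ']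

theorem dg_dg (hρ : ∀ x, ρ (ρ x) = x) (M : Matrix (Fin n) (Fin n) K) : dg ρ (dg ρ M) = M := by
  ext i j
  simp [dg, hρ]

theorem dg_aeval (c : Matrix (Fin n) (Fin n) K) (f : K[X]) : dg ρ (aeval c f) = aeval (dg ρ c) (f.map ρ) := by
  induction f using Polynomial.induction_on' with
  | add p q hp hq => rw [map_add, dg_add, hp, hq, Polynomial.map_add, map_add]
  | monomial k a =>
    rw [Polynomial.aeval_monomial, Polynomial.map_monomial, Polynomial.aeval_monomial,
      Algebra.algebraMap_eq_smul_one, Algebra.algebraMap_eq_smul_one, smul_mul_assoc, smul_mul_assoc, one_mul, one_mul, dg_smul, dg_pow]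

theorem aeval_commute (c A : Matrix (Fin n) (Fin n) K) (h : c * A = A * c) (f : K[X]) :
    aeval c f * A = A * aeval c f := by
  induction f using Polynomial.induction_on' with
  | add p q hp hq => rw [map_add, add_mul, mul_add, hp, hq]
  | monomial k a =>
    rw [Polynomial.aeval_monomial, Algebra.algebraMap_eq_smul_one, smul_mul_assoc, one_mul, smul_mul_assoc, mul_smul_comm]
    congr 1
    exact (Commute.pow_left h k).eq

/-- Hermitian invertible matrices are norms of polynomials in themselves -/
theorem exists_norm_matrix (hρ : ∀ x, ρ (ρ x) = x) (hne : ∃ c, ρ c ≠ c) (c : Matrix (Fin n) (Fin n) K)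
    (hc : dg ρ c = c) (hdet : IsUnit c.det) : ∃ f : K[X], dg ρ (aeval c f) * aeval c f = c := by
  classical
  have hm : c.charpoly.Monic := Matrix.charpoly_monic c
  have hmap : c.map ρ = cᵀ := by
    have : (c.map ρ)ᵀ = c := hc
    calc c.map ρ = ((c.map ρ)ᵀ)ᵀ := (Matrix.transpose_transpose _).symm
      _ = cᵀ := by rw [this]
  have hfix : c.charpoly.map ρ = c.charpoly := by
    rw [← Matrix.charpoly_map, hmap, Matrix.charpoly_transpose]
  have h0 : c.charpoly.coeff 0 ≠ 0 := by
    intro h
    have h1 := Matrix.det_eq_sign_charpoly_coeff c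
    rw [h, mul_zero] at h1
    rw [h1] at hdet
    exact not_isUnit_zero hdet
  obtain ⟨r, hr⟩ := herm_norm ρ hρ hne _ c.charpoly rfl hm hfix h0
  refine ⟨r, ?_⟩
  rw [dg_aeval, hc, ← map_mul]
  obtain ⟨y, hy⟩ := hr
  have h3 : r.map ρ * r = X + c.charpoly * y := by
    rw [← hy]
    ring
  rw [h3, map_add, map_mul, Matrix.aeval_self_charpoly, zero_mul, add_zero, Polynomial.aeval_X]

end matrix

end Cfsg.Agent.H11.GUC
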