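import Cfsg.Agent.Lib.H11.GUC2

/-! Conjugacy in the general unitary groups. -/

set_option autoImplicit false
set_option linter.unusedSectionVars false
set_option linter.unusedVariables false

namespace Cfsg.Agent.H11.GUC

open Polynomial Matrix

variable {K : Type*} [Field K] [Fintype K] {n : ℕ} {q : ℕ} (ρ : K →+* K) (hρq : ∀ x, ρ x = x ^ q) (hρ : ∀ x, ρ (ρ x) = x)

include hρq in
theorem herm_mat (M : Matrix (Fin n) (Fin n) K) (u v : Fin n → K) :
    Cfsg.hermForm n K q (M *ᵥ u) (M *ᵥ v) = u ⬝ᵥ ((Mᵀ * M.map ρ) *ᵥ (fun i => ρ (v i))) := by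
  have e1 : ∀ x y : Fin n → K, Cfsg.hermForm n K q x y = x ⬝ᵥ (fun i => ρ (y i)) := by
    intro x y
    unfold Cfsg.hermForm
    simp only [dotProduct, hρq]
  have e2 : (fun i => ρ ((M *ᵥ v) i)) = M.map ρ *ᵥ (fun i => ρ (v i)) := by
    funext i
    simp only [Matrix.mulVec, dotProduct, map_sum, map_mul, Matrix.map_apply]
  have e3 : ∀ w : Fin n → K, (M *ᵥ u) ⬝ᵥ w = u ⬝ᵥ (Mᵀ *ᵥ w) := by
    intro w
    rw [← Matrix.vecMul_transpose M u, ← Matrix.dotProduct_mulVec]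
  rw [e1, e2, e3, Matrix.mulVec_mulVec]

include hρq hρ in
theorem mem_gu_iff (g : GL (Fin n) K) : g ∈ Cfsg.GU n K q ↔ dg ρ g.1 * g.1 = 1 := by
  have hN : ∀ M : Matrix (Fin n) (Fin n) K, (dg ρ M * M).map ρ = Mᵀ * M.map ρ := by
    intro M
    rw [Matrix.map_mul]
    congr 1
    ext i j
    simp [dg, hρ]
  constructor
  · intro h
    have h1 : ∀ u v : Fin n → K, Cfsg.hermForm n K q (g.1 *ᵥ u) (g.1 *ᵥ v) = Cfsg.hermForm n K q u v := h
    have h2 : g.1ᵀ * g.1.map ρ = 1 := by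
      apply Matrix.ext_of_mulVec_single
      intro j
      rw [Matrix.one_mulVec]
      funext i
      have h3 := h1 (Pi.single i 1) (fun k => ρ ((Pi.single j (1 : K) : Fin n → K) k))
      rw [herm_mat ρ hρq, single_dotProduct, one_mul] at h3
      have e : (fun k => ρ (ρ ((Pi.single j (1 : K) : Fin n → K) k))) = (Pi.single j (1 : K) : Fin n → K) := by
        funext k
        rw [hρ]
      rw [e] at h3
      rw [h3]
      unfold Cfsg.hermForm
      rw [Finset.sum_eq_single i]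
      · simp only [Pi.single_eq_same, one_mul]
        rw [← hρq, hρ]
      · intro b _ hb
        rw [Pi.single_eq_of_ne hb, zero_mul]
      · intro h
        exact absurd (Finset.mem_univ _) h
    have h3 : (dg ρ g.1 * g.1).map ρ = (1 : Matrix (Fin n) (Fin n) K).map ρ := by
      rw [hN, h2, Matrix.map_one ρ (map_zero ρ) (map_one ρ)]
    ext i j
    have := congrFun (congrFun h3 i) j
    simp only [Matrix.map_apply] at this
    exact ρ.injective this
  · intro h u v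
    have h2 : g.1ᵀ * g.1.map ρ = 1 := by
      rw [← hN, h, Matrix.map_one ρ (map_zero ρ) (map_one ρ)]
    change Cfsg.hermForm n K q (g.1 *ᵥ u) (g.1 *ᵥ v) = Cfsg.hermForm n K q u v
    rw [herm_mat ρ hρq, h2, Matrix.one_mulVec]
    unfold Cfsg.hermForm
    simp only [dotProduct, hρq]

theorem inv_of_dg {M : Matrix (Fin n) (Fin n) K} (h : dg ρ M * M = 1) : M * dg ρ M = 1 :=
  mul_eq_one_comm.1 h

include hρq hρ in
/-- conjugacy in the unitary group -/
theorem conj_of_gl (hne : ∃ c, ρ c ≠ c) (A B : ↥(Cfsg.GU n K q)) (h : IsConj (A : GL (Fin n) K) (B : GL (Fin n) K)) :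
    IsConj A B := by
  classical
  obtain ⟨g, hg⟩ := isConj_iff.1 h
  have hAA := (mem_gu_iff ρ hρq hρ A.1).1 A.2
  have hBB := (mem_gu_iff ρ hρq hρ B.1).1 B.2
  set a : Matrix (Fin n) (Fin n) K := A.1.1 with ha
  set b : Matrix (Fin n) (Fin n) K := B.1.1 with hb
  set G : Matrix (Fin n) (Fin n) K := g.1 with hG
  have hgA : G * a = b * G := by
    have h1 : g * A.1 = B.1 * g := by
      rw [← hg]
      group
    exact congrArg Units.val h1
  have hGu : IsUnit G.det := (Matrix.isUnit_iff_isUnit_det _).1 g.isUnit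
  have hdgG : IsUnit (dg ρ G) := by
    refine IsUnit.of_mul_eq_one ((dg ρ ((g⁻¹ : GL (Fin n) K).1))) ?_
    rw [← dg_mul]
    have : (g⁻¹ : GL (Fin n) K).1 * G = 1 := congrArg Units.val (inv_mul_cancel g)
    rw [this, dg_one]
  let c := dg ρ G * G
  have hch : dg ρ c = c := by
    simp only [c]
    rw [dg_mul, dg_dg ρ hρ]
  have hcdet : IsUnit c.det := by
    rw [Matrix.det_mul]
    exact ((Matrix.isUnit_iff_isUnit_det _).1 hdgG).mul hGu
  have hca : dg ρ a * c * a = c := by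
    have e : dg ρ a * c * a = dg ρ (G * a) * (G * a) := by
      simp only [c]
      rw [dg_mul]
      simp only [mul_assoc]
    rw [e, hgA, dg_mul]
    calc dg ρ G * dg ρ b * (b * G) = dg ρ G * (dg ρ b * b) * G := by simp only [mul_assoc]
      _ = c := by rw [hBB, mul_one]
  have hcomm : c * a = a * c := by
    calc c * a = (a * dg ρ a) * c * a := by rw [inv_of_dg ρ hAA, one_mul]
      _ = a * (dg ρ a * c * a) := by simp only [mul_assoc]
      _ = a * c := by rw [hca]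
  obtain ⟨f, hf⟩ := exists_norm_matrix ρ hρ hne c hch hcdet
  set y := aeval c f with hy
  have hyu : IsUnit y.det := by
    have h1 : IsUnit (dg ρ y * y).det := by rw [hf]; exact hcdet
    rw [Matrix.det_mul] at h1
    exact isUnit_of_mul_isUnit_right h1
  let Y : GL (Fin n) K := Matrix.GeneralLinearGroup.mk'' y hyu
  have hYv : Y.1 = y := rfl
  let H : GL (Fin n) K := g * Y⁻¹
  have hya : y * a = a * y := aeval_commute c a hcomm f
  have hYi : (Y⁻¹ : GL (Fin n) K).1 * y = 1 := congrArg Units.val (inv_mul_cancel Y)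
  have hYi' : y * (Y⁻¹ : GL (Fin n) K).1 = 1 := congrArg Units.val (mul_inv_cancel Y)
  have hHmem : H ∈ Cfsg.GU n K q := by
    rw [mem_gu_iff ρ hρq hρ]
    change dg ρ (G * (Y⁻¹ : GL (Fin n) K).1) * (G * (Y⁻¹ : GL (Fin n) K).1) = 1
    rw [dg_mul]
    calc dg ρ (Y⁻¹ : GL (Fin n) K).1 * dg ρ G * (G * (Y⁻¹ : GL (Fin n) K).1)
        = dg ρ (Y⁻¹ : GL (Fin n) K).1 * c * (Y⁻¹ : GL (Fin n) K).1 := by simp only [c, mul_assoc]
      _ = dg ρ (Y⁻¹ : GL (Fin n) K).1 * (dg ρ y * y) * (Y⁻¹ : GL (Fin n) K).1 := by rw [hf]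
      _ = dg ρ (y * (Y⁻¹ : GL (Fin n) K).1) * (y * (Y⁻¹ : GL (Fin n) K).1) := by
          rw [dg_mul]
          simp only [mul_assoc]
      _ = 1 := by rw [hYi', dg_one, one_mul]
  refine isConj_iff.2 ⟨⟨H, hHmem⟩, ?_⟩
  apply Subtype.ext
  apply Units.ext
  have h1 : ((⟨H, hHmem⟩ * A * (⟨H, hHmem⟩ : ↥(Cfsg.GU n K q))⁻¹ : ↥(Cfsg.GU n K q)) : GL (Fin n) K) = H * A.1 * H⁻¹ := rfl
  rw [h1]
  have h2 : H * A.1 = B.1 * H := by
    apply Units.ext
    change G * (Y⁻¹ : GL (Fin n) K).1 * a = b * (G * (Y⁻¹ : GL (Fin n) K).1)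
    have e : (Y⁻¹ : GL (Fin n) K).1 * a = a * (Y⁻¹ : GL (Fin n) K).1 := by
      calc (Y⁻¹ : GL (Fin n) K).1 * a = (Y⁻¹ : GL (Fin n) K).1 * a * (y * (Y⁻¹ : GL (Fin n) K).1) := by rw [hYi', mul_one]
        _ = (Y⁻¹ : GL (Fin n) K).1 * (a * y) * (Y⁻¹ : GL (Fin n) K).1 := by simp only [mul_assoc]
        _ = (Y⁻¹ : GL (Fin n) K).1 * (y * a) * (Y⁻¹ : GL (Fin n) K).1 := by rw [hya]
        _ = ((Y⁻¹ : GL (Fin n) K).1 * y) * a * (Y⁻¹ : GL (Fin n) K).1 := by simp only [mul_assoc]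
        _ = a * (Y⁻¹ : GL (Fin n) K).1 := by rw [hYi, one_mul]
    rw [mul_assoc, e, ← mul_assoc, hgA, mul_assoc]
  rw [h2]
  simp

end Cfsg.Agent.H11.GUC
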