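import Cfsg.Agent.Lib.H11.GUC3

/-! Which matrices are conjugate to unitary ones. -/

set_option autoImplicit false
set_option linter.unusedSectionVars false
set_option linter.unusedVariables false

namespace Cfsg.Agent.H11.GUC

open Polynomial Matrix

variable {K : Type*} [Field K] [Fintype K] {n : ℕ} {q : ℕ} (ρ : K →+* K) (hρ : ∀ x, ρ (ρ x) = x)

include hρ in
/-- from an invertible invariant form to an invertible invariant Hermitian form -/
theorem exists_herm (hne : ∃ c, ρ c ≠ c) (a : Matrix (Fin n) (Fin n) K) (P P' : Matrix (Fin n) (Fin n) K)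
    (hPP' : P * P' = 1) (hP'P : P' * P = 1) (h : dg ρ a * P * a = P) (ha : IsUnit a) :
    ∃ c : Matrix (Fin n) (Fin n) K, dg ρ c = c ∧ IsUnit c.det ∧ dg ρ a * c * a = c := by
  classical
  -- the element `T`
  let T₀ : Matrix (Fin n) (Fin n) K := P' * dg ρ P
  have hdgP : dg ρ P * dg ρ P' = 1 := by
    rw [← dg_mul, hP'P, dg_one]
  have hdgP' : dg ρ P' * dg ρ P = 1 := by
    rw [← dg_mul, hPP', dg_one]
  let T₁ : Matrix (Fin n) (Fin n) K := dg ρ P' * P
  have hT01 : T₀ * T₁ = 1 := by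
    calc P' * dg ρ P * (dg ρ P' * P) = P' * (dg ρ P * dg ρ P') * P := by simp only [mul_assoc]
      _ = 1 := by rw [hdgP, mul_one, hP'P]
  have hT10 : T₁ * T₀ = 1 := mul_eq_one_comm.1 hT01
  let T : GL (Fin n) K := ⟨T₀, T₁, hT01, hT10⟩
  have hTv : T.1 = T₀ := rfl
  let o := orderOf T
  have ho : 0 < o := orderOf_pos T
  have hTo : T₀ ^ o = 1 := by
    have : T ^ o = 1 := pow_orderOf_eq_one T
    have h2 := congrArg Units.val this
    simpa using h2
  have hdgT : P' * dg ρ T₀ * P = T₁ := by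
    simp only [T₀]
    rw [dg_mul, dg_dg ρ hρ]
    calc P' * (P * dg ρ P') * P = (P' * P) * (dg ρ P' * P) := by simp only [mul_assoc]
      _ = T₁ := by rw [hP'P, one_mul]
  have hT1 : T₁ = T₀ ^ (o - 1) := by
    have h3 : T₀ ^ (o - 1) * T₀ = 1 := by
      rw [← pow_succ]
      have : o - 1 + 1 = o := by omega
      rw [this, hTo]
    calc T₁ = (T₀ ^ (o - 1) * T₀) * T₁ := by rw [h3, one_mul]
      _ = T₀ ^ (o - 1) * (T₀ * T₁) := by rw [mul_assoc]
      _ = T₀ ^ (o - 1) := by rw [hT01, mul_one]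
  -- the ring
  let M : K[X] := X ^ o - C 1
  have hMm : M.Monic := Polynomial.monic_X_pow_sub_C 1 (by omega)
  haveI : Module.Finite K (AdjoinRoot M) := (AdjoinRoot.powerBasis' hMm).finite
  haveI : Finite (AdjoinRoot M) := Module.finite_of_finite K
  let R : AdjoinRoot M := AdjoinRoot.root M
  have hRo : R ^ o = 1 := by
    have h1 : AdjoinRoot.mk M M = 0 := AdjoinRoot.mk_self
    simp only [M, map_sub, map_pow, AdjoinRoot.mk_X, AdjoinRoot.mk_C, map_one] at h1
    exact sub_eq_zero.1 h1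
  let Y : AdjoinRoot M := R ^ (o - 1)
  have hRY : R * Y = 1 := by
    show R * R ^ (o - 1) = 1
    rw [← pow_succ']
    have : o - 1 + 1 = o := by omega
    rw [this, hRo]
  have hYo : Y ^ o = 1 := by
    show (R ^ (o - 1)) ^ o = 1
    rw [← pow_mul, mul_comm, pow_mul, hRo, one_pow]
  have hMev : ∀ {S : Type _} [CommRing S] (φ : K →+* S) (x : S), x ^ o = 1 → Polynomial.eval₂ φ x M = 0 := by
    intro S _ φ x hx
    show Polynomial.eval₂ φ x (X ^ o - C 1) = 0
    rw [Polynomial.eval₂_sub, Polynomial.eval₂_pow, Polynomial.eval₂_X, Polynomial.eval₂_C, map_one, hx, sub_self]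
  let σ : AdjoinRoot M →+* AdjoinRoot M := AdjoinRoot.lift ((AdjoinRoot.of M).comp ρ) Y (hMev _ _ hYo)
  have hσof : ∀ c, σ (AdjoinRoot.of M c) = AdjoinRoot.of M (ρ c) := fun c => by
    simp [σ]
  have hσR : σ R = Y := by
    simp [σ, R]
  have hσY : σ Y = R := by
    have h1 : σ Y = Y ^ (o - 1) := by
      show σ (R ^ (o - 1)) = _
      rw [map_pow, hσR]
    rw [h1]
    have h2 : Y * Y ^ (o - 1) = 1 := by
      rw [← pow_succ']
      have : o - 1 + 1 = o := by omega
      rw [this, hYo]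
    calc Y ^ (o - 1) = (R * Y) * Y ^ (o - 1) := by rw [hRY, one_mul]
      _ = R * (Y * Y ^ (o - 1)) := by rw [mul_assoc]
      _ = R := by rw [h2, mul_one]
  have hσσ : ∀ x, σ (σ x) = x := by
    have hcomp : σ.comp σ = RingHom.id _ := by
      apply Ideal.Quotient.ringHom_ext
      apply Polynomial.ringHom_ext
      · intro c
        change σ (σ (AdjoinRoot.of M c)) = AdjoinRoot.of M c
        rw [hσof, hσof, hρ]
      · change σ (σ R) = R
        rw [hσR, hσY]
    intro x
    exact congrArg (fun φ : AdjoinRoot M →+* AdjoinRoot M => φ x) hcomp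
  -- the evaluation
  have hker : ∀ f ∈ (Ideal.span {M} : Ideal K[X]), (aeval T₀ : K[X] →ₐ[K] Matrix (Fin n) (Fin n) K).toRingHom f = 0 := by
    intro f hf
    obtain ⟨g, rfl⟩ := Ideal.mem_span_singleton'.1 hf
    have h0 : aeval T₀ M = 0 := by
      show aeval T₀ (X ^ o - C 1) = 0
      rw [map_sub, map_pow, Polynomial.aeval_X, Polynomial.aeval_C, map_one, hTo, sub_self]
    show aeval T₀ (g * M) = 0
    rw [map_mul, h0, mul_zero]
  let E : AdjoinRoot M →+* Matrix (Fin n) (Fin n) K := Ideal.Quotient.lift _ (aeval T₀ : K[X] →ₐ[K] Matrix (Fin n) (Fin n) K).toRingHom hker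
  have hEmk : ∀ f, E (AdjoinRoot.mk M f) = aeval T₀ f := fun f => rfl
  have hER : E R = T₀ := by
    have := hEmk X
    rwa [Polynomial.aeval_X, AdjoinRoot.mk_X] at this
  have hEof : ∀ c, E (AdjoinRoot.of M c) = algebraMap K _ c := fun c => by
    have := hEmk (C c)
    rwa [Polynomial.aeval_C] at this
  have e3 : ∀ k : ℕ, P' * (dg ρ T₀) ^ k * P = T₁ ^ k := by
    intro k
    induction k with
    | zero => simp [hP'P]
    | succ k ih =>
      rw [pow_succ, pow_succ, ← ih, ← hdgT]
      calc P' * ((dg ρ T₀) ^ k * dg ρ T₀) * P = (P' * (dg ρ T₀) ^ k) * dg ρ T₀ * P := by simp only [mul_assoc]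
        _ = (P' * (dg ρ T₀) ^ k) * (P * P') * dg ρ T₀ * P := by rw [hPP', mul_one]
        _ = _ := by simp only [mul_assoc]
  have hEσ : ∀ x, E (σ x) = P' * dg ρ (E x) * P := by
    intro x
    obtain ⟨f, rfl⟩ := AdjoinRoot.mk_surjective x
    induction f using Polynomial.induction_on' with
    | add p q hp hq =>
      have e : AdjoinRoot.mk M (p + q) = AdjoinRoot.mk M p + AdjoinRoot.mk M q := map_add _ _ _
      rw [e, map_add σ, map_add E, map_add E, hp, hq, dg_add, mul_add, add_mul]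
    | monomial k c =>
      have e1 : AdjoinRoot.mk M (monomial k c) = AdjoinRoot.of M c * R ^ k := by
        rw [← C_mul_X_pow_eq_monomial, map_mul, map_pow]
        rfl
      have e2 : E (Y ^ k) = T₁ ^ k := by
        rw [map_pow]
        congr 1
        show E (R ^ (o - 1)) = T₁
        rw [map_pow, hER, hT1]
      rw [e1, map_mul, map_mul, map_mul, map_pow, hσof, hσR, hEof, hEof, e2, map_pow, hER,
        Algebra.algebraMap_eq_smul_one, Algebra.algebraMap_eq_smul_one, smul_mul_assoc, one_mul, smul_mul_assoc, one_mul, dg_smul, dg_pow,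
        Matrix.mul_smul, Matrix.smul_mul, e3]
  obtain ⟨z, hzu, hz⟩ := hilbert_ring ρ hne (AdjoinRoot.of M) σ hσσ hσof R (by rw [hσR]; exact hRY)
  -- commutation
  obtain ⟨ai, hai⟩ : ∃ ai : Matrix (Fin n) (Fin n) K, a * ai = 1 := by
    obtain ⟨u, rfl⟩ := ha
    exact ⟨(u⁻¹ : (Matrix (Fin n) (Fin n) K)ˣ).1, u.mul_inv⟩
  have hia : ai * a = 1 := mul_eq_one_comm.1 hai
  have hdai : dg ρ ai * dg ρ a = 1 := by
    rw [← dg_mul, hai, dg_one]
  have h' : dg ρ a * dg ρ P * a = dg ρ P := by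
    have := congrArg (dg ρ) h
    rw [dg_mul, dg_mul, dg_dg ρ hρ, ← mul_assoc] at this
    exact this
  have h1 : P * a = dg ρ ai * P := by
    calc P * a = (dg ρ ai * dg ρ a) * P * a := by rw [hdai, one_mul]
      _ = dg ρ ai * (dg ρ a * P * a) := by simp only [mul_assoc]
      _ = dg ρ ai * P := by rw [h]
  have h2 : dg ρ P * a = dg ρ ai * dg ρ P := by
    calc dg ρ P * a = (dg ρ ai * dg ρ a) * dg ρ P * a := by rw [hdai, one_mul]
      _ = dg ρ ai * (dg ρ a * dg ρ P * a) := by simp only [mul_assoc]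
      _ = dg ρ ai * dg ρ P := by rw [h']
  have h3 : a * P' = P' * dg ρ ai := by
    calc a * P' = (P' * P) * a * P' := by rw [hP'P, one_mul]
      _ = P' * (P * a) * P' := by simp only [mul_assoc]
      _ = P' * (dg ρ ai * P) * P' := by rw [h1]
      _ = P' * dg ρ ai * (P * P') := by simp only [mul_assoc]
      _ = P' * dg ρ ai := by rw [hPP', mul_one]
  have hTa : T₀ * a = a * T₀ := by
    show P' * dg ρ P * a = a * (P' * dg ρ P)
    rw [mul_assoc, h2, ← mul_assoc, ← h3, mul_assoc]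
  have hcomm : ∀ x, E x * a = a * E x := by
    intro x
    obtain ⟨f, rfl⟩ := AdjoinRoot.mk_surjective x
    rw [hEmk]
    exact aeval_commute T₀ a hTa f
  let s := E z
  have hsu : IsUnit s := hzu.map E
  refine ⟨P * s, ?_, ?_, ?_⟩
  · rw [dg_mul]
    have h4 : dg ρ s = P * E (σ z) * P' := by
      have hs : s = E z := rfl
      rw [hEσ, ← hs]
      calc dg ρ s = (P * P') * dg ρ s * (P * P') := by rw [hPP', one_mul, mul_one]
        _ = _ := by simp only [mul_assoc]
    rw [h4]
    have h5 : P' * dg ρ P = E R := by rw [hER]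
    calc P * E (σ z) * P' * dg ρ P = P * E (σ z) * (P' * dg ρ P) := by rw [mul_assoc]
      _ = P * (E (σ z) * E R) := by rw [h5, mul_assoc]
      _ = P * s := by
        rw [← map_mul, mul_comm, ← hz]
  · have h6 : IsUnit (P * s) := (IsUnit.of_mul_eq_one P' hPP').mul hsu
    exact (Matrix.isUnit_iff_isUnit_det _).1 h6
  · calc dg ρ a * (P * s) * a = dg ρ a * P * (s * a) := by simp only [mul_assoc]
      _ = dg ρ a * P * (a * s) := by rw [hcomm z]
      _ = (dg ρ a * P * a) * s := by simp only [mul_assoc]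
      _ = P * s := by rw [h]

end Cfsg.Agent.H11.GUC
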