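import Cfsg.Agent.Lib.H11.GUC4

/-! Final statements on the unitary groups. -/

set_option autoImplicit false
set_option linter.unusedSectionVars false
set_option linter.unusedVariables false

namespace Cfsg.Agent.H11.GUC

open Polynomial Matrix

variable {K : Type*} [Field K] [Fintype K] {n q : ℕ}

theorem setup (hK : Fintype.card K = q ^ 2) : ∃ ρ : K →+* K, (∀ x, ρ x = x ^ q) ∧ (∀ x, ρ (ρ x) = x) ∧ ∃ c, ρ c ≠ c := by
  classical
  obtain ⟨p, hp⟩ := CharP.exists K
  haveI hpf : Fact p.Prime := ⟨CharP.char_is_prime K p⟩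
  obtain ⟨j, hj0, hq⟩ := Cfsg.Agent.H11.PSU3.q_eq (F := K) (p := p) (q := q) hK
  have hq2 : 2 ≤ q := by
    rw [hq]
    calc 2 ≤ p := hpf.out.two_le
      _ = p ^ 1 := (pow_one p).symm
      _ ≤ p ^ j := Nat.pow_le_pow_right hpf.out.pos hj0
  obtain ⟨ρ, hρ'⟩ := Cfsg.Agent.H11.PSU3.exists_rh (p := p) K hq 1
  have hρ : ∀ x, ρ x = x ^ q := fun x => by rw [hρ', pow_one]
  refine ⟨ρ, hρ, ?_, ?_⟩
  · intro x
    rw [hρ, hρ]
    exact Cfsg.Agent.H11.PSU3.pow_q_q hK x
  · obtain ⟨c, hc⟩ := Cfsg.Agent.H11.Wall.exists_not_fixed hK hq2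
    exact ⟨c, by rwa [hρ]⟩

theorem gu_conj_iff (hK : Fintype.card K = q ^ 2) (A B : ↥(Cfsg.GU n K q)) :
    IsConj A B ↔ IsConj (A : GL (Fin n) K) (B : GL (Fin n) K) := by
  obtain ⟨ρ, hρq, hρ, hne⟩ := setup (q := q) hK
  constructor
  · intro h
    obtain ⟨c, hc⟩ := isConj_iff.1 h
    exact isConj_iff.2 ⟨c.1, congrArg Subtype.val hc⟩
  · exact conj_of_gl ρ hρq hρ hne A B

theorem gu_similar_iff (hK : Fintype.card K = q ^ 2) (A : GL (Fin n) K) :
    (∃ B : ↥(Cfsg.GU n K q), IsConj A (B : GL (Fin n) K)) ↔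
      IsConj (A : Matrix (Fin n) (Fin n) K) (((A : Matrix (Fin n) (Fin n) K).map (fun x : K => x ^ q)).transpose)⁻¹ := by
  classical
  obtain ⟨ρ, hρq, hρ, hne⟩ := setup (q := q) hK
  set a : Matrix (Fin n) (Fin n) K := A.1 with ha
  have hX : ((a.map (fun x : K => x ^ q)).transpose) = dg ρ a := by
    ext i j
    simp [dg, hρq]
  rw [hX]
  set ai : Matrix (Fin n) (Fin n) K := (A⁻¹ : GL (Fin n) K).1 with hai
  have haai : a * ai = 1 := congrArg Units.val (mul_inv_cancel A)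
  have haia : ai * a = 1 := congrArg Units.val (inv_mul_cancel A)
  have hd1 : dg ρ ai * dg ρ a = 1 := by rw [← dg_mul, haai, dg_one]
  have hd2 : dg ρ a * dg ρ ai = 1 := by rw [← dg_mul, haia, dg_one]
  have hinv : (dg ρ a)⁻¹ = dg ρ ai := Matrix.inv_eq_right_inv hd2
  rw [hinv]
  constructor
  · rintro ⟨B, hB⟩
    obtain ⟨g, hg⟩ := isConj_iff.1 hB
    have hBB := (mem_gu_iff ρ hρq hρ B.1).1 B.2
    set b : Matrix (Fin n) (Fin n) K := B.1.1 with hb
    set G : Matrix (Fin n) (Fin n) K := g.1 with hG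
    set G' : Matrix (Fin n) (Fin n) K := (g⁻¹ : GL (Fin n) K).1 with hG'
    have hGG' : G * G' = 1 := congrArg Units.val (mul_inv_cancel g)
    have hG'G : G' * G = 1 := congrArg Units.val (inv_mul_cancel g)
    have hgA : G * a = b * G := by
      have h1 : g * A = B.1 * g := by
        rw [← hg]
        group
      exact congrArg Units.val h1
    have hd3 : dg ρ G * dg ρ G' = 1 := by rw [← dg_mul, hG'G, dg_one]
    have hd4 : dg ρ G' * dg ρ G = 1 := by rw [← dg_mul, hGG', dg_one]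
    let U : (Matrix (Fin n) (Fin n) K)ˣ :=
      ⟨dg ρ G * G, G' * dg ρ G', by
        calc dg ρ G * G * (G' * dg ρ G') = dg ρ G * (G * G') * dg ρ G' := by simp only [mul_assoc]
          _ = 1 := by rw [hGG', mul_one, hd3], by
        calc G' * dg ρ G' * (dg ρ G * G) = G' * (dg ρ G' * dg ρ G) * G := by simp only [mul_assoc]
          _ = 1 := by rw [hd4, mul_one, hG'G]⟩
    refine ⟨U, ?_⟩
    show dg ρ G * G * a = dg ρ ai * (dg ρ G * G)
    have h5 : dg ρ a * (dg ρ G * G) * a = dg ρ G * G := by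
      have e : dg ρ a * (dg ρ G * G) * a = dg ρ (G * a) * (G * a) := by
        rw [dg_mul]
        simp only [mul_assoc]
      rw [e, hgA, dg_mul]
      calc dg ρ G * dg ρ b * (b * G) = dg ρ G * (dg ρ b * b) * G := by simp only [mul_assoc]
        _ = dg ρ G * G := by rw [hBB, mul_one]
    calc dg ρ G * G * a = (dg ρ ai * dg ρ a) * (dg ρ G * G) * a := by rw [hd1, one_mul]
      _ = dg ρ ai * (dg ρ a * (dg ρ G * G) * a) := by simp only [mul_assoc]
      _ = _ := by rw [h5]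
  · rintro ⟨u, hu⟩
    have hu1 : u.1 * a = dg ρ ai * u.1 := hu
    have hP : dg ρ a * u.1 * a = u.1 := by
      rw [mul_assoc, hu1, ← mul_assoc, hd2, one_mul]
    obtain ⟨c, hc1, hc2, hc3⟩ := exists_herm ρ hρ hne a u.1 (u⁻¹ : (Matrix (Fin n) (Fin n) K)ˣ).1 u.mul_inv u.inv_mul hP A.isUnit
    obtain ⟨f, hf⟩ := exists_norm_matrix ρ hρ hne c hc1 hc2
    set y := aeval c f with hy
    have hyu : IsUnit y.det := by
      have h1 : IsUnit (dg ρ y * y).det := by rw [hf]; exact hc2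
      rw [Matrix.det_mul] at h1
      exact isUnit_of_mul_isUnit_right h1
    let Y : GL (Fin n) K := Matrix.GeneralLinearGroup.mk'' y hyu
    have hYv : Y.1 = y := rfl
    set y' : Matrix (Fin n) (Fin n) K := (Y⁻¹ : GL (Fin n) K).1 with hy'
    have hyy' : y * y' = 1 := congrArg Units.val (mul_inv_cancel Y)
    have hmem : Y * A * Y⁻¹ ∈ Cfsg.GU n K q := by
      rw [mem_gu_iff ρ hρq hρ]
      change dg ρ (y * a * y') * (y * a * y') = 1
      rw [dg_mul, dg_mul]
      calc dg ρ y' * (dg ρ a * dg ρ y) * (y * a * y') = dg ρ y' * (dg ρ a * (dg ρ y * y) * a) * y' := by simp only [mul_assoc]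
        _ = dg ρ y' * (dg ρ y * y) * y' := by rw [hf, hc3]
        _ = dg ρ (y * y') * (y * y') := by
          rw [dg_mul]
          simp only [mul_assoc]
        _ = 1 := by rw [hyy', dg_one, one_mul]
    exact ⟨⟨_, hmem⟩, isConj_iff.2 ⟨Y, rfl⟩⟩

end Cfsg.Agent.H11.GUC
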