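import Mathlib
import Cfsg.Agent.Lib.H08.L2.Basic

/-! `PSL₂(11)` as a permutation group on `11 + 11` points: kernel computations. -/

set_option autoImplicit false
set_option linter.unusedSectionVars false

namespace Cfsg.Agent.H11.P11

open Matrix

/-- inverses in `Fin 11` -/
def inv11 : Fin 11 → Fin 11 := ![0,1,6,4,3,9,2,8,7,5,10]

/-- the action of the Weyl element -/
def wtab : Bool → Fin 11 → Fin 11
  | false => ![0, 1, 10, 4, 3, 9, 7, 6, 8, 5, 2]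
  | true => ![0, 9, 6, 3, 5, 4, 2, 8, 7, 1, 10]

/-- the action of a matrix with entries `a b c d` on the class `s` -/
def act (s : Bool) (a b c d i : Fin 11) : Fin 11 :=
  if c = 0 then a * b + a * a * i else a * inv11 c + wtab s (c * c * i + c * d)

/-- four entries of a matrix -/
abbrev Q4 := Fin 11 × Fin 11 × Fin 11 × Fin 11

/-- the action of a quadruple -/
def actq (s : Bool) (m : Q4) (i : Fin 11) : Fin 11 := act s m.1 m.2.1 m.2.2.1 m.2.2.2 i

set_option maxRecDepth 100000 in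
theorem p1a : ∀ a b c d : Fin 11, a * d - b * c = 1 → ∀ s : Bool, ∀ i : Fin 11,
    act s a (a + b) c (c + d) i = act s a b c d (i + 1) := by decide +kernel

set_option maxRecDepth 100000 in
theorem p1b : ∀ a b c d : Fin 11, a * d - b * c = 1 → ∀ s : Bool, ∀ i : Fin 11,
    act s b (-a) d (-c) i = act s a b c d (wtab s i) := by decide +kernel

theorem p_one : ∀ (s : Bool) (i : Fin 11), act s 1 0 0 1 i = i := by decide +kernel

theorem p_up : ∀ (s : Bool) (k i : Fin 11), act s 1 k 0 1 i = i + k := by decide +kernel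

theorem p_u1 : ∀ (s : Bool) (i : Fin 11), act s 1 1 0 1 i = i + 1 := by decide +kernel

theorem p_w : ∀ (s : Bool) (i : Fin 11), act s 0 (-1) 1 0 i = wtab s i := by decide +kernel

/-- trivial action implies scalar -/
theorem p_ker : ∀ a b c d : Fin 11, a * d - b * c = 1 → (∀ (s : Bool) (i : Fin 11), act s a b c d i = i) →
    b = 0 ∧ c = 0 ∧ a = d := by decide +kernel

/-- scalars act trivially -/
theorem p_scalar : ∀ r : Fin 11, r * r = 1 → ∀ (s : Bool) (i : Fin 11), act s r 0 0 r i = i := by decide +kernel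

/-- all elements of order three in `PSL₂(11)` are conjugate (coset representatives) -/
def repsL : List Q4 := [(0,1,10,0),(0,2,5,0),(0,2,5,10),(0,3,7,0),(0,3,7,9),(0,3,7,10),(0,4,8,0),(0,4,8,9),(0,4,8,10),(0,5,2,0),(1,1,10,0),(1,2,5,0),(1,2,10,10),(1,3,3,10),(1,3,7,0),(1,3,10,9),(1,4,2,9),(1,4,5,10),(1,4,8,0),(1,5,2,0),(1,6,9,0),(1,7,0,1),(1,7,3,0),(1,7,8,2),(1,8,0,1),(1,8,4,0),(1,8,7,2),(1,9,0,1),(1,9,6,0),(1,10,1,0),(2,1,10,0),(2,2,4,10),(2,2,5,0),(2,3,2,9),(2,3,7,0),(2,3,10,10),(2,4,2,10),(2,4,7,9),(2,4,8,0),(2,5,2,0),(2,6,9,0),(2,7,2,2),(2,7,3,0),(2,7,8,1),(2,8,4,0),(2,8,7,1),(2,8,10,2),(2,9,5,1),(2,9,6,0),(2,10,1,0),(3,1,10,0),(3,2,5,0),(3,2,9,10),(3,3,5,9),(3,3,6,10),(3,3,7,0),(3,4,1,9),(3,4,8,0),(3,4,10,10),(3,5,2,0),(3,6,9,0),(3,7,3,0),(3,7,5,1),(3,7,7,2),(3,8,2,2),(3,8,3,1),(3,8,4,0),(3,9,6,0),(3,9,10,1),(3,10,1,0),(4,1,10,0),(4,2,3,10),(4,2,5,0),(4,3,2,10),(4,3,7,0),(4,3,8,9),(4,4,6,9),(4,4,7,10),(4,4,8,0),(4,5,2,0),(4,6,9,0),(4,7,1,2),(4,7,2,1),(4,7,3,0),(4,8,4,0),(4,8,5,2),(4,8,10,1),(4,9,4,1),(4,9,6,0),(4,10,1,0),(5,1,10,0),(5,2,5,0),(5,2,8,10),(5,3,0,9),(5,3,7,0),(5,3,9,10),(5,4,0,9),(5,4,4,10),(5,4,8,0),(5,5,2,0),(5,6,9,0),(5,7,3,0),(5,7,6,2),(5,7,10,1),(5,8,4,0),(5,8,6,1),(5,8,8,2),(5,9,6,0),(5,9,9,1),(5,10,1,0)]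

/-- the element `x₀` -/
def x0 : Q4 := (0, 1, 10, 1)

set_option maxRecDepth 100000 in
theorem p_conj3 : ∀ a b c d : Fin 11, a * d - b * c = 1 →
    (∀ (s : Bool) (i : Fin 11), act s a b c d (act s a b c d (act s a b c d i)) = i) →
    (∃ (s : Bool) (i : Fin 11), act s a b c d i ≠ i) →
    repsL.any (fun r => decide (∀ (s : Bool) (i : Fin 11), actq s r (act s a b c d i) = actq s x0 (actq s r i))) = true := by
  decide +kernel

set_option maxRecDepth 100000 in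
theorem p_reps_det : repsL.all (fun r => decide (r.1 * r.2.2.2 - r.2.1 * r.2.2.1 = 1)) = true := by decide +kernel

set_option maxRecDepth 100000 in
/-- the pairs through `x₀` have a common fixed point -/
theorem p_fixed : ∀ a b c d : Fin 11, a * d - b * c = 1 →
    (∀ (s : Bool) (i : Fin 11), act s a b c d (act s a b c d (act s a b c d (act s a b c d (act s a b c d i)))) = i) →
    (∀ (s : Bool) (i : Fin 11), actq s x0 (act s a b c d (actq s x0 (act s a b c d i))) = i) →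
    ∃ (s : Bool) (i : Fin 11), actq s x0 i = i ∧ act s a b c d i = i := by
  decide +kernel

theorem p_x0_det : x0.1 * x0.2.2.2 - x0.2.1 * x0.2.2.1 = 1 := by decide +kernel

/-- the pairs in the two point stabilisers -/
def xf : Q4 := (4, 5, 9, 6)
def yf : Q4 := (5, 6, 7, 2)
def xt : Q4 := (4, 4, 5, 8)
def yt : Q4 := (2, 5, 9, 1)

theorem p_pair_det : xf.1 * xf.2.2.2 - xf.2.1 * xf.2.2.1 = 1 ∧ yf.1 * yf.2.2.2 - yf.2.1 * yf.2.2.1 = 1 ∧
    xt.1 * xt.2.2.2 - xt.2.1 * xt.2.2.1 = 1 ∧ yt.1 * yt.2.2.2 - yt.2.1 * yt.2.2.1 = 1 := by decide +kernel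

theorem p_pair_f : (∀ (s : Bool) (i : Fin 11), actq s xf (actq s xf (actq s xf i)) = i) ∧
    (∀ (s : Bool) (i : Fin 11), actq s yf (actq s yf (actq s yf (actq s yf (actq s yf i)))) = i) ∧
    (∀ (s : Bool) (i : Fin 11), actq s xf (actq s yf (actq s xf (actq s yf i))) = i) ∧
    (∃ (s : Bool) (i : Fin 11), actq s xf i ≠ i) ∧ actq false xf 0 = 0 ∧ actq false yf 0 = 0 := by decide +kernel

theorem p_pair_t : (∀ (s : Bool) (i : Fin 11), actq s xt (actq s xt (actq s xt i)) = i) ∧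
    (∀ (s : Bool) (i : Fin 11), actq s yt (actq s yt (actq s yt (actq s yt (actq s yt i)))) = i) ∧
    (∀ (s : Bool) (i : Fin 11), actq s xt (actq s yt (actq s xt (actq s yt i))) = i) ∧
    (∃ (s : Bool) (i : Fin 11), actq s xt i ≠ i) ∧ actq true xt 0 = 0 ∧ actq true yt 0 = 0 := by decide +kernel

/-- witnesses of 2-transitivity -/
def witL : List Q4 := [(0,1,10,0),(1,3,4,2),(0,5,2,0),(0,2,5,0),(0,4,8,0),(2,8,7,1),(1,4,3,2),(1,8,8,10),(0,3,7,0),(1,7,6,10)]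

set_option maxRecDepth 100000 in
theorem p_two : ∀ j : Fin 11, j ≠ 0 → witL.any (fun m => decide (m.1 * m.2.2.2 - m.2.1 * m.2.2.1 = 1 ∧ actq false m 0 = 0 ∧ actq false m 1 = j)) = true := by
  decide +kernel

/-- distinct points have distinct stabilisers -/
def sepL : List Q4 := [(2,0,0,6),(1,1,1,2),(1,1,9,10)]

theorem p_sep : ∀ (s s' : Bool) (j : Fin 11), (s, (0 : Fin 11)) ≠ (s', j) →
    sepL.any (fun m => decide (m.1 * m.2.2.2 - m.2.1 * m.2.2.1 = 1 ∧ actq s m 0 = 0 ∧ actq s' m j ≠ j)) = true := by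
  decide +kernel

end Cfsg.Agent.H11.P11
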