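import Mathlib
import Cfsg.Agent.Lib.H10.Singer

/-! Characteristic polynomials of elements of `SU_3(q)`: the cubic `X^3 - t X^2 + t^q X - 1`. -/

set_option autoImplicit false
set_option linter.unusedSectionVars false
set_option linter.unusedVariables false

namespace Cfsg.Agent.H11.PSU3

open Polynomial

section basic

variable {F : Type*} [Field F] {E : Type*} [Field E] [Algebra F E]

/-- `y` is a root of the cubic attached to `t`. -/
def IsR (q : ℕ) (t : F) (y : E) : Prop :=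
  y ^ 3 - algebraMap F E t * y ^ 2 + algebraMap F E (t ^ q) * y - 1 = 0

theorem IsR.ne_zero {q : ℕ} {t : F} {y : E} (h : IsR q t y) : y ≠ 0 := by
  rintro rfl
  unfold IsR at h
  simp at h

theorem isR_frob {q N : ℕ} {t : F} {y : E} (ρ : E →+* E) (hρ : ∀ x, ρ x = x ^ N) (hN : ∀ a : F, a ^ N = a)
    (h : IsR q t y) : IsR q t (y ^ N) := by
  unfold IsR at h ⊢
  have e0 : ∀ a : F, ρ (algebraMap F E a) = algebraMap F E a := by
    intro a
    rw [hρ, ← map_pow, hN]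
  have h1 := congrArg ρ h
  rw [map_sub, map_add, map_sub, map_mul, map_mul, map_pow, map_pow, e0, e0, hρ, map_one, map_zero] at h1
  exact h1

theorem isR_inv {q N : ℕ} {t : F} {y : E} (ρ : E →+* E) (hρ : ∀ x, ρ x = x ^ N) (hN : ∀ a : F, a ^ N = a ^ q)
    (hq2 : ∀ a : F, (a ^ q) ^ q = a) (h : IsR q t y) : IsR q t ((y ^ N)⁻¹) := by
  have h0 := h.ne_zero
  unfold IsR at h ⊢
  have h1 := congrArg ρ h
  rw [map_sub, map_add, map_sub, map_mul, map_mul, map_pow, map_pow, map_one, map_zero, hρ, hρ (algebraMap F E t),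
    hρ (algebraMap F E (t ^ q))] at h1
  have e1 : (algebraMap F E t) ^ N = algebraMap F E (t ^ q) := by rw [← map_pow, hN]
  have e2 : (algebraMap F E (t ^ q)) ^ N = algebraMap F E t := by
    rw [← map_pow, hN, hq2]
  rw [e1, e2] at h1
  have hY : y ^ N ≠ 0 := pow_ne_zero _ h0
  set Y := y ^ N with hYd
  field_simp
  linear_combination - h1

/-- Vieta for three distinct roots of a cubic with constant term `-1`. -/
theorem vieta (τ τ' x y z : E) (hx : x ^ 3 - τ * x ^ 2 + τ' * x - 1 = 0) (hy : y ^ 3 - τ * y ^ 2 + τ' * y - 1 = 0)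
    (hz : z ^ 3 - τ * z ^ 2 + τ' * z - 1 = 0) (hxy : x ≠ y) (hxz : x ≠ z) (hyz : y ≠ z) :
    τ = x + y + z ∧ τ' = x * y + y * z + z * x ∧ x * y * z = 1 := by
  have e12 : x ^ 2 + x * y + y ^ 2 - τ * (x + y) + τ' = 0 := by
    apply mul_left_cancel₀ (sub_ne_zero.2 hxy)
    linear_combination hx - hy
  have e13 : x ^ 2 + x * z + z ^ 2 - τ * (x + z) + τ' = 0 := by
    apply mul_left_cancel₀ (sub_ne_zero.2 hxz)
    linear_combination hx - hz
  have e1 : τ = x + y + z := by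
    have h1 : x + y + z - τ = 0 := by
      apply mul_left_cancel₀ (sub_ne_zero.2 hyz)
      linear_combination e12 - e13
    linear_combination - h1
  have e2 : τ' = x * y + y * z + z * x := by
    rw [e1] at e12
    linear_combination e12
  refine ⟨e1, e2, ?_⟩
  rw [e1, e2] at hx
  linear_combination hx

theorem vieta_mem (τ τ' x y z w : E) (h1 : τ = x + y + z) (h2 : τ' = x * y + y * z + z * x) (h3 : x * y * z = 1)
    (hw : w ^ 3 - τ * w ^ 2 + τ' * w - 1 = 0) : w = x ∨ w = y ∨ w = z := by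
  have h : (w - x) * ((w - y) * (w - z)) = 0 := by
    rw [h1, h2] at hw
    linear_combination hw - h3
  rcases mul_eq_zero.1 h with h | h
  · exact Or.inl (sub_eq_zero.1 h)
  rcases mul_eq_zero.1 h with h | h
  · exact Or.inr (Or.inl (sub_eq_zero.1 h))
  · exact Or.inr (Or.inr (sub_eq_zero.1 h))

end basic

section fields

variable {F : Type*} [Field F] [Fintype F] {q p : ℕ}

theorem q_eq [Fact p.Prime] [CharP F p] (hF : Fintype.card F = q ^ 2) : ∃ j : ℕ, 0 < j ∧ q = p ^ j := by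
  have hpP : p.Prime := Fact.out
  obtain ⟨n, hn⟩ := FiniteField.card F p
  have h1 : q ^ 2 = p ^ (n : ℕ) := by rw [← hF, hn.2]
  have h2 : q ∣ p ^ (n : ℕ) := by
    rw [← h1]
    exact dvd_pow_self q (by norm_num)
  obtain ⟨m, _, rfl⟩ := (Nat.dvd_prime_pow hpP).1 h2
  refine ⟨m, ?_, rfl⟩
  rcases Nat.eq_zero_or_pos m with rfl | hm
  · exfalso
    simp only [pow_zero, one_pow] at hF
    have : 1 < Fintype.card F := Fintype.one_lt_card
    omega
  · exact hm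

theorem exists_rh (E : Type*) [Field E] [CharP E p] [Fact p.Prime] {j : ℕ} (hq : q = p ^ j) (k : ℕ) :
    ∃ ρ : E →+* E, ∀ x, ρ x = x ^ (q ^ k) :=
  ⟨iterateFrobenius E p (j * k), fun x => by rw [iterateFrobenius_def, hq, pow_mul]⟩

theorem pow_q_q (hF : Fintype.card F = q ^ 2) (a : F) : (a ^ q) ^ q = a := by
  rw [← pow_mul, ← sq, ← hF, FiniteField.pow_card]

theorem pow_q_q' (hF : Fintype.card F = q ^ 2) (a : F) : a ^ (q ^ 2) = a := by
  rw [← hF, FiniteField.pow_card]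

/-- The main computation in the field of degree three. -/
theorem caseA_field {E : Type*} [Field E] [Fintype E] [Algebra F E] [Fact p.Prime] [CharP E p]
    (hF : Fintype.card F = q ^ 2) (hq2 : 2 ≤ q) {j : ℕ} (hq : q = p ^ j) (hE : Fintype.card E = q ^ 6)
    {t : F} {ζ : E} (hζ : IsR q t ζ) (hnot : ∀ c : F, algebraMap F E c ≠ ζ) :
    ∃ c : F, ζ ^ ((q ^ 2 - q + 1) / Nat.gcd 3 (q + 1)) = algebraMap F E c := by
  have h6 : ∀ x : E, x ^ (q ^ 6) = x := fun x => by rw [← hE, FiniteField.pow_card]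
  have hq0 : 0 < q := by omega
  obtain ⟨ρ2, hρ2⟩ := exists_rh E hq 2
  obtain ⟨ρ3, hρ3⟩ := exists_rh E hq 3
  set r₁ := ζ ^ (q ^ 2) with hr₁
  set r₂ := r₁ ^ (q ^ 2) with hr₂
  have hr₂' : r₂ = ζ ^ (q ^ 4) := by
    rw [hr₂, hr₁, ← pow_mul]
    congr 1
    ring
  have hR1 : IsR q t r₁ := isR_frob ρ2 hρ2 (pow_q_q' hF) hζ
  have hR2 : IsR q t r₂ := isR_frob ρ2 hρ2 (pow_q_q' hF) hR1
  have hN3 : ∀ a : F, a ^ (q ^ 3) = a ^ q := by
    intro a
    have : q ^ 3 = q ^ 2 * q := by ring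
    rw [this, pow_mul, pow_q_q' hF]
  have hRz : IsR q t ((ζ ^ (q ^ 3))⁻¹) := isR_inv ρ3 hρ3 hN3 (pow_q_q hF) hζ
  have hF2 : ζ ^ Fintype.card F ≠ ζ := by
    intro h
    obtain ⟨c, hc⟩ := Cfsg.Agent.H10.mem_range_algebraMap_of_pow_card ζ h
    exact hnot c hc
  rw [hF] at hF2
  have hne1 : ζ ≠ r₁ := fun h => hF2 h.symm
  have hr4 : r₂ ^ (q ^ 2) = ζ := by
    rw [hr₂', ← pow_mul]
    have : q ^ 4 * q ^ 2 = q ^ 6 := by ring
    rw [this, h6]
  have hne2 : ζ ≠ r₂ := by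
    intro h
    apply hne1
    rw [h] at hr4 ⊢
    -- `r₂ ^ q² = r₂` so `ζ = r₁`
    have : r₁ = r₂ := by
      rw [hr₁, h]
      exact hr4
    exact this.symm
  have hne3 : r₁ ≠ r₂ := by
    intro h
    apply hne1
    have h1 : r₁ ^ (q ^ 2) = r₁ := by
      rw [← hr₂]
      exact h.symm
    have h2 : (r₁ ^ (q ^ 2)) ^ (q ^ 2) = ζ := by
      rw [← hr₂]
      exact hr4
    rw [h1, h1] at h2
    exact h2.symm
  obtain ⟨v1, v2, v3⟩ := vieta _ _ ζ r₁ r₂ hζ hR1 hR2 hne1 hne2 hne3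
  have hz := vieta_mem _ _ ζ r₁ r₂ _ v1 v2 v3 hRz
  have hζ0 : ζ ≠ 0 := hζ.ne_zero
  -- the case `ζ ^ (q + 1) = 1` is excluded
  have hnq : ζ ^ (q + 1) ≠ 1 := by
    intro h
    apply hF2
    have h1 : q ^ 2 = (q + 1) * (q - 1) + 1 := by
      obtain ⟨m, rfl⟩ : ∃ m, q = m + 1 := ⟨q - 1, by omega⟩
      simp
      ring
    rw [h1, pow_succ, pow_mul, h, one_pow, one_mul]
  have hkey : ζ ^ (q ^ 3 + 1) = 1 := by
    rcases hz with h | h | h
    · have h1 : ζ ^ (q ^ 3) * ζ = 1 := by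
        calc ζ ^ (q ^ 3) * ζ = ζ ^ (q ^ 3) * (ζ ^ (q ^ 3))⁻¹ := by rw [h]
          _ = 1 := mul_inv_cancel₀ (pow_ne_zero _ hζ0)
      rw [pow_succ]
      exact h1
    · exfalso
      have h1 : ζ ^ (q ^ 3) * r₁ = 1 := by
        rw [← h]
        exact mul_inv_cancel₀ (pow_ne_zero _ hζ0)
      have h2 : (ζ ^ (q + 1)) ^ (q ^ 2) = 1 := by
        rw [← pow_mul, show (q + 1) * q ^ 2 = q ^ 3 + q ^ 2 by ring, pow_add]
        exact h1
      apply hnq
      have h3 : ((ζ ^ (q + 1)) ^ (q ^ 2)) ^ (q ^ 4) = ζ ^ (q + 1) := by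
        rw [← pow_mul, show q ^ 2 * q ^ 4 = q ^ 6 by ring, h6]
      rw [← h3, h2, one_pow]
    · exfalso
      have h1 : ζ ^ (q ^ 3) * r₂ = 1 := by
        rw [← h]
        exact mul_inv_cancel₀ (pow_ne_zero _ hζ0)
      have h2 : (ζ ^ (q + 1)) ^ (q ^ 3) = 1 := by
        rw [hr₂'] at h1
        rw [← pow_mul, show (q + 1) * q ^ 3 = q ^ 4 + q ^ 3 by ring, pow_add, mul_comm]
        exact h1
      apply hnq
      have h3 : ((ζ ^ (q + 1)) ^ (q ^ 3)) ^ (q ^ 3) = ζ ^ (q + 1) := by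
        rw [← pow_mul, show q ^ 3 * q ^ 3 = q ^ 6 by ring, h6]
      rw [← h3, h2, one_pow]
  have hnorm : ζ ^ (q ^ 4 + q ^ 2 + 1) = 1 := by
    have h1 : ζ * r₁ * r₂ = 1 := v3
    rw [hr₂', hr₁] at h1
    rw [pow_succ, pow_add]
    rw [← h1]
    ring
  set A := q ^ 2 - q + 1 with hA
  have hAq : A + q = q ^ 2 + 1 := by
    have : q ≤ q ^ 2 := by nlinarith
    omega
  have hA1 : (q + 1) * A = q ^ 3 + 1 := by
    zify at hAq ⊢
    have : (A : ℤ) = q ^ 2 + 1 - q := by linarith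
    rw [this]
    ring
  have hA2 : (q ^ 2 + q + 1) * A = q ^ 4 + q ^ 2 + 1 := by
    zify at hAq ⊢
    have : (A : ℤ) = q ^ 2 + 1 - q := by linarith
    rw [this]
    ring
  have hy : ζ ^ A = 1 := by
    set y := ζ ^ A with hyd
    have e1 : y ^ (q + 1) = 1 := by
      rw [hyd, ← pow_mul, mul_comm, hA1, hkey]
    have e2 : y ^ (q ^ 2 + q + 1) = 1 := by
      rw [hyd, ← pow_mul, mul_comm, hA2, hnorm]
    have e3 : q ^ 2 + q + 1 = (q + 1) * q + 1 := by ring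
    rw [e3, pow_succ, pow_mul, e1, one_pow, one_mul] at e2
    exact e2
  set d := Nat.gcd 3 (q + 1) with hd
  have hd1 : d ∣ q + 1 := Nat.gcd_dvd_right _ _
  have hd3 : d ∣ 3 := Nat.gcd_dvd_left _ _
  have hdA : d ∣ A := by
    have h1 : A = (q + 1) * (q - 2) + 3 := by
      obtain ⟨m, rfl⟩ : ∃ m, q = m + 2 := ⟨q - 2, by omega⟩
      have : A + (m + 2) = (m + 2) ^ 2 + 1 := hAq
      simp only [Nat.add_sub_cancel]
      nlinarith
    rw [h1]
    exact Dvd.dvd.add (Dvd.dvd.mul_right hd1 _) hd3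
  have hd2 : d ∣ q ^ 2 - 1 := by
    have h1 : q ^ 2 - 1 = (q + 1) * (q - 1) := by
      obtain ⟨m, rfl⟩ : ∃ m, q = m + 1 := ⟨q - 1, by omega⟩
      simp
      ring_nf
      omega
    rw [h1]
    exact Dvd.dvd.mul_right hd1 _
  obtain ⟨B, hB⟩ := hdA
  have hd0 : 0 < d := Nat.pos_of_dvd_of_pos hd3 (by norm_num)
  have hBeq : A / d = B := by
    rw [hB]
    exact Nat.mul_div_cancel_left _ hd0
  rw [hBeq]
  obtain ⟨e, he⟩ := hd2
  have hfix : (ζ ^ B) ^ Fintype.card F = ζ ^ B := by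
    rw [hF]
    have h1 : q ^ 2 = d * e + 1 := by
      have : 1 ≤ q ^ 2 := Nat.one_le_pow _ _ hq0
      omega
    have e1 : (ζ ^ B) ^ d = 1 := by rw [← pow_mul, mul_comm B d, ← hB, hy]
    rw [h1, pow_succ, pow_mul, e1, one_pow, one_mul]
  obtain ⟨c, hc⟩ := Cfsg.Agent.H10.mem_range_algebraMap_of_pow_card _ hfix
  exact ⟨c, hc.symm⟩

end fields

end Cfsg.Agent.H11.PSU3
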