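import Cfsg.Agent.Lib.H11.PSU3a
import Cfsg.Prelude.Def_Classical

/-! The upper bound for element orders in `SU_3(q)`. -/

set_option autoImplicit false
set_option linter.unusedSectionVars false
set_option linter.unusedVariables false

namespace Cfsg.Agent.H11.PSU3

open Polynomial Matrix

section caseB

variable {F : Type*} [Field F] [Fintype F] {q p : ℕ}

theorem isR_self {t y : F} : IsR q t y ↔ y ^ 3 - t * y ^ 2 + t ^ q * y - 1 = 0 := by
  unfold IsR
  simp

theorem odd_q [Fact p.Prime] (hp2 : p ≠ 2) {j : ℕ} (hq : q = p ^ j) : Odd q := by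
  rw [hq]
  exact ((Fact.out : p.Prime).odd_of_ne_two hp2).pow

theorem two_ne_zero_F [Fact p.Prime] [CharP F p] (hp2 : p ≠ 2) : (2 : F) ≠ 0 := by
  intro h
  have h1 : ((2 : ℕ) : F) = 0 := by exact_mod_cast h
  have h2 := (CharP.cast_eq_zero_iff F p 2).1 h1
  exact hp2 ((Nat.prime_dvd_prime_iff_eq Fact.out Nat.prime_two).1 h2)

/-- elements fixed by `x ^ q`, and elements of norm one, are squares -/
theorem isSquare_of_fixed [Fact p.Prime] [CharP F p] (hF : Fintype.card F = q ^ 2) (hp2 : p ≠ 2) {j : ℕ} (hq : q = p ^ j)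
    (x : F) (hx : x ^ q = x) : IsSquare x := by
  by_cases hx0 : x = 0
  · rw [hx0]
    exact IsSquare.zero
  have hch : ringChar F ≠ 2 := by rwa [ringChar.eq F p]
  rw [FiniteField.isSquare_iff hch hx0, hF]
  obtain ⟨k, hk⟩ := odd_q (p := p) hp2 hq
  have h1 : q ^ 2 / 2 = 2 * k * (k + 1) := by
    rw [hk]
    have : (2 * k + 1) ^ 2 = 2 * (2 * k * (k + 1)) + 1 := by ring
    rw [this]
    omega
  have h2 : x ^ (2 * k) = 1 := by
    have : x ^ (2 * k) * x = x * 1 := by
      rw [← pow_succ, mul_one, ← hk, hx]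
    rw [mul_comm] at this
    exact mul_left_cancel₀ hx0 this
  rw [h1, pow_mul, h2, one_pow]

theorem isSquare_of_norm [Fact p.Prime] [CharP F p] (hF : Fintype.card F = q ^ 2) (hp2 : p ≠ 2) {j : ℕ} (hq : q = p ^ j)
    (x : F) (hx : x ^ (q + 1) = 1) : IsSquare x := by
  have hx0 : x ≠ 0 := by
    rintro rfl
    simp at hx
  have hch : ringChar F ≠ 2 := by rwa [ringChar.eq F p]
  rw [FiniteField.isSquare_iff hch hx0, hF]
  obtain ⟨k, hk⟩ := odd_q (p := p) hp2 hq
  have h1 : q ^ 2 / 2 = (q + 1) * k := by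
    rw [hk]
    have : (2 * k + 1) ^ 2 = 2 * ((2 * k + 1 + 1) * k) + 1 := by ring
    rw [this]
    omega
  rw [h1, pow_mul, hx, one_pow]

/-- A root in the field forces the cubic to split. -/
theorem caseB [Fact p.Prime] [CharP F p] (hF : Fintype.card F = q ^ 2) (hp2 : p ≠ 2) {j : ℕ} (hq : q = p ^ j)
    (t y : F) (hy : IsR q t y) :
    ∃ a b c : F, t = a + b + c ∧ t ^ q = a * b + b * c + c * a ∧ a * b * c = 1 ∧
      ((a ^ (q + 1) = 1 ∧ b ^ (q + 1) = 1 ∧ c ^ (q + 1) = 1) ∨
        (b ^ (q + 1) ≠ 1 ∧ c = (b ^ q)⁻¹ ∧ a * b = b ^ q)) := by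
  obtain ⟨ρ', hρ'⟩ := exists_rh (p := p) F hq 1
  have hρ : ∀ x, ρ' x = x ^ q := fun x => by rw [hρ', pow_one]
  have hinv : ∀ w : F, IsR q t w → IsR q t ((w ^ q)⁻¹) := fun w hw =>
    isR_inv ρ' hρ (fun a => rfl) (pow_q_q hF) hw
  have hq0 : 0 < q := by
    have : 1 < Fintype.card F := Fintype.one_lt_card
    rw [hF] at this
    by_contra h
    have : q = 0 := by omega
    subst this
    simp at *
  have hnorm : ∀ w : F, w ≠ 0 → (w ^ (q + 1) = 1 ↔ (w ^ q)⁻¹ = w) := by
    intro w hw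
    have hw2 : w ^ q ≠ 0 := pow_ne_zero _ hw
    rw [pow_succ]
    constructor
    · intro h
      exact inv_eq_of_mul_eq_one_right h
    · intro h
      have : w ^ q * (w ^ q)⁻¹ = 1 := mul_inv_cancel₀ hw2
      rw [h] at this
      exact this
  have hy0 : y ≠ 0 := hy.ne_zero
  have hyR := isR_self.1 hy
  have hzR := isR_self.1 (hinv y hy)
  by_cases hzy : (y ^ q)⁻¹ = y
  · -- the root has norm one
    have hy1 : y ^ (q + 1) = 1 := (hnorm y hy0).2 hzy
    set β := y ^ q with hβ
    have hβy : β * y = 1 := by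
      rw [hβ, ← pow_succ]
      exact hy1
    set s := t - y with hs
    have ht : t = s + y := by rw [hs]; ring
    have htq : t ^ q = β + s * y := by
      apply mul_right_cancel₀ hy0
      linear_combination hyR - hβy - y ^ 2 * hs
    have hadd : (s + y) ^ q = s ^ q + y ^ q := by
      rw [← hρ, ← hρ, ← hρ, map_add]
    have hsq : s ^ q = s * y := by
      rw [ht, hadd] at htq
      have : s ^ q + β = β + s * y := htq
      linear_combination this
    set D := s ^ 2 - 4 * β with hD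
    have hxeq : y * D = y * s ^ 2 - 4 := by
      rw [hD]
      linear_combination (-4 : F) * hβy
    have hx : (y * D) ^ q = y * D := by
      rw [hxeq]
      have h4 : (4 : F) ^ q = 4 := by
        rw [← hρ, map_ofNat]
      have e1 : (y * s ^ 2 - 4) ^ q = y ^ q * (s ^ q) ^ 2 - (4 : F) ^ q := by
        rw [← hρ, map_sub, map_mul, map_pow, map_ofNat, hρ, hρ]
        rw [h4]
      rw [e1, hsq, h4, ← hβ]
      linear_combination (s ^ 2 * y) * hβy
    have hsqx := isSquare_of_fixed hF hp2 hq (y * D) hx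
    have hsqy := isSquare_of_norm hF hp2 hq y hy1
    have hsqD : IsSquare D := by
      have e : D = (y * D) * y⁻¹ := by field_simp
      rw [e]
      exact hsqx.mul hsqy.inv
    obtain ⟨w, hw⟩ := hsqD
    have h2 : (2 : F) ≠ 0 := two_ne_zero_F hp2
    set u := (s + w) / 2 with hu
    set v := (s - w) / 2 with hv
    have huv1 : u + v = s := by
      rw [hu, hv]
      field_simp
      ring
    have huv2 : u * v = β := by
      rw [hu, hv]
      field_simp
      have : s ^ 2 - w * w = 4 * β := by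
        rw [← hw, hD]
        ring
      linear_combination this
    have e1 : t = y + u + v := by rw [ht, ← huv1]; ring
    have e2 : t ^ q = y * u + u * v + v * y := by
      rw [htq, ← huv1, huv2]
      ring
    have e3 : y * u * v = 1 := by
      rw [mul_assoc, huv2, mul_comm]
      exact hβy
    have huR : IsR q t u := by
      rw [isR_self, e2, e1]
      linear_combination e3
    have hu0 : u ≠ 0 := huR.ne_zero
    have hall : u ^ (q + 1) = 1 → ∃ a b c : F, t = a + b + c ∧ t ^ q = a * b + b * c + c * a ∧ a * b * c = 1 ∧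
      ((a ^ (q + 1) = 1 ∧ b ^ (q + 1) = 1 ∧ c ^ (q + 1) = 1) ∨
        (b ^ (q + 1) ≠ 1 ∧ c = (b ^ q)⁻¹ ∧ a * b = b ^ q)) := by
      intro hu1
      refine ⟨y, u, v, e1, e2, e3, Or.inl ⟨hy1, hu1, ?_⟩⟩
      have h3 : (u * v) ^ (q + 1) = 1 := by
        rw [huv2, hβ, ← pow_mul, mul_comm, pow_mul, hy1, one_pow]
      rw [mul_pow, hu1, one_mul] at h3
      exact h3
    have hz := vieta_mem t (t ^ q) y u v _ e1 e2 e3 (isR_self.1 (hinv u huR))
    rcases hz with h | h | h
    · apply hall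
      have h3 : u ^ q = y ^ q := by
        have h4 : (u ^ q)⁻¹ * u ^ q = 1 := inv_mul_cancel₀ (pow_ne_zero _ hu0)
        rw [h] at h4
        rw [← hβ]
        apply mul_left_cancel₀ hy0
        rw [h4, mul_comm]
        exact hβy.symm
      have h4 : u = y := by
        rw [← pow_q_q hF u, h3, pow_q_q hF]
      rw [h4]
      exact hy1
    · exact hall ((hnorm u hu0).2 h)
    · by_cases h3 : u ^ (q + 1) = 1
      · exact hall h3
      · refine ⟨y, u, v, e1, e2, e3, Or.inr ⟨h3, h.symm, ?_⟩⟩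
        have h4 : y * u * (u ^ q)⁻¹ = 1 := by rw [h]; exact e3
        exact (mul_inv_eq_one₀ (pow_ne_zero _ hu0)).1 h4
  · -- two different roots
    set z := (y ^ q)⁻¹ with hz
    set w := t - y - z with hw
    have e12 : y ^ 2 + y * z + z ^ 2 - t * (y + z) + t ^ q = 0 := by
      apply mul_left_cancel₀ (sub_ne_zero.2 (Ne.symm hzy))
      linear_combination hyR - hzR
    have e1 : t = w + y + z := by rw [hw]; ring
    have e2 : t ^ q = w * y + y * z + z * w := by
      rw [hw]
      linear_combination e12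
    have e3 : w * y * z = 1 := by
      have h1 := hyR
      rw [e2] at h1
      nth_rewrite 1 [e1] at h1
      linear_combination h1
    refine ⟨w, y, z, e1, e2, e3, Or.inr ⟨fun h => hzy ((hnorm y hy0).1 h), rfl, ?_⟩⟩
    rw [hz] at e3
    exact (mul_inv_eq_one₀ (pow_ne_zero _ hy0)).1 e3

end caseB

section poly

variable {F : Type*} [Field F] [Fintype F] {q p : ℕ}

theorem scal_of_dvd {P g : F[X]} {M : Matrix (Fin 3) (Fin 3) F} (hP : aeval M P = 0) (h : P ∣ g) : aeval M g = 0 := by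
  obtain ⟨R, rfl⟩ := h
  rw [map_mul, hP, zero_mul]

theorem pow_eq_of_aeval {M : Matrix (Fin 3) (Fin 3) F} {N : ℕ} {c : F} (h : aeval M (X ^ N - C c : F[X]) = 0) :
    M ^ N = c • 1 := by
  rw [map_sub, map_pow, aeval_X, aeval_C, sub_eq_zero, Algebra.algebraMap_eq_smul_one] at h
  exact h

theorem prod_dvd (a b c : F) (hab : a ≠ b) (hac : a ≠ c) (hbc : b ≠ c) (g : F[X]) (ha : g.eval a = 0) (hb : g.eval b = 0)
    (hc : g.eval c = 0) : (X - C a) * (X - C b) * (X - C c) ∣ g := by
  obtain ⟨g₁, rfl⟩ := dvd_iff_isRoot.2 ha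
  rw [eval_mul, eval_sub, eval_X, eval_C, mul_eq_zero] at hb hc
  have hb' := hb.resolve_left (sub_ne_zero.2 hab.symm)
  have hc' := hc.resolve_left (sub_ne_zero.2 hac.symm)
  obtain ⟨g₂, rfl⟩ := dvd_iff_isRoot.2 hb'
  rw [eval_mul, eval_sub, eval_X, eval_C, mul_eq_zero] at hc'
  have hc'' := hc'.resolve_left (sub_ne_zero.2 hbc.symm)
  obtain ⟨g₃, rfl⟩ := dvd_iff_isRoot.2 hc''
  exact ⟨g₃, by ring⟩

theorem expand_cubic (a b c : F) : (X - C a) * (X - C b) * (X - C c) =
    (X ^ 3 - C (a + b + c) * X ^ 2 + C (a * b + b * c + c * a) * X - C (a * b * c) : F[X]) := by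
  simp only [C_add, C_mul]
  ring

/-- repeated eigenvalue -/
theorem rep_case [Fact p.Prime] [CharP F p] (hq1 : 0 < q) (hp3 : 3 ≤ p) (a c : F) (ha : a ^ (q + 1) = 1) (hac : a * a * c = 1) :
    ∃ y : F, (X - C a) * (X - C a) * (X - C c) ∣ (X ^ (p * ((q + 1) / Nat.gcd 3 (q + 1))) - C y : F[X]) := by
  set d := Nat.gcd 3 (q + 1) with hd
  have hd1 : d ∣ q + 1 := Nat.gcd_dvd_right _ _
  have hd3 : d ∣ 3 := Nat.gcd_dvd_left _ _
  obtain ⟨e, he⟩ := hd1
  obtain ⟨d', hd'⟩ := hd3
  have hd0 : 0 < d := Nat.pos_of_ne_zero (by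
    intro h
    rw [h] at he
    omega)
  have heq : (q + 1) / d = e := by
    rw [he]
    exact Nat.mul_div_cancel_left _ hd0
  rw [heq]
  have h3e : a ^ (3 * e) = 1 := by
    rw [hd', show d * d' * e = d * e * d' by ring, ← he, pow_mul, ha, one_pow]
  have ha0 : a ≠ 0 := by
    rintro rfl
    simp at hac
  have hce : c ^ e = a ^ e := by
    have h1 : (a * a * c) ^ e = 1 := by rw [hac, one_pow]
    rw [mul_pow, mul_pow] at h1
    have h2 : a ^ e * a ^ e * a ^ e = 1 := by
      rw [← h3e]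
      ring
    have h3 : a ^ e * a ^ e ≠ 0 := mul_ne_zero (pow_ne_zero _ ha0) (pow_ne_zero _ ha0)
    exact mul_left_cancel₀ h3 (h1.trans h2.symm)
  set y := a ^ e with hy
  let g : F[X] := X ^ e - C y
  have hga : (X - C a) ∣ g := dvd_iff_isRoot.2 (by simp [g, IsRoot.def, hy])
  have hgc : (X - C c) ∣ g := dvd_iff_isRoot.2 (by simp [g, IsRoot.def, hce])
  refine ⟨y ^ p, ?_⟩
  have h1 : (X - C a) * (X - C a) * (X - C c) ∣ g ^ 3 := by
    have : g ^ 3 = g * g * g := by ring
    rw [this]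
    exact mul_dvd_mul (mul_dvd_mul hga hga) hgc
  have h2 : g ^ 3 ∣ g ^ p := pow_dvd_pow _ hp3
  have h3 : g ^ p = (X ^ (p * e) - C (y ^ p) : F[X]) := by
    change (X ^ e - C y) ^ p = _
    rw [sub_pow_char, ← C_pow, ← pow_mul, mul_comm e p]
  rw [← h3]
  exact h1.trans h2

/-- Cayley-Hamilton for three by three matrices. -/
theorem ch3 (M : Matrix (Fin 3) (Fin 3) F) :
    M ^ 3 - (M 0 0 + M 1 1 + M 2 2) • M ^ 2 +
      (M 0 0 * M 1 1 - M 0 1 * M 1 0 + M 0 0 * M 2 2 - M 0 2 * M 2 0 + M 1 1 * M 2 2 - M 1 2 * M 2 1) • M - M.det • 1 = 0 := by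
  ext i j
  fin_cases i <;> fin_cases j <;>
    simp [pow_succ, Matrix.mul_apply, Fin.sum_univ_three, Matrix.det_fin_three, Matrix.one_apply] <;> ring

/-- the trace of the inverse -/
theorem trace_q (M : Matrix (Fin 3) (Fin 3) F) (hF : Fintype.card F = q ^ 2) [Fact p.Prime] [CharP F p] {j : ℕ} (hq : q = p ^ j)
    (hdet : M.det = 1)
    (hM : ∀ u v : Fin 3 → F, Cfsg.hermForm 3 F q (M *ᵥ u) (M *ᵥ v) = Cfsg.hermForm 3 F q u v) :
    (M 0 0 + M 1 1 + M 2 2) ^ q =
      M 0 0 * M 1 1 - M 0 1 * M 1 0 + M 0 0 * M 2 2 - M 0 2 * M 2 0 + M 1 1 * M 2 2 - M 1 2 * M 2 1 := by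
  classical
  obtain ⟨ρ', hρ'⟩ := exists_rh (p := p) F hq 1
  have hρ : ∀ x, ρ' x = x ^ q := fun x => by rw [hρ', pow_one]
  let S : Matrix (Fin 3) (Fin 3) F := fun i j => M i j ^ q
  have h1 : Mᵀ * S = 1 := by
    ext a b
    have h2 := hM (Pi.single a 1) (Pi.single b 1)
    simp only [Cfsg.hermForm, Matrix.mulVec_single_one, Matrix.col_apply, Matrix.mul_apply, Matrix.transpose_apply] at h2 ⊢
    change (∑ x, M x a * M x b ^ q) = _
    rw [h2, Matrix.one_apply]
    have hq0 : q ≠ 0 := by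
      rintro rfl
      have : 1 < Fintype.card F := Fintype.one_lt_card
      rw [hF] at this
      simp at this
    by_cases hab : a = b
    · subst hab
      simp [Pi.single_apply, hq0]
    · rw [if_neg hab]
      apply Finset.sum_eq_zero
      intro x _
      by_cases hx : x = a
      · subst hx
        have : x ≠ b := hab
        simp [Pi.single_apply, this, hq0]
      · simp [Pi.single_apply, hx]
  have h3 : Matrix.adjugate Mᵀ * Mᵀ = 1 := by
    rw [Matrix.adjugate_mul, Matrix.det_transpose, hdet, one_smul]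
  have h4 : S = Matrix.adjugate Mᵀ := by
    calc S = (Matrix.adjugate Mᵀ * Mᵀ) * S := by rw [h3, one_mul]
      _ = Matrix.adjugate Mᵀ := by rw [Matrix.mul_assoc, h1, mul_one]
  have e0 : M 0 0 ^ q = M 1 1 * M 2 2 - M 1 2 * M 2 1 := by
    have h5 := congrFun (congrFun h4 0) 0
    simp [S, Matrix.adjugate_fin_three, Matrix.transpose_apply] at h5
    rw [h5]
    ring
  have e1 : M 1 1 ^ q = M 0 0 * M 2 2 - M 0 2 * M 2 0 := by
    have h5 := congrFun (congrFun h4 1) 1
    simp [S, Matrix.adjugate_fin_three, Matrix.transpose_apply] at h5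
    rw [h5]
    ring
  have e2 : M 2 2 ^ q = M 0 0 * M 1 1 - M 0 1 * M 1 0 := by
    have h5 := congrFun (congrFun h4 2) 2
    simp [S, Matrix.adjugate_fin_three, Matrix.transpose_apply] at h5
    rw [h5]
    ring
  rw [← hρ, map_add, map_add, hρ, hρ, hρ, e0, e1, e2]
  ring

/-- The upper bound, on matrices. -/
theorem upper [Fact p.Prime] [CharP F p] (hF : Fintype.card F = q ^ 2) (hp2 : p ≠ 2)
    (M : Matrix (Fin 3) (Fin 3) F) (hdet : M.det = 1)
    (hM : ∀ u v : Fin 3 → F, Cfsg.hermForm 3 F q (M *ᵥ u) (M *ᵥ v) = Cfsg.hermForm 3 F q u v) :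
    ∃ c : F, M ^ (q + 1) = c • 1 ∨ M ^ (p * ((q + 1) / Nat.gcd 3 (q + 1))) = c • 1 ∨
      M ^ ((q ^ 2 - 1) / Nat.gcd 3 (q + 1)) = c • 1 ∨ M ^ ((q ^ 2 - q + 1) / Nat.gcd 3 (q + 1)) = c • 1 := by
  classical
  obtain ⟨j, hj, hq⟩ := q_eq (p := p) hF
  have hpP : p.Prime := Fact.out
  have hp3 : 3 ≤ p := by
    have := hpP.two_le
    omega
  have hq3 : 3 ≤ q := by
    rw [hq]
    calc 3 ≤ p := hp3
      _ = p ^ 1 := (pow_one p).symm
      _ ≤ p ^ j := Nat.pow_le_pow_right hpP.pos hj
  have hq0 : 0 < q := by omega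
  set t := M 0 0 + M 1 1 + M 2 2 with ht
  have htq := trace_q M hF hq hdet hM
  rw [← ht] at htq
  have hch := ch3 M
  rw [← ht, ← htq, hdet] at hch
  set P : F[X] := X ^ 3 - C t * X ^ 2 + C (t ^ q) * X - C 1 with hP
  have hPM : aeval M P = 0 := by
    rw [hP, map_sub, map_add, map_sub, map_mul, map_mul, map_pow, map_pow, aeval_X, aeval_C, aeval_C, aeval_C]
    simp only [Algebra.algebraMap_eq_smul_one, smul_mul_assoc, one_mul]
    exact hch
  by_cases hroot : ∃ y : F, IsR q t y
  · obtain ⟨y, hy⟩ := hroot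
    obtain ⟨a, b, c, e1, e2, e3, h⟩ := caseB hF hp2 hq t y hy
    have hPeq : P = (X - C a) * (X - C b) * (X - C c) := by
      rw [expand_cubic, ← e1, ← e2, e3]
    rw [hPeq] at hPM
    set d := Nat.gcd 3 (q + 1) with hd
    have hd1 : d ∣ q + 1 := Nat.gcd_dvd_right _ _
    have hd3 : d ∣ 3 := Nat.gcd_dvd_left _ _
    rcases h with ⟨ha, hb, hc⟩ | ⟨hb, hc, ha⟩
    · by_cases hab : a = b
      · subst hab
        obtain ⟨y', hy'⟩ := rep_case (p := p) hq0 hp3 a c ha e3
        exact ⟨y', Or.inr (Or.inl (pow_eq_of_aeval (scal_of_dvd hPM hy')))⟩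
      by_cases hac : a = c
      · subst hac
        have e3' : a * a * b = 1 := by rw [← e3]; ring
        obtain ⟨y', hy'⟩ := rep_case (p := p) hq0 hp3 a b ha e3'
        refine ⟨y', Or.inr (Or.inl (pow_eq_of_aeval (scal_of_dvd hPM ?_)))⟩
        rw [show (X - C a) * (X - C b) * (X - C a) = (X - C a) * (X - C a) * (X - C b) by ring]
        exact hy'
      by_cases hbc : b = c
      · subst hbc
        have e3' : b * b * a = 1 := by rw [← e3]; ring
        obtain ⟨y', hy'⟩ := rep_case (p := p) hq0 hp3 b a hb e3'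
        refine ⟨y', Or.inr (Or.inl (pow_eq_of_aeval (scal_of_dvd hPM ?_)))⟩
        rw [show (X - C a) * (X - C b) * (X - C b) = (X - C b) * (X - C b) * (X - C a) by ring]
        exact hy'
      refine ⟨1, Or.inl (pow_eq_of_aeval (scal_of_dvd hPM (prod_dvd a b c hab hac hbc _ ?_ ?_ ?_)))⟩ <;>
        simp [ha, hb, hc]
    · -- the split torus
      have hb0 : b ≠ 0 := by
        rintro rfl
        simp at e3
      have hb1 : b ^ (q ^ 2 - 1) = 1 := by
        rw [← hF]
        exact FiniteField.pow_card_sub_one_eq_one b hb0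
      have hbq : b ^ (q ^ 2) = b := pow_q_q' hF b
      have hbq2 : (b ^ q) ^ (q + 1) = b ^ (q + 1) := by
        rw [← pow_mul, show q * (q + 1) = q ^ 2 + q by ring, pow_add, hbq, pow_succ, mul_comm]
      have ha1 : a ^ (q + 1) = 1 := by
        have h1 : (a * b) ^ (q + 1) = b ^ (q + 1) := by rw [ha, hbq2]
        rw [mul_pow] at h1
        have h2 : b ^ (q + 1) ≠ 0 := pow_ne_zero _ hb0
        exact mul_right_cancel₀ h2 (by rw [h1, one_mul])
      have hab : a ≠ b := by
        rintro rfl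
        exact hb ha1
      have hbc : b ≠ c := by
        intro h
        apply hb
        rw [hc] at h
        have h1 : b ^ q * (b ^ q)⁻¹ = 1 := mul_inv_cancel₀ (pow_ne_zero _ hb0)
        rw [← h] at h1
        rw [pow_succ]
        exact h1
      have hac : a ≠ c := by
        intro h
        apply hb
        rw [h, hc, inv_pow, hbq2] at ha1
        exact inv_eq_one.1 ha1
      have hd2 : d ∣ q ^ 2 - 1 := by
        have h1 : q ^ 2 - 1 = (q + 1) * (q - 1) := by
          obtain ⟨m, rfl⟩ : ∃ m, q = m + 1 := ⟨q - 1, by omega⟩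
          simp
          ring_nf
          omega
        rw [h1]
        exact Dvd.dvd.mul_right hd1 _
      have hd4 : d ∣ q - 2 := by
        have h1 := Nat.dvd_sub hd1 hd3
        rwa [show q + 1 - 3 = q - 2 by omega] at h1
      have hd0 : 0 < d := Nat.pos_of_dvd_of_pos hd3 (by norm_num)
      obtain ⟨f, hf⟩ := hd2
      have hfeq : (q ^ 2 - 1) / d = f := by
        rw [hf]
        exact Nat.mul_div_cancel_left _ hd0
      set Y := b ^ f with hY
      have hYd : Y ^ d = 1 := by
        rw [hY, ← pow_mul, mul_comm, ← hf, hb1]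
      obtain ⟨e, he⟩ := hd1
      obtain ⟨g, hg⟩ := hd4
      have hY1 : Y ^ (q + 1) = 1 := by rw [he, pow_mul, hYd, one_pow]
      have hY2 : Y ^ (q - 2) = 1 := by rw [hg, pow_mul, hYd, one_pow]
      have hY0 : Y ≠ 0 := pow_ne_zero _ hb0
      have hYq : Y ^ q = Y * Y := by
        have : q = (q - 2) + 1 + 1 := by omega
        rw [this, pow_succ, pow_succ, hY2, one_mul]
      have haf : a ^ f = Y := by
        have h1 : (a * b) ^ f = (b ^ q) ^ f := by rw [ha]
        rw [mul_pow, ← pow_mul, mul_comm q f, pow_mul, ← hY, hYq] at h1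
        exact mul_right_cancel₀ hY0 h1
      have hcf : c ^ f = Y := by
        rw [hc, inv_pow, ← pow_mul, mul_comm q f, pow_mul, ← hY]
        apply inv_eq_of_mul_eq_one_right
        rw [← pow_succ]
        exact hY1
      refine ⟨Y, Or.inr (Or.inr (Or.inl ?_))⟩
      rw [hfeq]
      apply pow_eq_of_aeval (scal_of_dvd hPM (prod_dvd a b c hab hac hbc _ ?_ ?_ ?_))
      · simp [haf]
      · simp [hY]
      · simp [hcf]
  · -- the irreducible case
    have hPdeg : P.natDegree = 3 := by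
      rw [hP]
      compute_degree!
    have hPmonic : P.Monic := by
      rw [hP]
      monicity!
    have hnr : ∀ x : F, ¬ IsRoot P x := by
      intro x hx
      apply hroot
      refine ⟨x, ?_⟩
      rw [isR_self]
      rw [IsRoot.def, hP] at hx
      simpa using hx
    have hirr : Irreducible P := irreducible_of_degree_le_three_of_not_isRoot (by rw [hPdeg]; simp) hnr
    haveI : Fact (Irreducible P) := ⟨hirr⟩
    set E := AdjoinRoot P with hE
    set ζ : E := AdjoinRoot.root P with hζ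
    haveI : Module.Finite F E := (AdjoinRoot.powerBasis hirr.ne_zero).finite
    haveI : Finite E := Module.finite_of_finite F
    letI : Fintype E := Fintype.ofFinite E
    have hcard : Fintype.card E = q ^ 6 := by
      have h1 := Module.card_eq_pow_finrank (K := F) (V := E)
      rw [h1, hF, (AdjoinRoot.powerBasis hirr.ne_zero).finrank]
      simp [hPdeg]
      ring
    haveI : CharP E p := charP_of_injective_algebraMap (algebraMap F E).injective p
    have hζR : IsR q t ζ := by
      have h2 : AdjoinRoot.mk P (X ^ 3 - C t * X ^ 2 + C (t ^ q) * X - C 1) = 0 := by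
        rw [← hP]
        exact AdjoinRoot.mk_self
      rw [map_sub, map_add, map_sub, map_mul, map_mul, map_pow, map_pow, AdjoinRoot.mk_X, AdjoinRoot.mk_C, AdjoinRoot.mk_C,
        AdjoinRoot.mk_C, map_one] at h2
      exact h2
    have hnot : ∀ c : F, algebraMap F E c ≠ ζ := by
      intro c hc
      apply hroot
      refine ⟨c, ?_⟩
      rw [← hc] at hζR
      unfold IsR at hζR
      rw [isR_self]
      apply (algebraMap F E).injective
      rw [map_zero, ← hζR]
      simp
    obtain ⟨c, hc⟩ := caseA_field hF (by omega) hq hcard hζR hnot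
    refine ⟨c, Or.inr (Or.inr (Or.inr ?_))⟩
    apply pow_eq_of_aeval (scal_of_dvd hPM ?_)
    rw [← AdjoinRoot.mk_eq_zero, map_sub, map_pow, AdjoinRoot.mk_X, AdjoinRoot.mk_C, sub_eq_zero]
    exact hc

end poly


end Cfsg.Agent.H11.PSU3
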