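import Cfsg.Agent.Lib.H11.PSU3b
import Cfsg.Agent.Lib.Lead.SUCenter

/-! Hermitian forms have orthonormal bases; isometries give elements of `SU_3(q)`. -/

set_option autoImplicit false
set_option linter.unusedSectionVars false
set_option linter.unusedVariables false

namespace Cfsg.Agent.H11.PSU3

open Matrix Module

universe u

variable {F : Type*} [Field F] [Fintype F] {q p : ℕ}

/-- A Hermitian form (as a two argument function). -/
structure Herm (q : ℕ) {V : Type u} [AddCommGroup V] [Module F V] (B : V → V → F) : Prop where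
  add_left : ∀ x x' y, B (x + x') y = B x y + B x' y
  smul_left : ∀ (c : F) x y, B (c • x) y = c * B x y
  symm : ∀ x y, B y x = (B x y) ^ q
  nondeg : ∀ x, (∀ y, B x y = 0) → x = 0

section

variable {V : Type u} [AddCommGroup V] [Module F V] {B : V → V → F}

theorem Herm.add_right [Fact p.Prime] [CharP F p] {j : ℕ} (hq : q = p ^ j) (hB : Herm (F := F) q B) (x y y' : V) :
    B x (y + y') = B x y + B x y' := by
  obtain ⟨ρ', hρ'⟩ := exists_rh (p := p) F hq 1
  have hρ : ∀ x, ρ' x = x ^ q := fun x => by rw [hρ', pow_one]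
  rw [hB.symm (y + y') x, hB.add_left, ← hρ, map_add, hρ, hρ, ← hB.symm, ← hB.symm]

theorem Herm.smul_right (hB : Herm (F := F) q B) (c : F) (x y : V) : B x (c • y) = c ^ q * B x y := by
  rw [hB.symm (c • y) x, hB.smul_left, mul_pow, ← hB.symm]

end

theorem exists_norm (hF : Fintype.card F = q ^ 2) (hq1 : 1 ≤ q) (τ : F) (h0 : τ ≠ 0) (hτ : τ ^ q = τ) : ∃ c : F, c ^ (q + 1) = τ := by
  classical
  obtain ⟨g, hg⟩ := IsCyclic.exists_generator (α := Fˣ)
  have hord : orderOf g = q ^ 2 - 1 := by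
    rw [orderOf_eq_card_of_forall_mem_zpowers hg, Nat.card_eq_fintype_card, Fintype.card_units, hF]
  obtain ⟨k, hk⟩ := (mem_powers_iff_mem_zpowers.2 (hg (Units.mk0 τ h0)))
  have h1 : (Units.mk0 τ h0) ^ (q - 1) = 1 := by
    apply Units.ext
    have : τ ^ (q - 1) * τ = τ := by
      rw [← pow_succ, Nat.sub_add_cancel hq1, hτ]
    have h2 : τ ^ (q - 1) = 1 := mul_right_cancel₀ h0 (by rw [this, one_mul])
    simpa using h2
  rw [← hk, ← pow_mul, ← orderOf_dvd_iff_pow_eq_one, hord] at h1
  have h3 : q ^ 2 - 1 = (q + 1) * (q - 1) := by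
    obtain ⟨m, rfl⟩ : ∃ m, q = m + 1 := ⟨q - 1, by omega⟩
    simp
    ring_nf
    omega
  rw [h3, mul_comm k] at h1
  by_cases hq2 : q = 1
  · subst hq2
    refine ⟨1, ?_⟩
    have h4 : Fintype.card F = 1 := by simpa using hF
    have := Fintype.one_lt_card (α := F)
    omega
  have h4 : (q + 1) ∣ k := Nat.dvd_of_mul_dvd_mul_left (by omega : 0 < q - 1) (by rwa [mul_comm (q - 1) (q + 1)])
  obtain ⟨l, rfl⟩ := h4
  refine ⟨((g ^ l : Fˣ) : F), ?_⟩
  have h5 := congrArg Units.val hk
  simp only [Units.val_mk0] at h5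
  rw [← h5, ← Units.val_pow_eq_pow_val, ← pow_mul, mul_comm l, ]

/-- Orthonormal bases. -/
theorem exists_on [Fact p.Prime] [CharP F p] (hF : Fintype.card F = q ^ 2) (hp2 : p ≠ 2) {j : ℕ} (hq : q = p ^ j) (hq0 : 0 < q) :
    ∀ (n : ℕ) (V : Type u) [AddCommGroup V] [Module F V] [FiniteDimensional F V] (B : V → V → F) (hB : Herm (F := F) q B)
      (hn : finrank F V = n), ∃ b : Fin n → V, ∀ i j, B (b i) (b j) = if i = j then 1 else 0 := by
  intro n
  induction n with
  | zero =>
    intro V _ _ _ B hB hn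
    exact ⟨Fin.elim0, fun i => i.elim0⟩
  | succ n ih =>
    intro V _ _ _ B hB hn
    obtain ⟨ρ', hρ'⟩ := exists_rh (p := p) F hq 1
    have hρ : ∀ x, ρ' x = x ^ q := fun x => by rw [hρ', pow_one]
    haveI : Nontrivial V := Module.nontrivial_of_finrank_pos (R := F) (by omega)
    have h2 : (2 : F) ≠ 0 := two_ne_zero_F hp2
    -- a vector of nonzero norm
    have hex : ∃ x, B x x ≠ 0 := by
      by_contra hall
      push Not at hall
      obtain ⟨x, hx⟩ := exists_ne (0 : V)
      have h1 : ∃ y, B x y ≠ 0 := by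
        by_contra h3
        push Not at h3
        exact hx (hB.nondeg x h3)
      obtain ⟨y, hy⟩ := h1
      set c := (B x y)⁻¹ with hc
      have h3 := hall (c • x + y)
      rw [hB.add_left, Herm.add_right hq hB, Herm.add_right hq hB, hB.smul_left, hB.smul_left, hB.smul_right, hB.smul_right, hall x, hall y] at h3
      have h4 : B y x = (B x y) ^ q := hB.symm x y
      rw [h4, ← mul_pow] at h3
      have h5 : c * B x y = 1 := inv_mul_cancel₀ hy
      rw [h5, one_pow] at h3
      apply h2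
      linear_combination h3
    obtain ⟨x, hx⟩ := hex
    have hxq : (B x x) ^ q = B x x := (hB.symm x x).symm
    obtain ⟨c, hc⟩ := exists_norm hF hq0 (B x x)⁻¹ (inv_ne_zero hx) (by rw [inv_pow, hxq])
    set u := c • x with hu
    have huu : B u u = 1 := by
      rw [hu, hB.smul_left, hB.smul_right, ← mul_assoc, mul_comm c, ← pow_succ, hc, inv_mul_cancel₀ hx]
    let f : V →ₗ[F] F :=
      { toFun := fun v => B v u
        map_add' := fun a b => hB.add_left a b u
        map_smul' := fun a b => hB.smul_left a b u }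
    have hfu : f u = 1 := huu
    have hfs : Function.Surjective f := by
      intro a
      refine ⟨a • u, ?_⟩
      rw [map_smul, hfu, smul_eq_mul, mul_one]
    have hrank := LinearMap.finrank_range_add_finrank_ker f
    rw [LinearMap.range_eq_top.2 hfs, finrank_top, finrank_self, hn] at hrank
    have hW : finrank F (LinearMap.ker f) = n := by omega
    let B' : LinearMap.ker f → LinearMap.ker f → F := fun a b => B a b
    have hB' : Herm (F := F) q B' :=
      { add_left := fun a a' b => hB.add_left a a' b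
        smul_left := fun a a' b => hB.smul_left a a' b
        symm := fun a b => hB.symm a b
        nondeg := by
          intro a ha
          apply Subtype.ext
          apply hB.nondeg
          intro v
          have hw : v - (B v u) • u ∈ LinearMap.ker f := by
            rw [LinearMap.mem_ker, map_sub, map_smul, hfu, smul_eq_mul, mul_one]
            exact sub_self _
          have h1 := ha ⟨_, hw⟩
          have h3 : B' a ⟨_, hw⟩ = B a (v - (B v u) • u) := rfl
          rw [h3] at h1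
          have h4 : B a u = 0 := a.2
          have h5 : v = (v - (B v u) • u) + (B v u) • u := by abel
          rw [h5, Herm.add_right hq hB, h1, hB.smul_right, h4]
          simp }
    obtain ⟨b', hb'⟩ := ih (LinearMap.ker f) B' hB' hW
    refine ⟨Fin.cons u (fun i => (b' i : V)), ?_⟩
    have hperp : ∀ i, B (b' i) u = 0 := fun i => (b' i).2
    have hperp' : ∀ i, B u (b' i) = 0 := by
      intro i
      rw [hB.symm, hperp, zero_pow hq0.ne']
    intro a b
    refine Fin.cases ?_ (fun a => ?_) a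
    · refine Fin.cases ?_ (fun b => ?_) b
      · simpa using huu
      · simp only [Fin.cons_zero, Fin.cons_succ]
        rw [if_neg (Fin.succ_ne_zero b).symm]
        exact hperp' b
    · refine Fin.cases ?_ (fun b => ?_) b
      · simp only [Fin.cons_zero, Fin.cons_succ]
        rw [if_neg (Fin.succ_ne_zero a)]
        exact hperp a
      · simp only [Fin.cons_succ, Fin.succ_inj]
        exact hb' a b

/-- isometries of a three dimensional Hermitian space give elements of `SU_3`. -/
theorem transport [Fact p.Prime] [CharP F p] (hF : Fintype.card F = q ^ 2) (hp2 : p ≠ 2) {j : ℕ} (hq : q = p ^ j) (hq0 : 0 < q)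
    {V : Type u} [AddCommGroup V] [Module F V] [FiniteDimensional F V] (B : V → V → F) (hB : Herm (F := F) q B)
    (hV : finrank F V = 3) (τ : V →ₗ[F] V) (hτ : ∀ x y, B (τ x) (τ y) = B x y) (hdet : LinearMap.det τ = 1) :
    ∃ g : Cfsg.SU 3 F q, ∀ (m : ℕ) (c : F),
      (((g ^ m : Cfsg.SU 3 F q) : Matrix.SpecialLinearGroup (Fin 3) F) : Matrix (Fin 3) (Fin 3) F) = c • 1 ↔ τ ^ m = c • 1 := by
  classical
  obtain ⟨b, hb⟩ := exists_on hF hp2 hq hq0 3 V B hB hV
  have hLI : LinearIndependent F b := by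
    rw [Fintype.linearIndependent_iff]
    intro g hg i
    have h1 : B (∑ k, g k • b k) (b i) = 0 := by
      rw [hg]
      have := hB.smul_left 0 (0 : V) (b i)
      simpa using this
    rw [Fin.sum_univ_three, hB.add_left, hB.add_left, hB.smul_left, hB.smul_left, hB.smul_left, hb, hb, hb] at h1
    fin_cases i <;> simpa using h1
  let bb := basisOfLinearIndependentOfCardEqFinrank hLI (by simp [hV])
  have hbb : ∀ i, bb i = b i := fun i => by simp [bb]
  have hform : ∀ x y : V, B x y = Cfsg.hermForm 3 F q (bb.repr x) (bb.repr y) := by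
    intro x y
    have hx := bb.sum_repr x
    have hy := bb.sum_repr y
    rw [Fin.sum_univ_three, hbb, hbb, hbb] at hx hy
    unfold Cfsg.hermForm
    rw [Fin.sum_univ_three]
    generalize bb.repr x = X at hx
    generalize bb.repr y = Y at hy
    rw [← hx, ← hy]
    simp only [hB.add_left, Herm.add_right hq hB, hB.smul_left, hB.smul_right, hb]
    simp
  let φ := LinearMap.toMatrixAlgEquiv bb
  let M : Matrix (Fin 3) (Fin 3) F := φ τ
  have hMdet : M.det = 1 := by
    have : M = LinearMap.toMatrix bb bb τ := rfl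
    rw [this, LinearMap.det_toMatrix, hdet]
  have hMvec : ∀ x : V, M *ᵥ (bb.repr x) = bb.repr (τ x) := by
    intro x
    have := LinearMap.toMatrix_mulVec_repr bb bb τ x
    exact this
  have hMpres : ∀ u v : Fin 3 → F, Cfsg.hermForm 3 F q (M *ᵥ u) (M *ᵥ v) = Cfsg.hermForm 3 F q u v := by
    intro u v
    have hsurj : ∀ w : Fin 3 → F, ∃ x : V, ⇑(bb.repr x) = w := by
      intro w
      refine ⟨bb.equivFun.symm w, ?_⟩
      have := bb.equivFun.apply_symm_apply w
      rwa [Basis.equivFun_apply] at this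
    obtain ⟨x, rfl⟩ := hsurj u
    obtain ⟨y, rfl⟩ := hsurj v
    rw [hMvec, hMvec, ← hform, hτ, hform]
  let g : Cfsg.SU 3 F q := ⟨⟨M, hMdet⟩, fun u v => hMpres u v⟩
  refine ⟨g, ?_⟩
  intro m c
  have hcoe : (((g ^ m : Cfsg.SU 3 F q) : Matrix.SpecialLinearGroup (Fin 3) F) : Matrix (Fin 3) (Fin 3) F) = M ^ m := by
    rw [Subgroup.coe_pow, Matrix.SpecialLinearGroup.coe_pow]
  rw [hcoe]
  have h1 : M ^ m = φ (τ ^ m) := by rw [map_pow]
  have h2 : c • (1 : Matrix (Fin 3) (Fin 3) F) = φ (c • 1) := by rw [map_smul, map_one]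
  rw [h1, h2]
  exact φ.injective.eq_iff

/-- Orders in `PSU_3`. -/
theorem psu_order (hF : Fintype.card F = q ^ 2) (g : Cfsg.SU 3 F q) (t : ℕ)
    (h : ∀ m : ℕ, (∃ c : F, (((g ^ m : Cfsg.SU 3 F q) : Matrix.SpecialLinearGroup (Fin 3) F) : Matrix (Fin 3) (Fin 3) F) = c • 1) ↔ t ∣ m) :
    ∃ y : Cfsg.PSU 3 F q, orderOf y = t := by
  have hiff : ∀ m : ℕ, (QuotientGroup.mk g : Cfsg.PSU 3 F q) ^ m = 1 ↔ t ∣ m := by
    intro m
    rw [← QuotientGroup.mk_pow, QuotientGroup.eq_one_iff, ← h]
    constructor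
    · intro hc
      exact ⟨_, Cfsg.Agent.Lead.center_SU_scalar hF hc 0⟩
    · rintro ⟨c, hc⟩
      rw [Subgroup.mem_center_iff]
      intro B
      apply Subtype.ext
      apply Subtype.ext
      change ((B : Matrix.SpecialLinearGroup (Fin 3) F) : Matrix (Fin 3) (Fin 3) F) * (((g ^ m : Cfsg.SU 3 F q) : Matrix.SpecialLinearGroup (Fin 3) F) : Matrix (Fin 3) (Fin 3) F) =
        (((g ^ m : Cfsg.SU 3 F q) : Matrix.SpecialLinearGroup (Fin 3) F) : Matrix (Fin 3) (Fin 3) F) * ((B : Matrix.SpecialLinearGroup (Fin 3) F) : Matrix (Fin 3) (Fin 3) F)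
      rw [hc]
      simp
  refine ⟨QuotientGroup.mk g, ?_⟩
  apply Nat.dvd_antisymm
  · rw [orderOf_dvd_iff_pow_eq_one, hiff]
  · rw [← hiff, pow_orderOf_eq_one]

/-- The upper bound for orders in `PSU_3`. -/
theorem psu_dvd (g : Cfsg.SU 3 F q) (N : ℕ) (c : F)
    (h : (((g : Cfsg.SU 3 F q) : Matrix.SpecialLinearGroup (Fin 3) F) : Matrix (Fin 3) (Fin 3) F) ^ N = c • 1) :
    orderOf (QuotientGroup.mk g : Cfsg.PSU 3 F q) ∣ N := by
  rw [orderOf_dvd_iff_pow_eq_one, ← QuotientGroup.mk_pow, QuotientGroup.eq_one_iff, Subgroup.mem_center_iff]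
  intro B
  have hc : (((g ^ N : Cfsg.SU 3 F q) : Matrix.SpecialLinearGroup (Fin 3) F) : Matrix (Fin 3) (Fin 3) F) = c • 1 := by
    rw [← h, Subgroup.coe_pow, Matrix.SpecialLinearGroup.coe_pow]
  apply Subtype.ext
  apply Subtype.ext
  change ((B : Matrix.SpecialLinearGroup (Fin 3) F) : Matrix (Fin 3) (Fin 3) F) * (((g ^ N : Cfsg.SU 3 F q) : Matrix.SpecialLinearGroup (Fin 3) F) : Matrix (Fin 3) (Fin 3) F) =
    (((g ^ N : Cfsg.SU 3 F q) : Matrix.SpecialLinearGroup (Fin 3) F) : Matrix (Fin 3) (Fin 3) F) * ((B : Matrix.SpecialLinearGroup (Fin 3) F) : Matrix (Fin 3) (Fin 3) F)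
  rw [hc]
  simp

/-- All orders lie in the list. -/
theorem psu_upper [Fact p.Prime] [CharP F p] (hF : Fintype.card F = q ^ 2) (hp2 : p ≠ 2) (y : Cfsg.PSU 3 F q) :
    orderOf y ∣ q + 1 ∨ orderOf y ∣ p * ((q + 1) / Nat.gcd 3 (q + 1)) ∨ orderOf y ∣ (q ^ 2 - 1) / Nat.gcd 3 (q + 1) ∨
      orderOf y ∣ (q ^ 2 - q + 1) / Nat.gcd 3 (q + 1) := by
  obtain ⟨g, rfl⟩ := QuotientGroup.mk_surjective y
  obtain ⟨c, h⟩ := upper (p := p) hF hp2 (((g : Cfsg.SU 3 F q) : Matrix.SpecialLinearGroup (Fin 3) F) : Matrix (Fin 3) (Fin 3) F)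
    ((g : Matrix.SpecialLinearGroup (Fin 3) F)).2 (fun u v => g.2 u v)
  rcases h with h | h | h | h
  · exact Or.inl (psu_dvd g _ c h)
  · exact Or.inr (Or.inl (psu_dvd g _ c h))
  · exact Or.inr (Or.inr (Or.inl (psu_dvd g _ c h)))
  · exact Or.inr (Or.inr (Or.inr (psu_dvd g _ c h)))

end Cfsg.Agent.H11.PSU3
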