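import Cfsg.Agent.Lib.H11.PrimeGr3
import Cfsg.Agent.Lib.H29.SympRank

/-! Isometries of alternating forms: fixed spaces, self-dual irreducible modules. -/

set_option autoImplicit false
set_option linter.unusedSectionVars false
set_option linter.unusedVariables false

namespace Cfsg.Agent.H11.PSpG

open Module Polynomial

section fixed

variable {F : Type*} [Field F] {V : Type*} [AddCommGroup V] [Module F V]

open Cfsg.Agent.H29 in
/-- the fixed space of an isometry on a nondegenerate invariant subspace -/
theorem nondeg_fix (ω : V →ₗ[F] V →ₗ[F] F) (W : Submodule F V) (hnd : NondegOn ω W)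
    (t : V →ₗ[F] V) (hiso : ∀ x y, ω (t x) (t y) = ω x y) (hW : ∀ v ∈ W, t v ∈ W) (N : ℕ) (hN : (N : F) ≠ 0)
    (ht : ∀ v ∈ W, (t ^ N) v = v) : NondegOn ω (W ⊓ LinearMap.ker (t - 1)) := by
  rintro u ⟨huW, huF⟩ hu0
  obtain ⟨v, hv, huv⟩ := hnd u huW hu0
  have htu : t u = u := by
    have h1 : (t - 1) u = 0 := huF
    rw [LinearMap.sub_apply, sub_eq_zero] at h1
    exact h1
  have hpow : ∀ i : ℕ, (t ^ i) u = u := by
    intro i
    induction i with
    | zero => simp
    | succ i ih => rw [pow_succ, Module.End.mul_apply, htu, ih]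
  have hiso' : ∀ (i : ℕ) (x y : V), ω ((t ^ i) x) ((t ^ i) y) = ω x y := by
    intro i
    induction i with
    | zero => intro x y; simp
    | succ i ih =>
      intro x y
      rw [pow_succ, Module.End.mul_apply, Module.End.mul_apply, ih, hiso]
  have hmem : ∀ i : ℕ, (t ^ i) v ∈ W := by
    intro i
    induction i with
    | zero => simpa using hv
    | succ i ih =>
      rw [pow_succ', Module.End.mul_apply]
      exact hW _ ih
  let P : V := ∑ i ∈ Finset.range N, (t ^ i) v
  have hPW : P ∈ W := Submodule.sum_mem _ fun i _ => hmem i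
  have hPF : P ∈ LinearMap.ker (t - 1) := by
    change (t - 1) P = 0
    rw [LinearMap.sub_apply, sub_eq_zero, Module.End.one_apply]
    simp only [P, map_sum]
    have h1 : ∀ i, t ((t ^ i) v) = (t ^ (i + 1)) v := fun i => by rw [pow_succ', Module.End.mul_apply]
    simp only [h1]
    have h2 := Finset.sum_range_succ (fun i => (t ^ i) v) N
    have h3 := Finset.sum_range_succ' (fun i => (t ^ i) v) N
    rw [ht v hv] at h2
    simp only [pow_zero, Module.End.one_apply] at h3
    have h4 := h2.symm.trans h3
    exact add_right_cancel h4.symm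
  refine ⟨P, ⟨hPW, hPF⟩, ?_⟩
  have h5 : ω u P = (N : F) * ω u v := by
    simp only [P, map_sum]
    have h6 : ∀ i, ω u ((t ^ i) v) = ω u v := by
      intro i
      conv_lhs => rw [← hpow i]
      exact hiso' i u v
    simp only [h6]
    simp
  rw [h5]
  exact mul_ne_zero hN huv

/-- a fixed vector in the image of `t - 1` vanishes -/
theorem fix_inf_range (t : V →ₗ[F] V) (N : ℕ) (hN : (N : F) ≠ 0) (ht : t ^ N = 1) (v : V)
    (h1 : v ∈ LinearMap.ker (t - 1)) (h2 : v ∈ LinearMap.range (t - 1)) : v = 0 := by
  obtain ⟨w, rfl⟩ := h2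
  set v := (t - 1) w with hv
  have h3 : t v = v := by
    have h4 : (t - 1) v = 0 := h1
    rw [LinearMap.sub_apply, sub_eq_zero] at h4
    exact h4
  have h5 : t w = w + v := by
    rw [hv, LinearMap.sub_apply, Module.End.one_apply]
    abel
  have h6 : ∀ i : ℕ, (t ^ i) w = w + (i : F) • v := by
    intro i
    induction i with
    | zero => simp
    | succ i ih =>
      rw [pow_succ', Module.End.mul_apply, ih, map_add, h5, map_smul, h3, add_assoc, Nat.cast_succ, add_smul, one_smul, add_comm v]
  have h7 := h6 N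
  rw [ht, Module.End.one_apply] at h7
  have h8 : (N : F) • v = 0 := by
    have := add_eq_left.1 h7.symm
    exact this
  exact (smul_eq_zero.1 h8).resolve_left hN

/-- adjoint for polynomials -/
theorem form_aeval (ω : V →ₗ[F] V →ₗ[F] F) (t S : V →ₗ[F] V) (h : ∀ x w, ω (t x) w = ω x (S w)) (f : F[X]) (x w : V) :
    ω (aeval t f x) w = ω x (aeval S f w) := by
  have hp : ∀ (n : ℕ) (x w : V), ω ((t ^ n) x) w = ω x ((S ^ n) w) := by
    intro n
    induction n with
    | zero => intro x w; simp
    | succ n ih =>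
      intro x w
      rw [pow_succ, Module.End.mul_apply, ih, h, pow_succ', Module.End.mul_apply]
  induction f using Polynomial.induction_on' with
  | add f g hf hg =>
    simp only [map_add, LinearMap.add_apply, hf, hg]
  | monomial n a =>
    simp only [aeval_monomial, Module.End.mul_apply, Module.algebraMap_end_apply, map_smul, LinearMap.smul_apply, hp]

/-- compatibility of `aeval` with restriction to a subspace -/
theorem aeval_restr {W : Submodule F V} (T : W →ₗ[F] W) (t : V →ₗ[F] V) (h : ∀ v : W, (T v : V) = t v) (f : F[X]) (v : W) :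
    ((aeval T f v : W) : V) = aeval t f (v : V) := by
  have hp : ∀ (n : ℕ) (v : W), (((T ^ n) v : W) : V) = (t ^ n) (v : V) := by
    intro n
    induction n with
    | zero => intro v; simp
    | succ n ih =>
      intro v
      rw [pow_succ, Module.End.mul_apply, ih, h, pow_succ, Module.End.mul_apply]
  induction f using Polynomial.induction_on' with
  | add f g hf hg =>
    simp only [map_add, LinearMap.add_apply, Submodule.coe_add, hf, hg]
  | monomial n a =>
    simp only [aeval_monomial, Module.End.mul_apply, Module.algebraMap_end_apply, map_smul, LinearMap.smul_apply, hp,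
      Submodule.coe_smul]

/-- an irreducible polynomial annihilating an irreducible linear map -/
theorem exists_irred_ann [FiniteDimensional F V] [Nontrivial V] (T : V →ₗ[F] V)
    (hirr : ∀ U : Submodule F V, (∀ v ∈ U, T v ∈ U) → U = ⊥ ∨ U = ⊤) :
    ∃ π : F[X], Irreducible π ∧ aeval T π = 0 := by
  have hint : IsIntegral F T := Algebra.IsIntegral.isIntegral T
  have hm0 : minpoly F T ≠ 0 := minpoly.ne_zero hint
  have hdeg : (minpoly F T).natDegree ≠ 0 := by
    have := minpoly.natDegree_pos hint
    omega
  obtain ⟨π, hπ, g, hg⟩ := Polynomial.exists_irreducible_of_natDegree_ne_zero hdeg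
  refine ⟨π, hπ, ?_⟩
  set A : V →ₗ[F] V := aeval T π with hA
  have hcomm : ∀ v, A (T v) = T (A v) := by
    intro v
    have h1 : A * T = T * A := by
      rw [hA]
      have h2 : aeval T π * T = aeval T (π * X) := by rw [map_mul, aeval_X]
      have h3 : T * aeval T π = aeval T (X * π) := by rw [map_mul, aeval_X]
      rw [h2, h3, mul_comm]
    exact congrArg (fun f : V →ₗ[F] V => f v) h1
  rcases hirr (LinearMap.ker A) (fun v hv => by
    rw [LinearMap.mem_ker] at hv ⊢
    rw [hcomm, hv, map_zero]) with h0 | h1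
  · exfalso
    have hinj : Function.Injective A := LinearMap.ker_eq_bot.1 h0
    have h2 : aeval T g = 0 := by
      apply LinearMap.ext
      intro v
      apply hinj
      have h3 : A (aeval T g v) = (aeval T (π * g)) v := by
        rw [map_mul]
        rfl
      rw [h3, ← hg, minpoly.aeval]
      simp
    have h4 := minpoly.dvd F T h2
    have hg0 : g ≠ 0 := by
      rintro rfl
      exact hm0 (by rw [hg, mul_zero])
    have h5 := Polynomial.natDegree_le_of_dvd h4 hg0
    have h6 : (minpoly F T).natDegree = π.natDegree + g.natDegree := by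
      rw [hg, Polynomial.natDegree_mul hπ.ne_zero hg0]
    have h7 : π.natDegree ≠ 0 := by
      intro h8
      have := hπ.natDegree_pos
      omega
    omega
  · exact LinearMap.ker_eq_top.1 h1

end fixed

section selfdual

variable {F : Type*} [Field F] [Fintype F]

/-- An element of a ring with `π(T) = π(T⁻¹) = 0`, `π` irreducible. -/
theorem selfdual_alg {A : Type*} [Ring A] [Algebra F A] [Nontrivial A] (T : A) (N : ℕ) (hN : 0 < N) (hT : T ^ N = 1)
    (π : F[X]) (hπ : Irreducible π) (h1 : aeval T π = 0) (h2 : aeval (T ^ (N - 1)) π = 0) :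
    ∃ i : ℕ, T ^ (Fintype.card F ^ i + 1) = 1 := by
  classical
  have key : ∀ f : F[X], aeval T f = 0 → π ∣ f := by
    intro f hf
    by_contra hnd
    have hc : IsCoprime π f := (hπ.coprime_iff_not_dvd).2 hnd
    obtain ⟨u, v, huv⟩ := hc
    have h3 := congrArg (aeval T) huv
    simp only [map_add, map_mul, h1, hf, mul_zero, map_one, add_zero] at h3
    exact zero_ne_one h3
  haveI : Fact (Irreducible π) := ⟨hπ⟩
  let E := AdjoinRoot π
  have hfin : Module.Finite F E := (AdjoinRoot.powerBasis hπ.ne_zero).finite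
  haveI : Finite E := Module.finite_of_finite F
  let θ : E := AdjoinRoot.root π
  have hmk : ∀ f : F[X], aeval T f = 0 → aeval θ f = 0 := by
    intro f hf
    rw [AdjoinRoot.aeval_eq]
    exact AdjoinRoot.mk_eq_zero.2 (key f hf)
  have hθN : θ ^ N = 1 := by
    have h3 := hmk (X ^ N - 1) (by simp [hT])
    simpa [sub_eq_zero] using h3
  have hroot : aeval (θ ^ (N - 1)) π = 0 := by
    have h3 := hmk (π.comp (X ^ (N - 1))) (by
      rw [aeval_comp]
      simpa using h2)
    rw [aeval_comp] at h3
    simpa using h3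
  have hconj : IsConjRoot F θ (θ ^ (N - 1)) := by
    rw [isConjRoot_iff_aeval_eq_zero (Algebra.IsIntegral.isIntegral θ)]
    have h4 : minpoly F θ = π * C π.leadingCoeff⁻¹ := AdjoinRoot.minpoly_root hπ.ne_zero
    rw [h4, map_mul, hroot, zero_mul]
  obtain ⟨σ, hσ⟩ := (isConjRoot_iff_exists_algEquiv.1 hconj.symm)
  obtain ⟨m, hm⟩ := (FiniteField.bijective_frobeniusAlgEquivOfAlgebraic_pow F E).2 σ
  have hfrob : ∀ (j : ℕ) (x : E), (FiniteField.frobeniusAlgEquivOfAlgebraic F E ^ j) x = x ^ Fintype.card F ^ j := by
    intro j x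
    induction j with
    | zero => simp
    | succ j ih =>
      rw [pow_succ', AlgEquiv.mul_apply, ih, FiniteField.coe_frobeniusAlgEquivOfAlgebraic]
      change (x ^ Fintype.card F ^ j) ^ Fintype.card F = _
      rw [← pow_mul, pow_succ]
  refine ⟨m.1, ?_⟩
  have h5 : θ ^ (Fintype.card F ^ m.1) = θ ^ (N - 1) := by
    rw [← hfrob, ← hσ]
    have : FiniteField.frobeniusAlgEquivOfAlgebraic F E ^ m.1 = σ := hm
    rw [this]
  have h6 : θ ^ (Fintype.card F ^ m.1 + 1) = 1 := by
    rw [pow_succ, h5, ← pow_succ, Nat.sub_add_cancel hN, hθN]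
  have h7 : π ∣ X ^ (Fintype.card F ^ m.1 + 1) - 1 := by
    rw [← AdjoinRoot.mk_eq_zero, ← AdjoinRoot.aeval_eq]
    simpa [sub_eq_zero] using h6
  obtain ⟨g, hg⟩ := h7
  have h8 := congrArg (aeval T) hg
  simp only [map_sub, map_pow, aeval_X, map_one, map_mul, h1, zero_mul] at h8
  exact sub_eq_zero.1 h8

end selfdual

end Cfsg.Agent.H11.PSpG
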