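import Cfsg.Agent.Lib.H11.PSpA

/-! Dimensions of fixed spaces for commuting isometries of prime orders. -/

set_option autoImplicit false
set_option linter.unusedSectionVars false
set_option linter.unusedVariables false

namespace Cfsg.Agent.H11.PSpG

open Module Polynomial Cfsg.Agent.H29

section

variable {F : Type*} [Field F] {V : Type*} [AddCommGroup V] [Module F V]

/-- minimal invariant subspaces exist -/
theorem exists_min_inv [FiniteDimensional F V] (t : V →ₗ[F] V) (Z : Submodule F V) (hZ0 : Z ≠ ⊥) (hZ : ∀ v ∈ Z, t v ∈ Z) :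
    ∃ W : Submodule F V, W ≤ Z ∧ W ≠ ⊥ ∧ (∀ v ∈ W, t v ∈ W) ∧
      ∀ U : Submodule F V, U ≤ W → (∀ v ∈ U, t v ∈ U) → U = ⊥ ∨ U = W := by
  let S : Set (Submodule F V) := {W | W ≤ Z ∧ W ≠ ⊥ ∧ ∀ v ∈ W, t v ∈ W}
  have hS : S.Nonempty := ⟨Z, le_rfl, hZ0, hZ⟩
  obtain ⟨W, hW, hmin⟩ := (wellFounded_lt (α := Submodule F V)).has_min S hS
  refine ⟨W, hW.1, hW.2.1, hW.2.2, ?_⟩
  intro U hU hUi
  by_cases hU0 : U = ⊥
  · exact Or.inl hU0
  · right
    by_contra hne
    exact hmin U ⟨hU.trans hW.1, hU0, hUi⟩ (lt_of_le_of_ne hU hne)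

theorem pow_on {W : Submodule F V} (T : W →ₗ[F] W) (t : V →ₗ[F] V) (h : ∀ v : W, (T v : V) = t v) (n : ℕ) (v : W) :
    (((T ^ n) v : W) : V) = (t ^ n) (v : V) := by
  induction n generalizing v with
  | zero => simp
  | succ n ih =>
    rw [pow_succ, Module.End.mul_apply, ih, h, pow_succ, Module.End.mul_apply]

/-- an irreducible polynomial annihilating an irreducible subspace -/
theorem exists_ann [FiniteDimensional F V] (W : Submodule F V) (hW0 : W ≠ ⊥) (t : V →ₗ[F] V) (hinv : ∀ v ∈ W, t v ∈ W)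
    (hirr : ∀ U : Submodule F V, U ≤ W → (∀ v ∈ U, t v ∈ U) → U = ⊥ ∨ U = W) :
    ∃ π : F[X], Irreducible π ∧ ∀ v ∈ W, aeval t π v = 0 := by
  haveI : Nontrivial W := Submodule.nontrivial_iff_ne_bot.2 hW0
  let T : W →ₗ[F] W := t.restrict hinv
  have hT : ∀ v : W, (T v : V) = t v := fun v => rfl
  obtain ⟨π, hπ, hann⟩ := exists_irred_ann T (by
    intro U hU
    rcases hirr (U.map W.subtype) (by
        rintro _ ⟨x, -, rfl⟩
        exact x.2) (by
        rintro _ ⟨x, hx, rfl⟩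
        exact ⟨T x, hU x hx, (hT x).symm ▸ rfl⟩) with h0 | h1
    · left
      rw [eq_bot_iff]
      intro x hx
      have h2 : (x : V) ∈ U.map W.subtype := ⟨x, hx, rfl⟩
      rw [h0] at h2
      have h3 : (x : V) = 0 := by simpa using h2
      exact (Submodule.mem_bot F).2 (Subtype.ext h3)
    · right
      rw [eq_top_iff]
      intro x _
      have hx : (x : V) ∈ U.map W.subtype := by
        rw [h1]
        exact x.2
      obtain ⟨z, hz, hzx⟩ := hx
      have : z = x := Subtype.ext hzx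
      rwa [← this])
  refine ⟨π, hπ, ?_⟩
  intro v hv
  have h1 := aeval_restr T t hT π ⟨v, hv⟩
  rw [hann] at h1
  simpa using h1.symm

/-- self-duality gives an order dividing `q^i + 1` -/
theorem selfdual_of_ann [Fintype F] (W : Submodule F V) (hW0 : W ≠ ⊥) (t : V →ₗ[F] V) (N : ℕ) (hN : 0 < N) (ht : t ^ N = 1)
    (hinv : ∀ v ∈ W, t v ∈ W) (π : F[X]) (hπ : Irreducible π) (h1 : ∀ v ∈ W, aeval t π v = 0)
    (h2 : ∀ v ∈ W, aeval (t ^ (N - 1)) π v = 0) :
    ∃ i : ℕ, ∀ v ∈ W, (t ^ (Fintype.card F ^ i + 1)) v = v := by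
  haveI : Nontrivial W := Submodule.nontrivial_iff_ne_bot.2 hW0
  let T : W →ₗ[F] W := t.restrict hinv
  have hT : ∀ v : W, (T v : V) = t v := fun v => rfl
  have hTN : T ^ N = 1 := by
    apply LinearMap.ext
    intro v
    apply Subtype.ext
    rw [pow_on T t hT, ht]
    rfl
  have hπ1 : aeval T π = 0 := by
    apply LinearMap.ext
    intro v
    apply Subtype.ext
    rw [aeval_restr T t hT, h1 v v.2]
    rfl
  have hπ2 : aeval (T ^ (N - 1)) π = 0 := by
    apply LinearMap.ext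
    intro v
    apply Subtype.ext
    rw [aeval_restr (T ^ (N - 1)) (t ^ (N - 1)) (fun v => pow_on T t hT _ v), h2 v v.2]
    rfl
  obtain ⟨i, hi⟩ := selfdual_alg T N hN hTN π hπ hπ1 hπ2
  refine ⟨i, fun v hv => ?_⟩
  have h3 := pow_on T t hT (Fintype.card F ^ i + 1) ⟨v, hv⟩
  rw [hi] at h3
  exact h3.symm

/-- the adjoint of an isometry of finite order -/
theorem iso_adj (ω : V →ₗ[F] V →ₗ[F] F) (t : V →ₗ[F] V) (hiso : ∀ x y, ω (t x) (t y) = ω x y) (N : ℕ) (hN : 0 < N)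
    (ht : t ^ N = 1) (x w : V) : ω (t x) w = ω x ((t ^ (N - 1)) w) := by
  have h1 : t ((t ^ (N - 1)) w) = w := by
    rw [← Module.End.mul_apply, ← pow_succ', Nat.sub_add_cancel hN, ht]
    rfl
  conv_lhs => rw [← h1]
  exact hiso _ _

/-- on a nondegenerate irreducible subspace -/
theorem selfdual_nondeg [Fintype F] [FiniteDimensional F V] (ω : V →ₗ[F] V →ₗ[F] F) (halt : ∀ v, ω v v = 0)
    (W : Submodule F V) (hW0 : W ≠ ⊥) (hnd : NondegOn ω W) (t : V →ₗ[F] V)
    (hiso : ∀ x y, ω (t x) (t y) = ω x y) (N : ℕ) (hN : 0 < N) (ht : t ^ N = 1) (hinv : ∀ v ∈ W, t v ∈ W)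
    (hirr : ∀ U : Submodule F V, U ≤ W → (∀ v ∈ U, t v ∈ U) → U = ⊥ ∨ U = W) :
    ∃ i : ℕ, ∀ v ∈ W, (t ^ (Fintype.card F ^ i + 1)) v = v := by
  obtain ⟨π, hπ, h1⟩ := exists_ann W hW0 t hinv hirr
  refine selfdual_of_ann W hW0 t N hN ht hinv π hπ h1 ?_
  intro w hw
  have hSinv : ∀ (m : ℕ) (v : V), v ∈ W → (t ^ m) v ∈ W := by
    intro m v hv
    induction m with
    | zero => simpa using hv
    | succ m ih =>
      rw [pow_succ', Module.End.mul_apply]
      exact hinv _ ih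
  have hmem : aeval (t ^ (N - 1)) π w ∈ W := by
    have : ∀ f : F[X], aeval (t ^ (N - 1)) f w ∈ W := by
      intro f
      induction f using Polynomial.induction_on' with
      | add f g hf hg =>
        simp only [map_add, LinearMap.add_apply]
        exact W.add_mem hf hg
      | monomial n a =>
        simp only [aeval_monomial, Module.End.mul_apply, Module.algebraMap_end_apply]
        apply W.smul_mem
        rw [← pow_mul]
        exact hSinv _ _ hw
    exact this π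
  by_contra hne
  obtain ⟨x, hx, hxne⟩ := hnd _ hmem hne
  apply hxne
  rw [form_swap halt, ← form_aeval ω t (t ^ (N - 1)) (iso_adj ω t hiso N hN ht) π x w, h1 x hx]
  simp

/-- a power fixing a nonfixed vector -/
theorem dvd_of_pow_fix (a : V →ₗ[F] V) (r : ℕ) (hr : r.Prime) (ha : a ^ r = 1) (M : ℕ) (v : V) (hv : a v ≠ v)
    (h : (a ^ M) v = v) : r ∣ M := by
  by_contra hnd
  have hco : Nat.Coprime M r := ((Nat.Prime.coprime_iff_not_dvd hr).2 hnd).symm
  obtain ⟨m, -, hm⟩ := Nat.exists_mul_mod_eq_one_of_coprime hco hr.one_lt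
  have h1 : ∀ j : ℕ, (a ^ (M * j)) v = v := by
    intro j
    induction j with
    | zero => simp
    | succ j ih =>
      rw [Nat.mul_succ, pow_add, Module.End.mul_apply, h, ih]
  have h2 : M * m = r * (M * m / r) + 1 := by
    have := Nat.div_add_mod (M * m) r
    rw [hm] at this
    exact this.symm
  have h3 := h1 m
  rw [h2, pow_add, pow_mul, ha, one_pow, one_mul, pow_one] at h3
  exact hv h3

end

section nat

/-- the divisibility consequence of `r ∣ q ^ i + 1` -/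
theorem order_of_dvd (r q i : ℕ) [Fact r.Prime] (hr2 : r ≠ 2) (h : r ∣ q ^ i + 1) :
    orderOf ((q : ℕ) : ZMod r) ∣ 2 * i ∧ ¬ orderOf ((q : ℕ) : ZMod r) ∣ i := by
  have h1 : ((q : ℕ) : ZMod r) ^ i = -1 := by
    have h2 := (ZMod.natCast_eq_zero_iff (q ^ i + 1) r).2 h
    push_cast at h2
    exact eq_neg_of_add_eq_zero_left h2
  constructor
  · rw [orderOf_dvd_iff_pow_eq_one, mul_comm, pow_mul, h1]
    simp
  · intro h3
    rw [orderOf_dvd_iff_pow_eq_one, h1] at h3
    have h4 : (2 : ZMod r) = 0 := by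
      have : (1 : ZMod r) + 1 = 0 := by
        nth_rewrite 1 [← h3]
        simp
      rw [← this]
      norm_num
    have h5 : r ∣ 2 := by
      have := (ZMod.natCast_eq_zero_iff 2 r).1 (by exact_mod_cast h4)
      exact this
    have hrp : r.Prime := Fact.out
    exact hr2 ((Nat.prime_dvd_prime_iff_eq hrp Nat.prime_two).1 h5)

/-- halves -/
theorem eta_dvd (k η x : ℕ) (hη : (Odd k ∧ η = k) ∨ (Even k ∧ 2 * η = k)) (h : k ∣ 2 * x) : η ∣ x := by
  rcases hη with ⟨h1, rfl⟩ | ⟨h1, rfl⟩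
  · exact (Nat.Coprime.dvd_of_dvd_mul_left (by
      exact Nat.coprime_two_right.2 h1) h)
  · exact Nat.dvd_of_mul_dvd_mul_left (by
      by_contra h0
      simp at h1 h
      omega) h |>.trans dvd_rfl

/-- arithmetic: isotropic case -/
theorem arith_iso (n k l ηk ηl D : ℕ) (hηk : (Odd k ∧ ηk = k) ∨ (Even k ∧ 2 * ηk = k))
    (hηl : (Odd l ∧ ηl = l) ∨ (Even l ∧ 2 * ηl = l)) (hkl : ηk ≤ ηl) (hD : 0 < D) (hk : k ∣ D) (hl : l ∣ D) (hDn : D ≤ n)
    (hlt : n < ηk + ηl) : ∃ t, Odd t ∧ l = k * t := by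
  have hlD : l ≤ D := Nat.le_of_dvd hD hl
  rcases hηl with ⟨hl1, rfl⟩ | ⟨hl1, hl2⟩
  swap
  · omega
  rcases hηk with ⟨hk1, rfl⟩ | ⟨hk1, hk2⟩
  · obtain ⟨c, hc⟩ := hl
    have hc1 : c = 1 := by
      have : c < 2 := by
        by_contra h2
        have : ηl * 2 ≤ ηl * c := Nat.mul_le_mul_left _ (by omega)
        omega
      have : c ≠ 0 := by
        rintro rfl
        omega
      omega
    subst hc1
    have h1 : ηk ∣ ηl := by
      rw [mul_one] at hc
      rwa [hc] at hk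
    obtain ⟨t, ht⟩ := h1
    refine ⟨t, ?_, ht⟩
    rw [ht] at hl1
    exact (Nat.odd_mul.1 hl1).2
  · exfalso
    have hDe : Even D := (even_iff_two_dvd.2 ((Dvd.intro_left _ (by rw [mul_comm]; exact hk2 )).trans hk))
    obtain ⟨c, hc⟩ := hl
    have hce : Even c := by
      rw [hc] at hDe
      rcases Nat.even_mul.1 hDe with h | h
      · exact absurd h (Nat.not_even_iff_odd.2 hl1)
      · exact h
    obtain ⟨c', rfl⟩ := hce
    have : c' ≠ 0 := by
      rintro rfl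
      omega
    have h2 : ηl * 2 ≤ ηl * (c' + c') := Nat.mul_le_mul_left _ (by omega)
    omega

/-- arithmetic: nondegenerate case -/
theorem arith_nd (n k l ηk ηl D i : ℕ) (hηk : (Odd k ∧ ηk = k) ∨ (Even k ∧ 2 * ηk = k))
    (hηl : (Odd l ∧ ηl = l) ∨ (Even l ∧ 2 * ηl = l)) (hkl : ηk ≤ ηl) (hD : 0 < D) (hk : k ∣ D) (hl : l ∣ D) (hDn : D ≤ 2 * n)
    (hk1 : k ∣ 2 * i) (hk2 : ¬ k ∣ i) (hl1 : l ∣ 2 * i) (hl2 : ¬ l ∣ i)
    (hlt : n < ηk + ηl) : ∃ t, Odd t ∧ l = k * t := by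
  have hke : ¬ Odd k := by
    intro h
    exact hk2 (Nat.Coprime.dvd_of_dvd_mul_left (by
      exact Nat.coprime_two_right.2 h) hk1)
  have hle : ¬ Odd l := by
    intro h
    exact hl2 (Nat.Coprime.dvd_of_dvd_mul_left (by
      exact Nat.coprime_two_right.2 h) hl1)
  rcases hηk with ⟨h, -⟩ | ⟨-, hk3⟩
  · exact absurd h hke
  rcases hηl with ⟨h, -⟩ | ⟨-, hl3⟩
  · exact absurd h hle
  have hlD : l ≤ D := Nat.le_of_dvd hD hl
  obtain ⟨c, hc⟩ := hl
  have hc1 : c = 1 := by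
    have h1 : c < 2 := by
      by_contra h2
      have : l * 2 ≤ l * c := Nat.mul_le_mul_left _ (by omega)
      omega
    have : c ≠ 0 := by
      rintro rfl
      omega
    omega
  subst hc1
  rw [mul_one] at hc
  rw [hc] at hk
  obtain ⟨t, ht⟩ := hk
  refine ⟨t, ?_, ht⟩
  by_contra hto
  obtain ⟨t', rfl⟩ := Nat.not_odd_iff_even.1 hto
  apply hk2
  have h5 : k * (t' + t') ∣ 2 * i := by
    rw [← ht]
    exact hl1
  have h6 : 2 * (k * t') ∣ 2 * i := by
    convert h5 using 1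
    ring
  exact (Dvd.intro _ rfl).trans (Nat.dvd_of_mul_dvd_mul_left (by norm_num) h6)

end nat

end Cfsg.Agent.H11.PSpG
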