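import Cfsg.Agent.Lib.H11.PSpB

/-! The dimension analysis for commuting isometries. -/

set_option autoImplicit false
set_option linter.unusedSectionVars false
set_option linter.unusedVariables false

namespace Cfsg.Agent.H11.PSpG

open Module Polynomial Cfsg.Agent.H29
open Cfsg.Agent.H11.PrimeGr (fix_dvd fix_ne_bot)

section

variable {F : Type*} [Field F] [Fintype F] {V : Type*} [AddCommGroup V] [Module F V] [FiniteDimensional F V]

theorem mem_fix (T : V →ₗ[F] V) (v : V) : v ∈ LinearMap.ker (T - 1) ↔ T v = v := by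
  rw [LinearMap.mem_ker, LinearMap.sub_apply, sub_eq_zero]
  rfl

theorem iso_pow (ω : V →ₗ[F] V →ₗ[F] F) (t : V →ₗ[F] V) (hiso : ∀ x y, ω (t x) (t y) = ω x y) (i : ℕ) (x y : V) :
    ω ((t ^ i) x) ((t ^ i) y) = ω x y := by
  induction i generalizing x y with
  | zero => simp
  | succ i ih => rw [pow_succ, Module.End.mul_apply, Module.End.mul_apply, ih, hiso]

theorem fix_inv (a c : V →ₗ[F] V) (h : a * c = c * a) (v : V) (hv : v ∈ LinearMap.ker (a - 1)) :
    c v ∈ LinearMap.ker (a - 1) := by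
  rw [mem_fix] at hv ⊢
  have h1 := LinearMap.congr_fun h v
  simp only [Module.End.mul_apply] at h1
  rw [h1, hv]

theorem range_inv (a c : V →ₗ[F] V) (h : a * c = c * a) (v : V) (hv : v ∈ LinearMap.range (a - 1)) :
    c v ∈ LinearMap.range (a - 1) := by
  obtain ⟨w, rfl⟩ := hv
  refine ⟨c w, ?_⟩
  have h1 := LinearMap.congr_fun h w
  simp only [Module.End.mul_apply] at h1
  simp only [LinearMap.sub_apply, Module.End.one_apply, map_sub, h1]

theorem pow_mem_inv (t : V →ₗ[F] V) (W : Submodule F V) (hW : ∀ v ∈ W, t v ∈ W) (m : ℕ) (v : V) (hv : v ∈ W) :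
    (t ^ m) v ∈ W := by
  induction m with
  | zero => simpa using hv
  | succ m ih =>
    rw [pow_succ', Module.End.mul_apply]
    exact hW _ ih

/-- the orthogonal part of an invariant subspace is invariant -/
theorem orth_inv (ω : V →ₗ[F] V →ₗ[F] F) (t : V →ₗ[F] V) (hiso : ∀ x y, ω (t x) (t y) = ω x y) (N : ℕ) (hN : 0 < N)
    (ht : t ^ N = 1) (W : Submodule F V) (hW : ∀ v ∈ W, t v ∈ W) (v : V)
    (hv : v ∈ W ⊓ LinearMap.BilinForm.orthogonal ω W) : t v ∈ W ⊓ LinearMap.BilinForm.orthogonal ω W := by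
  refine ⟨hW _ hv.1, ?_⟩
  change t v ∈ LinearMap.BilinForm.orthogonal ω W
  rw [LinearMap.BilinForm.mem_orthogonal_iff]
  intro n hn
  have h1 : t ((t ^ (N - 1)) n) = n := by
    rw [← Module.End.mul_apply, ← pow_succ', Nat.sub_add_cancel hN, ht]
    rfl
  rw [← h1, hiso]
  exact (LinearMap.BilinForm.mem_orthogonal_iff.1 hv.2) _ (pow_mem_inv t W hW _ _ hn)

theorem form_nondegenerate (ω : V →ₗ[F] V →ₗ[F] F) (halt : ∀ v, ω v v = 0) (hnd : NondegOn ω ⊤) :
    LinearMap.BilinForm.Nondegenerate ω := by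
  constructor
  · intro x hx
    by_contra h
    obtain ⟨v, -, hv⟩ := hnd x Submodule.mem_top h
    exact hv (hx v)
  · intro x hx
    by_contra h
    obtain ⟨v, -, hv⟩ := hnd x Submodule.mem_top h
    apply hv
    rw [form_swap halt]
    simp [hx v]

/-- nondegeneracy from the trivial intersection with the orthogonal -/
theorem nondegOn_of_inf (ω : V →ₗ[F] V →ₗ[F] F) (halt : ∀ v, ω v v = 0) (W : Submodule F V)
    (h : W ⊓ LinearMap.BilinForm.orthogonal ω W = ⊥) : NondegOn ω W := by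
  intro u hu hu0
  by_contra hcon
  push Not at hcon
  have h1 : u ∈ W ⊓ LinearMap.BilinForm.orthogonal ω W := by
    refine ⟨hu, ?_⟩
    change u ∈ LinearMap.BilinForm.orthogonal ω W
    rw [LinearMap.BilinForm.mem_orthogonal_iff]
    intro n hn
    rw [form_swap halt, hcon n hn, neg_zero]
  rw [h] at h1
  exact hu0 ((Submodule.mem_bot F).1 h1)

/-- a single isometry of prime order -/
theorem eta_le (ω : V →ₗ[F] V →ₗ[F] F) (halt : ∀ v, ω v v = 0) (hnd : NondegOn ω ⊤) (n : ℕ) (hdim : finrank F V = 2 * n)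
    (b : V →ₗ[F] V) (hiso : ∀ x y, ω (b x) (b y) = ω x y) (s : ℕ) [hs : Fact s.Prime] (hsF : (s : F) ≠ 0)
    (hqs : ((Fintype.card F : ℕ) : ZMod s) ≠ 0) (hb : b ^ s = 1) (hb1 : b ≠ 1) (ηl : ℕ)
    (hηl : (Odd (orderOf ((Fintype.card F : ℕ) : ZMod s)) ∧ ηl = orderOf ((Fintype.card F : ℕ) : ZMod s)) ∨
      (Even (orderOf ((Fintype.card F : ℕ) : ZMod s)) ∧ 2 * ηl = orderOf ((Fintype.card F : ℕ) : ZMod s))) : ηl ≤ n := by
  haveI : Finite V := Module.finite_of_finite F
  have hndF := nondeg_fix ω ⊤ hnd b hiso (fun _ _ => Submodule.mem_top) s hsF (fun v _ => by rw [hb]; rfl)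
  rw [top_inf_eq] at hndF
  obtain ⟨A', hA'⟩ := even_finrank_of_nondegOn halt _ hndF
  have hd := fix_dvd b ⊤ (fun _ _ => Submodule.mem_top) s hqs (fun v _ => by rw [hb]; rfl)
  rw [top_inf_eq, finrank_top, hdim, hA'] at hd
  have hle : finrank F (LinearMap.ker (b - 1)) ≤ 2 * n := hdim ▸ Submodule.finrank_le _
  have hlt : finrank F (LinearMap.ker (b - 1)) ≠ 2 * n := by
    intro h
    apply hb1
    have h1 : LinearMap.ker (b - 1) = ⊤ := Submodule.eq_top_of_finrank_eq (by rw [h, hdim])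
    exact sub_eq_zero.1 (LinearMap.ker_eq_top.1 h1)
  have h2 : 2 * n - (A' + A') = 2 * (n - A') := by omega
  rw [h2] at hd
  have h3 := eta_dvd _ _ _ hηl hd
  have h4 := Nat.le_of_dvd (by omega) h3
  omega

/-- Two commuting isometries of odd prime orders not dividing the characteristic. -/
theorem core_rs (ω : V →ₗ[F] V →ₗ[F] F) (halt : ∀ v, ω v v = 0) (hnd : NondegOn ω ⊤) (n : ℕ) (hdim : finrank F V = 2 * n)
    (y : V →ₗ[F] V) (hiso : ∀ x y', ω (y x) (y y') = ω x y') (r s : ℕ) [hr : Fact r.Prime] [hs : Fact s.Prime]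
    (hr2 : r ≠ 2) (hs2 : s ≠ 2) (hrF : (r : F) ≠ 0) (hsF : (s : F) ≠ 0)
    (hqr : ((Fintype.card F : ℕ) : ZMod r) ≠ 0) (hqs : ((Fintype.card F : ℕ) : ZMod s) ≠ 0)
    (hy : y ^ (r * s) = 1) (hy1 : y ^ s ≠ 1) (hy2 : y ^ r ≠ 1) (k l ηk ηl : ℕ)
    (hk : k = orderOf ((Fintype.card F : ℕ) : ZMod r)) (hl : l = orderOf ((Fintype.card F : ℕ) : ZMod s))
    (hηk : (Odd k ∧ ηk = k) ∨ (Even k ∧ 2 * ηk = k)) (hηl : (Odd l ∧ ηl = l) ∨ (Even l ∧ 2 * ηl = l)) (hkl : ηk ≤ ηl) :
    ηk + ηl ≤ n ∨ ∃ t, Odd t ∧ l = k * t := by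
  haveI : Finite V := Module.finite_of_finite F
  have hrP : r.Prime := Fact.out
  have hsP : s.Prime := Fact.out
  set a := y ^ s with ha_def
  set b := y ^ r with hb_def
  have ha : a ^ r = 1 := by rw [ha_def, ← pow_mul, mul_comm, hy]
  have hb : b ^ s = 1 := by rw [hb_def, ← pow_mul, hy]
  have hisoa : ∀ x y', ω (a x) (a y') = ω x y' := iso_pow ω y hiso s
  have hisob : ∀ x y', ω (b x) (b y') = ω x y' := iso_pow ω y hiso r
  have hab : a * b = b * a := (Commute.refl y).pow_pow _ _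
  have hya : a * y = y * a := ((Commute.refl y).pow_left s)
  have hyb : b * y = y * b := ((Commute.refl y).pow_left r)
  have hndFa := nondeg_fix ω ⊤ hnd a hisoa (fun _ _ => Submodule.mem_top) r hrF (fun v _ => by rw [ha]; rfl)
  have hndFb := nondeg_fix ω ⊤ hnd b hisob (fun _ _ => Submodule.mem_top) s hsF (fun v _ => by rw [hb]; rfl)
  rw [top_inf_eq] at hndFa hndFb
  have hinvab : ∀ v ∈ LinearMap.ker (a - 1), b v ∈ LinearMap.ker (a - 1) := fix_inv a b hab
  have hinvba : ∀ v ∈ LinearMap.ker (b - 1), a v ∈ LinearMap.ker (b - 1) := fix_inv b a hab.symm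
  have hnd0 := nondeg_fix ω _ hndFa b hisob hinvab s hsF (fun v _ => by rw [hb]; rfl)
  obtain ⟨A', hA'⟩ := even_finrank_of_nondegOn halt _ hndFa
  obtain ⟨B', hB'⟩ := even_finrank_of_nondegOn halt _ hndFb
  obtain ⟨C', hC'⟩ := even_finrank_of_nondegOn halt _ hnd0
  have d1 := fix_dvd a ⊤ (fun _ _ => Submodule.mem_top) r hqr (fun v _ => by rw [ha]; rfl)
  have d3 := fix_dvd b ⊤ (fun _ _ => Submodule.mem_top) s hqs (fun v _ => by rw [hb]; rfl)
  have d2 := fix_dvd b _ hinvab s hqs (fun v _ => by rw [hb]; rfl)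
  have d4 := fix_dvd a _ hinvba r hqr (fun v _ => by rw [ha]; rfl)
  rw [top_inf_eq, finrank_top, hdim, hA'] at d1
  rw [top_inf_eq, finrank_top, hdim, hB'] at d3
  rw [hC', hA'] at d2
  rw [inf_comm, hC', hB'] at d4
  rw [← hk] at d1 d4
  rw [← hl] at d2 d3
  have hle1 : finrank F (LinearMap.ker (a - 1)) ≤ 2 * n := hdim ▸ Submodule.finrank_le _
  have hle2 : finrank F (LinearMap.ker (b - 1)) ≤ 2 * n := hdim ▸ Submodule.finrank_le _
  have hle3 : finrank F ↥(LinearMap.ker (a - 1) ⊓ LinearMap.ker (b - 1)) ≤ finrank F (LinearMap.ker (a - 1)) :=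
    Submodule.finrank_mono inf_le_left
  have hle4 : finrank F ↥(LinearMap.ker (a - 1) ⊓ LinearMap.ker (b - 1)) ≤ finrank F (LinearMap.ker (b - 1)) :=
    Submodule.finrank_mono inf_le_right
  have hlt1 : finrank F (LinearMap.ker (a - 1)) ≠ 2 * n := by
    intro h
    apply hy1
    have h1 : LinearMap.ker (a - 1) = ⊤ := Submodule.eq_top_of_finrank_eq (by rw [h, hdim])
    exact sub_eq_zero.1 (LinearMap.ker_eq_top.1 h1)
  have hlt2 : finrank F (LinearMap.ker (b - 1)) ≠ 2 * n := by
    intro h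
    apply hy2
    have h1 : LinearMap.ker (b - 1) = ⊤ := Submodule.eq_top_of_finrank_eq (by rw [h, hdim])
    exact sub_eq_zero.1 (LinearMap.ker_eq_top.1 h1)
  have e1 : 2 * n - (A' + A') = 2 * (n - A') := by omega
  have e2 : 2 * n - (B' + B') = 2 * (n - B') := by omega
  have e3 : A' + A' - (C' + C') = 2 * (A' - C') := by omega
  have e4 : B' + B' - (C' + C') = 2 * (B' - C') := by omega
  rw [e1] at d1
  rw [e2] at d3
  rw [e3] at d2
  rw [e4] at d4
  have g1 := eta_dvd _ _ _ hηk d1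
  have g3 := eta_dvd _ _ _ hηl d3
  have g2 := eta_dvd _ _ _ hηl d2
  have g4 := eta_dvd _ _ _ hηk d4
  have g1' := Nat.le_of_dvd (by omega) g1
  have g3' := Nat.le_of_dvd (by omega) g3
  by_cases hsum : ηk + ηl ≤ n
  · exact Or.inl hsum
  right
  have hC1 : C' = A' := by
    by_contra h
    have := Nat.le_of_dvd (by omega) g2
    omega
  have hC2 : C' = B' := by
    by_contra h
    have := Nat.le_of_dvd (by omega) g4
    omega
  have hF1 : LinearMap.ker (a - 1) ⊓ LinearMap.ker (b - 1) = LinearMap.ker (a - 1) :=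
    Submodule.eq_of_le_of_finrank_eq inf_le_left (by omega)
  have hF2 : LinearMap.ker (a - 1) ⊓ LinearMap.ker (b - 1) = LinearMap.ker (b - 1) :=
    Submodule.eq_of_le_of_finrank_eq inf_le_right (by omega)
  have hFab : LinearMap.ker (b - 1) = LinearMap.ker (a - 1) := hF2.symm.trans hF1
  -- a minimal invariant subspace of the moved part
  have hZ0 : LinearMap.range (a - 1) ≠ ⊥ := by
    rw [Ne, LinearMap.range_eq_bot]
    intro h
    exact hy1 (sub_eq_zero.1 h)
  obtain ⟨W, hWZ, hW0, hWinv, hWirr⟩ := exists_min_inv y _ hZ0 (range_inv a y hya)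
  have hWa : ∀ v ∈ W, a v ∈ W := fun v hv => pow_mem_inv y W hWinv s v hv
  have hWb : ∀ v ∈ W, b v ∈ W := fun v hv => pow_mem_inv y W hWinv r v hv
  have hdisj : W ⊓ LinearMap.ker (a - 1) = ⊥ := by
    rw [eq_bot_iff]
    rintro v ⟨hv1, hv2⟩
    exact (Submodule.mem_bot F).2 (fix_inf_range a r hrF ha v hv2 (hWZ hv1))
  have hdisj2 : W ⊓ LinearMap.ker (b - 1) = ⊥ := by rw [hFab, hdisj]
  have dk := fix_dvd a W hWa r hqr (fun v _ => by rw [ha]; rfl)
  have dl := fix_dvd b W hWb s hqs (fun v _ => by rw [hb]; rfl)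
  rw [hdisj, finrank_bot, Nat.sub_zero, ← hk] at dk
  rw [hdisj2, finrank_bot, Nat.sub_zero, ← hl] at dl
  have hDpos : 0 < finrank F W := Nat.pos_of_ne_zero (fun h => hW0 (Submodule.finrank_eq_zero.1 h))
  have hDle : finrank F W ≤ 2 * n := hdim ▸ Submodule.finrank_le _
  have hN : 0 < r * s := Nat.mul_pos hrP.pos hsP.pos
  rcases hWirr _ inf_le_left (orth_inv ω y hiso (r * s) hN hy W hWinv) with h0 | h1
  · -- nondegenerate
    have hndW := nondegOn_of_inf ω halt W h0
    obtain ⟨i, hi⟩ := selfdual_nondeg ω halt W hW0 hndW y hiso (r * s) hN hy hWinv hWirr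
    obtain ⟨v, hv, hv0⟩ := Submodule.exists_mem_ne_zero_of_ne_bot hW0
    have hav : a v ≠ v := by
      intro h
      have h2 : v ∈ W ⊓ LinearMap.ker (a - 1) := ⟨hv, (mem_fix a v).2 h⟩
      rw [hdisj] at h2
      exact hv0 ((Submodule.mem_bot F).1 h2)
    have hbv : b v ≠ v := by
      intro h
      have h2 : v ∈ W ⊓ LinearMap.ker (b - 1) := ⟨hv, (mem_fix b v).2 h⟩
      rw [hdisj2] at h2
      exact hv0 ((Submodule.mem_bot F).1 h2)
    have hfixpow : ∀ (j : ℕ), ((y ^ (Fintype.card F ^ i + 1)) ^ j) v = v := by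
      intro j
      induction j with
      | zero => simp
      | succ j ih =>
        rw [pow_succ, Module.End.mul_apply, hi v hv, ih]
    have hdr : r ∣ Fintype.card F ^ i + 1 := by
      apply dvd_of_pow_fix a r hrP ha _ v hav
      rw [ha_def, ← pow_mul, mul_comm, pow_mul]
      exact hfixpow s
    have hds : s ∣ Fintype.card F ^ i + 1 := by
      apply dvd_of_pow_fix b s hsP hb _ v hbv
      rw [hb_def, ← pow_mul, mul_comm, pow_mul]
      exact hfixpow r
    obtain ⟨q1, q2⟩ := order_of_dvd r _ i hr2 hdr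
    obtain ⟨q3, q4⟩ := order_of_dvd s _ i hs2 hds
    rw [← hk] at q1 q2
    rw [← hl] at q3 q4
    exact arith_nd n k l ηk ηl (finrank F W) i hηk hηl hkl hDpos dk dl hDle q1 q2 q3 q4 (by omega)
  · -- isotropic
    have hle : W ≤ LinearMap.BilinForm.orthogonal ω W := inf_eq_left.1 h1
    have hfr := LinearMap.BilinForm.finrank_orthogonal (form_nondegenerate ω halt hnd) W
    have hle5 := Submodule.finrank_mono hle
    rw [hfr, hdim] at hle5
    exact arith_iso n k l ηk ηl (finrank F W) hηk hηl hkl hDpos dk dl (by omega) (by omega)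

/-- commuting isometries of orders `r` and the characteristic -/
theorem core_rp (p : ℕ) [Fact p.Prime] [CharP F p] (ω : V →ₗ[F] V →ₗ[F] F) (halt : ∀ v, ω v v = 0) (hnd : NondegOn ω ⊤) (n : ℕ)
    (hdim : finrank F V = 2 * n)
    (t u : V →ₗ[F] V) (hiso : ∀ x y', ω (t x) (t y') = ω x y') (hisou : ∀ x y', ω (u x) (u y') = ω x y') (r : ℕ)
    [hr : Fact r.Prime] (hr2 : r ≠ 2) (hrF : (r : F) ≠ 0)
    (hqr : ((Fintype.card F : ℕ) : ZMod r) ≠ 0) (ht : t ^ r = 1) (ht1 : t ≠ 1) (hu : u ^ p = 1) (hu1 : u ≠ 1)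
    (htu : t * u = u * t) (ηk : ℕ)
    (hηk : (Odd (orderOf ((Fintype.card F : ℕ) : ZMod r)) ∧ ηk = orderOf ((Fintype.card F : ℕ) : ZMod r)) ∨
      (Even (orderOf ((Fintype.card F : ℕ) : ZMod r)) ∧ 2 * ηk = orderOf ((Fintype.card F : ℕ) : ZMod r))) :
    ηk + 1 ≤ n := by
  haveI : Finite V := Module.finite_of_finite F
  have hrP : r.Prime := Fact.out
  by_contra hcon
  set k := orderOf ((Fintype.card F : ℕ) : ZMod r) with hk
  have hndF := nondeg_fix ω ⊤ hnd t hiso (fun _ _ => Submodule.mem_top) r hrF (fun v _ => by rw [ht]; rfl)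
  rw [top_inf_eq] at hndF
  obtain ⟨A', hA'⟩ := even_finrank_of_nondegOn halt _ hndF
  have hd := fix_dvd t ⊤ (fun _ _ => Submodule.mem_top) r hqr (fun v _ => by rw [ht]; rfl)
  rw [top_inf_eq, finrank_top, hdim, hA', ← hk] at hd
  have hle : finrank F (LinearMap.ker (t - 1)) ≤ 2 * n := hdim ▸ Submodule.finrank_le _
  have hlt : finrank F (LinearMap.ker (t - 1)) ≠ 2 * n := by
    intro h
    apply ht1
    have h1 : LinearMap.ker (t - 1) = ⊤ := Submodule.eq_top_of_finrank_eq (by rw [h, hdim])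
    exact sub_eq_zero.1 (LinearMap.ker_eq_top.1 h1)
  have h2 : 2 * n - (A' + A') = 2 * (n - A') := by omega
  rw [h2] at hd
  have h3 := eta_dvd _ _ _ hηk hd
  have h4 := Nat.le_of_dvd (by omega) h3
  have hA0 : A' = 0 := by omega
  have hηn : ηk = n := by omega
  have hFt : LinearMap.ker (t - 1) = ⊥ := Submodule.finrank_eq_zero.1 (by omega)
  have hn0 : 0 < n := by omega
  set W := LinearMap.ker (u - 1) with hW
  have hW0 : W ≠ ⊥ := by
    have h5 := fix_ne_bot p u ⊤ (fun _ _ => Submodule.mem_top) (fun v _ => by rw [hu]; rfl) (by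
      intro h
      have h6 := finrank_top F V
      rw [h, finrank_bot, hdim] at h6
      omega)
    rwa [top_inf_eq] at h5
  have hWt : ∀ v ∈ W, t v ∈ W := fix_inv u t htu.symm
  have hdisj : ∀ U : Submodule F V, U ⊓ LinearMap.ker (t - 1) = ⊥ := fun U => by rw [hFt, inf_bot_eq]
  have hdvd : ∀ U : Submodule F V, (∀ v ∈ U, t v ∈ U) → k ∣ finrank F U := by
    intro U hU
    have h5 := fix_dvd t U hU r hqr (fun v _ => by rw [ht]; rfl)
    rwa [hdisj, finrank_bot, Nat.sub_zero] at h5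
  have hDpos : 0 < finrank F W := Nat.pos_of_ne_zero (fun h => hW0 (Submodule.finrank_eq_zero.1 h))
  have hDlt : finrank F W ≠ 2 * n := by
    intro h
    apply hu1
    have h1 : W = ⊤ := Submodule.eq_top_of_finrank_eq (by rw [h, hdim])
    exact sub_eq_zero.1 (LinearMap.ker_eq_top.1 h1)
  have hDle : finrank F W ≤ 2 * n := hdim ▸ Submodule.finrank_le _
  have hkW := hdvd W hWt
  -- the order is odd
  have hkodd : Odd k := by
    rcases hηk with ⟨h, -⟩ | ⟨-, h⟩
    · exact h
    · exfalso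
      have := Nat.le_of_dvd hDpos hkW
      omega
  have hkn : k = n := by
    rcases hηk with ⟨-, h⟩ | ⟨h, -⟩
    · omega
    · exact absurd hkodd (Nat.not_odd_iff_even.2 h)
  have hDn : finrank F W = n := by
    obtain ⟨c, hc⟩ := hkW
    rw [hkn] at hc
    have hc1 : c = 1 := by
      have h6 : c < 2 := by
        by_contra h7
        have : n * 2 ≤ n * c := Nat.mul_le_mul_left _ (by omega)
        omega
      have h8 : c ≠ 0 := by
        rintro rfl
        omega
      omega
    rw [hc, hc1, mul_one]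
  have hirr : ∀ U : Submodule F V, U ≤ W → (∀ v ∈ U, t v ∈ U) → U = ⊥ ∨ U = W := by
    intro U hUW hU
    by_cases hU0 : U = ⊥
    · exact Or.inl hU0
    · right
      apply Submodule.eq_of_le_of_finrank_eq hUW
      have h6 := Submodule.finrank_mono hUW
      have h7 : 0 < finrank F U := Nat.pos_of_ne_zero (fun h => hU0 (Submodule.finrank_eq_zero.1 h))
      have h8 := Nat.le_of_dvd h7 (hdvd U hU)
      omega
  have hN : 0 < r := hrP.pos
  obtain ⟨v₀, hv₀, hv₀0⟩ := Submodule.exists_mem_ne_zero_of_ne_bot hW0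
  rcases hirr _ inf_le_left (orth_inv ω t hiso r hN ht W hWt) with h0 | h1
  · -- nondegenerate: parity
    have hndW := nondegOn_of_inf ω halt W h0
    have h6 := even_finrank_of_nondegOn halt W hndW
    rw [hDn, ← hkn] at h6
    exact (Nat.not_even_iff_odd.2 hkodd) h6
  · have hle6 : W ≤ LinearMap.BilinForm.orthogonal ω W := inf_eq_left.1 h1
    have hfr := LinearMap.BilinForm.finrank_orthogonal (form_nondegenerate ω halt hnd) W
    rw [hdim, hDn] at hfr
    have hWo : W = LinearMap.BilinForm.orthogonal ω W :=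
      Submodule.eq_of_le_of_finrank_eq hle6 (by omega)
    have hrange : ∀ x, (u - 1) x ∈ W := by
      intro x
      rw [hWo, LinearMap.BilinForm.mem_orthogonal_iff]
      intro f hf
      have hf' : u f = f := (mem_fix u f).1 hf
      simp only [LinearMap.sub_apply, Module.End.one_apply, map_sub]
      conv_lhs => rw [← hf']
      rw [hisou, hf', sub_self]
    obtain ⟨π, hπ, hann⟩ := exists_ann W hW0 t hWt hirr
    have hcomm : ∀ (f : F[X]) (x : V), (u - 1) (aeval t f x) = aeval t f ((u - 1) x) := by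
      intro f x
      have hc : ∀ (m : ℕ) (x : V), (u - 1) ((t ^ m) x) = (t ^ m) ((u - 1) x) := by
        intro m
        induction m with
        | zero => intro x; simp
        | succ m ih =>
          intro x
          have h9 : (u - 1) (t x) = t ((u - 1) x) := by
            have := LinearMap.congr_fun htu x
            simp only [Module.End.mul_apply] at this
            simp [this]
          rw [pow_succ, Module.End.mul_apply, ih, h9, Module.End.mul_apply]
      induction f using Polynomial.induction_on' with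
      | add f g hf hg =>
        simp only [map_add, LinearMap.add_apply, hf, hg]
      | monomial m a =>
        simp only [aeval_monomial, Module.End.mul_apply, Module.algebraMap_end_apply, map_smul, hc]
    obtain ⟨i, hi⟩ := selfdual_of_ann W hW0 t r hN ht hWt π hπ hann (by
      intro w hw
      by_contra hne
      obtain ⟨x, -, hx⟩ := hnd _ Submodule.mem_top hne
      apply hx
      rw [form_swap halt, ← form_aeval ω t (t ^ (r - 1)) (iso_adj ω t hiso r hN ht) π x w]
      have h7 : aeval t π x ∈ W := by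
        rw [hW, LinearMap.mem_ker, hcomm, hann _ (hrange x)]
      rw [hWo] at hw
      rw [LinearMap.BilinForm.mem_orthogonal_iff.1 hw _ h7, neg_zero])
    have htv : t v₀ ≠ v₀ := by
      intro h
      have h2 : v₀ ∈ LinearMap.ker (t - 1) := (mem_fix t v₀).2 h
      rw [hFt] at h2
      exact hv₀0 ((Submodule.mem_bot F).1 h2)
    have hdr := dvd_of_pow_fix t r hrP ht _ v₀ htv (hi v₀ hv₀)
    obtain ⟨q1, q2⟩ := order_of_dvd r _ i hr2 hdr
    rw [← hk] at q1 q2
    exact q2 (Nat.Coprime.dvd_of_dvd_mul_left (Nat.coprime_two_right.2 hkodd) q1)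

end

end Cfsg.Agent.H11.PSpG
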