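import Cfsg.Agent.Lib.H11.PSpC

/-! Symplectic bases; isometries give elements of the symplectic matrix group; block sums. -/

set_option autoImplicit false
set_option linter.unusedSectionVars false
set_option linter.unusedVariables false

namespace Cfsg.Agent.H11.PSpG

open Module Matrix Cfsg.Agent.H29

section darboux

variable {F : Type*} [Field F]

/-- the standard form as a bilinear map -/
noncomputable def lsf (d : ℕ) (F : Type*) [Field F] : (Fin d ⊕ Fin d → F) →ₗ[F] (Fin d ⊕ Fin d → F) →ₗ[F] F :=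
  LinearMap.mk₂ F Cfsg.Agent.Lead.sympForm Cfsg.Agent.Lead.sympForm_add_left
    (fun c x y => by rw [Cfsg.Agent.Lead.sympForm_smul_left, smul_eq_mul])
    Cfsg.Agent.Lead.sympForm_add_right
    (fun c x y => by rw [Cfsg.Agent.Lead.sympForm_smul_right, smul_eq_mul])

@[simp] theorem lsf_apply (d : ℕ) (u v : Fin d ⊕ Fin d → F) : lsf d F u v = Cfsg.Agent.Lead.sympForm u v := rfl

theorem lsf_alt (d : ℕ) (v : Fin d ⊕ Fin d → F) : lsf d F v v = 0 := Cfsg.Agent.Lead.sympForm_self v

theorem lsf_nd (d : ℕ) : NondegOn (lsf d F) ⊤ := by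
  intro u _ hu
  obtain ⟨z, hz⟩ := Cfsg.Agent.Lead.sympForm_nondeg hu
  exact ⟨z, Submodule.mem_top, hz⟩

theorem finrank_std (d : ℕ) : finrank F (Fin d ⊕ Fin d → F) = 2 * d := by
  simp [two_mul]

/-- symplectic bases -/
theorem darboux {V : Type*} [AddCommGroup V] [Module F V] [FiniteDimensional F V] (ω : V →ₗ[F] V →ₗ[F] F)
    (halt : ∀ v, ω v v = 0) (hnd : NondegOn ω ⊤) (d : ℕ) (hd : finrank F V = 2 * d) :
    ∃ Λ : (Fin d ⊕ Fin d → F) ≃ₗ[F] V, ∀ u v, ω (Λ u) (Λ v) = Cfsg.Agent.Lead.sympForm u v := by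
  classical
  obtain ⟨S, _, _, b, -, hsys, -, -⟩ := exists_plane_sys halt (LinearMap.id) 1 one_ne_zero
    (fun _ _ => rfl) (by simp) _ ⊤ rfl (fun _ _ => Submodule.mem_top) hnd
  have hli := planeSys_linearIndependent halt hsys
  have h1 := finrank_span_eq_card hli
  rw [hsys.span, Fintype.card_prod, Fintype.card_bool, finrank_top, hd] at h1
  have hcard : Fintype.card S = d := by omega
  let e₀ : Fin d ≃ S := (Fintype.equivFinOfCardEq hcard).symm
  have hskew : ∀ u v, ω u v = - ω v u := form_swap halt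
  let a : Fin d → F := fun k => ω (b (e₀ k) false) (b (e₀ k) true)
  have ha : ∀ k, a k ≠ 0 := fun k => hsys.self _
  let w : Fin d ⊕ Fin d → V :=
    Sum.elim (fun k => b (e₀ k) true) (fun k => (a k)⁻¹ • b (e₀ k) false)
  have horth' : ∀ k l i j, k ≠ l → ω (b (e₀ k) i) (b (e₀ l) j) = 0 := fun k l i j h =>
    hsys.orth _ _ _ _ (fun h' => h (e₀.injective h'))
  let bas := Pi.basisFun F (Fin d ⊕ Fin d)
  let Λ₀ : (Fin d ⊕ Fin d → F) →ₗ[F] V := bas.constr F w
  have hΛ₀ : ∀ x, Λ₀ (bas x) = w x := fun x => bas.constr_basis F w x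
  have hw : ∀ x y, ω (w x) (w y) = Cfsg.Agent.Lead.sympForm (bas x) (bas y) := by
    intro x y
    rw [Cfsg.Agent.Lead.sympForm_apply]
    simp only [bas, Pi.basisFun_apply]
    rcases x with k | k <;> rcases y with l | l
    · simp only [w, Sum.elim_inl]
      by_cases hkl : k = l
      · subst hkl
        simp [halt]
      · rw [horth' k l _ _ hkl]
        simp [Pi.single_apply]
    · simp only [w, Sum.elim_inl, Sum.elim_inr]
      by_cases hkl : k = l
      · subst hkl
        rw [map_smul, hskew]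
        simp only [Pi.single_apply, Sum.inr.injEq, Sum.inl.injEq, reduceCtorEq, if_false, mul_zero, zero_mul,
          sub_self, zero_sub]
        simp only [Finset.sum_neg_distrib]
        have hha := ha k
        have : ω (b (e₀ k) false) (b (e₀ k) true) = a k := rfl
        rw [this]
        simp [hha]
      · rw [map_smul, horth' k l _ _ hkl]
        simp [Pi.single_apply, hkl, Ne.symm hkl]
    · simp only [w, Sum.elim_inl, Sum.elim_inr]
      by_cases hkl : k = l
      · subst hkl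
        rw [map_smul, LinearMap.smul_apply]
        simp only [Pi.single_apply, Sum.inr.injEq, Sum.inl.injEq, reduceCtorEq, if_false, mul_zero, zero_mul,
          sub_self, sub_zero]
        have hha := ha k
        have : ω (b (e₀ k) false) (b (e₀ k) true) = a k := rfl
        rw [this]
        simp [hha]
      · rw [map_smul, LinearMap.smul_apply, horth' k l _ _ hkl]
        simp [Pi.single_apply, hkl, Ne.symm hkl]
    · simp only [w, Sum.elim_inr]
      rw [map_smul, map_smul, LinearMap.smul_apply]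
      by_cases hkl : k = l
      · subst hkl
        simp [halt]
      · rw [horth' k l _ _ hkl]
        simp [Pi.single_apply]
  have hform : ∀ u v, ω (Λ₀ u) (Λ₀ v) = Cfsg.Agent.Lead.sympForm u v := by
    have h1 : ω.compl₁₂ Λ₀ Λ₀ = lsf d F := by
      apply bas.ext
      intro x
      apply bas.ext
      intro y
      rw [LinearMap.compl₁₂_apply, hΛ₀, hΛ₀, lsf_apply]
      exact hw x y
    intro u v
    rw [← lsf_apply, ← h1, LinearMap.compl₁₂_apply]
  have hinj : Function.Injective Λ₀ := by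
    rw [← LinearMap.ker_eq_bot, LinearMap.ker_eq_bot']
    intro u hu
    by_contra hu0
    obtain ⟨z, hz⟩ := Cfsg.Agent.Lead.sympForm_nondeg hu0
    apply hz
    rw [← hform, hu]
    simp
  have hdim : finrank F (Fin d ⊕ Fin d → F) = finrank F V := by
    rw [finrank_std, hd]
  let Λ : (Fin d ⊕ Fin d → F) ≃ₗ[F] V := LinearMap.linearEquivOfInjective Λ₀ hinj hdim
  have hΛ : ∀ u, Λ u = Λ₀ u := fun u => LinearMap.linearEquivOfInjective_apply hinj hdim u
  refine ⟨Λ, fun u v => ?_⟩
  rw [hΛ, hΛ, hform]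

theorem mem_of_form {d : ℕ} (A : Matrix (Fin d ⊕ Fin d) (Fin d ⊕ Fin d) F)
    (h : ∀ u v, Cfsg.Agent.Lead.sympForm (A *ᵥ u) (A *ᵥ v) = Cfsg.Agent.Lead.sympForm u v) : A ∈ symplecticGroup (Fin d) F := by
  classical
  rw [SymplecticGroup.mem_iff']
  ext x y
  have h0 : (Aᵀ * Matrix.J (Fin d) F * A) x y = Cfsg.Agent.Lead.sympForm (fun c => A c x) (fun c => A c y) := by
    have : (Aᵀ * Matrix.J (Fin d) F * A) x y = (fun c => A c x) ⬝ᵥ (Matrix.J (Fin d) F *ᵥ (fun c => A c y)) := by
      rw [Matrix.mul_assoc, Matrix.mul_apply]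
      simp only [Matrix.transpose_apply, dotProduct]
      refine Finset.sum_congr rfl fun c _ => ?_
      rw [Matrix.mul_apply]
      rfl
    exact this
  rw [h0]
  have h1 := h (Pi.single x 1) (Pi.single y 1)
  simp only [Matrix.mulVec_single_one] at h1
  have h2 : Cfsg.Agent.Lead.sympForm (Pi.single x (1 : F)) (Pi.single y (1 : F)) = Matrix.J (Fin d) F x y := by
    simp [Cfsg.Agent.Lead.sympForm]
  rw [h2] at h1
  exact h1

/-- elements of a given order in the symplectic matrix group -/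
def Blk (F : Type*) [Field F] (d N : ℕ) : Prop :=
  ∃ g : symplecticGroup (Fin d) F, ∀ m : ℕ, g ^ m = 1 ↔ N ∣ m

theorem blk_one (d : ℕ) : Blk F d 1 := ⟨1, fun m => by simp⟩

/-- from an isometry -/
theorem blk_of_form {V : Type*} [AddCommGroup V] [Module F V] [FiniteDimensional F V] (ω : V →ₗ[F] V →ₗ[F] F)
    (halt : ∀ v, ω v v = 0) (hnd : NondegOn ω ⊤) (d : ℕ) (hd : finrank F V = 2 * d) (τ : V →ₗ[F] V)
    (hiso : ∀ x y, ω (τ x) (τ y) = ω x y) (N : ℕ) (hN : ∀ m : ℕ, τ ^ m = 1 ↔ N ∣ m) : Blk F d N := by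
  classical
  obtain ⟨Λ, hΛ⟩ := darboux ω halt hnd d hd
  let A : Matrix (Fin d ⊕ Fin d) (Fin d ⊕ Fin d) F :=
    LinearMap.toMatrix' (Λ.symm.toLinearMap ∘ₗ τ ∘ₗ Λ.toLinearMap)
  have hA : ∀ u, A *ᵥ u = Λ.symm (τ (Λ u)) := by
    intro u
    rw [← Matrix.toLin'_apply, Matrix.toLin'_toMatrix']
    simp
  have hmem : A ∈ symplecticGroup (Fin d) F := by
    apply mem_of_form
    intro u v
    rw [hA, hA, ← hΛ, ← hΛ u v]
    simp [hiso]
  refine ⟨⟨A, hmem⟩, fun m => ?_⟩
  have hpow : ∀ (m : ℕ) (u : Fin d ⊕ Fin d → F), A ^ m *ᵥ u = Λ.symm ((τ ^ m) (Λ u)) := by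
    intro m
    induction m with
    | zero => intro u; simp
    | succ m ih =>
      intro u
      rw [pow_succ, ← Matrix.mulVec_mulVec, hA, ih, pow_succ, Module.End.mul_apply]
      simp
  rw [← hN]
  constructor
  · intro h
    have h1 : A ^ m = 1 := by
      have := congrArg Subtype.val h
      simpa using this
    apply LinearMap.ext
    intro v
    have h2 := hpow m (Λ.symm v)
    rw [h1, Matrix.one_mulVec, LinearEquiv.apply_symm_apply] at h2
    have h3 := congrArg Λ h2
    simp only [LinearEquiv.apply_symm_apply] at h3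
    exact h3.symm
  · intro h
    apply Subtype.ext
    have h1 : A ^ m = 1 := by
      apply Cfsg.Agent.Lead.mat_ext_mulVec
      intro u
      rw [hpow, h]
      simp
    simpa using h1

/-- the linear map of a symplectic matrix -/
theorem toLin_pow {d : ℕ} (g : symplecticGroup (Fin d) F) (m : ℕ) :
    (Matrix.toLin' (g : Matrix (Fin d ⊕ Fin d) (Fin d ⊕ Fin d) F)) ^ m =
      Matrix.toLin' ((g ^ m : symplecticGroup (Fin d) F) : Matrix (Fin d ⊕ Fin d) (Fin d ⊕ Fin d) F) := by
  induction m with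
  | zero =>
    apply LinearMap.ext
    intro v
    simp
  | succ m ih =>
    rw [pow_succ, pow_succ, ih]
    apply LinearMap.ext
    intro v
    simp [Matrix.mulVec_mulVec]

theorem toLin_pow_eq_one {d : ℕ} (g : symplecticGroup (Fin d) F) (m : ℕ) :
    (Matrix.toLin' (g : Matrix (Fin d ⊕ Fin d) (Fin d ⊕ Fin d) F)) ^ m = 1 ↔ g ^ m = 1 := by
  rw [toLin_pow]
  constructor
  · intro h
    apply Subtype.ext
    apply Matrix.toLin'.injective
    rw [h]
    apply LinearMap.ext
    intro v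
    simp
  · intro h
    rw [h]
    apply LinearMap.ext
    intro v
    simp

theorem toLin_iso {d : ℕ} (g : symplecticGroup (Fin d) F) (x y : Fin d ⊕ Fin d → F) :
    lsf d F (Matrix.toLin' (g : Matrix (Fin d ⊕ Fin d) (Fin d ⊕ Fin d) F) x)
      (Matrix.toLin' (g : Matrix (Fin d ⊕ Fin d) (Fin d ⊕ Fin d) F) y) = lsf d F x y := by
  simp only [lsf_apply, Matrix.toLin'_apply]
  exact Cfsg.Agent.Lead.sympForm_mulVec g.2 x y

/-- block sums -/
theorem blk_prod {d₁ d₂ N₁ N₂ : ℕ} (h₁ : Blk F d₁ N₁) (h₂ : Blk F d₂ N₂) : Blk F (d₁ + d₂) (Nat.lcm N₁ N₂) := by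
  classical
  obtain ⟨g₁, hg₁⟩ := h₁
  obtain ⟨g₂, hg₂⟩ := h₂
  let V₁ := Fin d₁ ⊕ Fin d₁ → F
  let V₂ := Fin d₂ ⊕ Fin d₂ → F
  let L₁ : V₁ →ₗ[F] V₁ := Matrix.toLin' (g₁ : Matrix (Fin d₁ ⊕ Fin d₁) (Fin d₁ ⊕ Fin d₁) F)
  let L₂ : V₂ →ₗ[F] V₂ := Matrix.toLin' (g₂ : Matrix (Fin d₂ ⊕ Fin d₂) (Fin d₂ ⊕ Fin d₂) F)
  let ω : (V₁ × V₂) →ₗ[F] (V₁ × V₂) →ₗ[F] F :=
    LinearMap.mk₂ F (fun x y => lsf d₁ F x.1 y.1 + lsf d₂ F x.2 y.2)
      (fun a b c => by simp only [Prod.fst_add, Prod.snd_add, map_add, LinearMap.add_apply]; ring)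
      (fun c a b => by simp only [Prod.smul_fst, Prod.smul_snd, map_smul, LinearMap.smul_apply, smul_eq_mul]; ring)
      (fun a b c => by simp only [Prod.fst_add, Prod.snd_add, map_add]; ring)
      (fun c a b => by simp only [Prod.smul_fst, Prod.smul_snd, map_smul, smul_eq_mul]; ring)
  have hω : ∀ x y, ω x y = lsf d₁ F x.1 y.1 + lsf d₂ F x.2 y.2 := fun _ _ => rfl
  let τ : (V₁ × V₂) →ₗ[F] (V₁ × V₂) := L₁.prodMap L₂
  have hτ : ∀ x, τ x = (L₁ x.1, L₂ x.2) := fun _ => rfl
  have hpow : ∀ (m : ℕ) (x : V₁ × V₂), (τ ^ m) x = ((L₁ ^ m) x.1, (L₂ ^ m) x.2) := by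
    intro m
    induction m with
    | zero => intro x; simp
    | succ m ih =>
      intro x
      rw [pow_succ, Module.End.mul_apply, ih, hτ, pow_succ, pow_succ]
      simp
  refine blk_of_form ω ?_ ?_ (d₁ + d₂) ?_ τ ?_ _ ?_
  · intro v
    rw [hω, lsf_alt, lsf_alt, add_zero]
  · rintro ⟨x₁, x₂⟩ _ hx
    by_cases h1 : x₁ = 0
    · have h2 : x₂ ≠ 0 := by
        rintro rfl
        exact hx (by rw [h1]; rfl)
      obtain ⟨z, -, hz⟩ := lsf_nd d₂ (F := F) x₂ Submodule.mem_top h2
      refine ⟨(0, z), Submodule.mem_top, ?_⟩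
      rw [hω]
      simpa [h1] using hz
    · obtain ⟨z, -, hz⟩ := lsf_nd d₁ (F := F) x₁ Submodule.mem_top h1
      refine ⟨(z, 0), Submodule.mem_top, ?_⟩
      rw [hω]
      change lsf d₁ F x₁ z + lsf d₂ F x₂ 0 ≠ 0
      rw [map_zero, add_zero]
      exact hz
  · rw [Module.finrank_prod, finrank_std, finrank_std]
    ring
  · intro x y
    rw [hτ, hτ, hω, hω]
    exact congrArg₂ (· + ·) (toLin_iso g₁ _ _) (toLin_iso g₂ _ _)
  · intro m
    rw [Nat.lcm_dvd_iff, ← hg₁, ← hg₂, ← toLin_pow_eq_one, ← toLin_pow_eq_one]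
    constructor
    · intro h
      constructor
      · apply LinearMap.ext
        intro v
        have h3 := LinearMap.congr_fun h (v, 0)
        rw [hpow] at h3
        exact congrArg Prod.fst h3
      · apply LinearMap.ext
        intro v
        have h3 := LinearMap.congr_fun h (0, v)
        rw [hpow] at h3
        exact congrArg Prod.snd h3
    · rintro ⟨h1, h2⟩
      apply LinearMap.ext
      intro x
      rw [hpow]
      change ((L₁ ^ m) x.1, (L₂ ^ m) x.2) = x
      have e1 : L₁ ^ m = 1 := h1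
      have e2 : L₂ ^ m = 1 := h2
      rw [e1, e2]
      rfl

theorem blk_mono {d d' N : ℕ} (h : Blk F d N) (hd : d ≤ d') : Blk F d' N := by
  have h1 := blk_prod h (blk_one (F := F) (d' - d))
  rwa [Nat.lcm_one_right, Nat.add_sub_cancel' hd] at h1

/-- a transvection -/
theorem blk_char (p : ℕ) [Fact p.Prime] [CharP F p] : Blk F 1 p := by
  let ω : (F × F) →ₗ[F] (F × F) →ₗ[F] F :=
    LinearMap.mk₂ F (fun x y => x.1 * y.2 - x.2 * y.1)
      (fun a b c => by simp only [Prod.fst_add, Prod.snd_add]; ring)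
      (fun c a b => by simp only [Prod.smul_fst, Prod.smul_snd, smul_eq_mul]; ring)
      (fun a b c => by simp only [Prod.fst_add, Prod.snd_add]; ring)
      (fun c a b => by simp only [Prod.smul_fst, Prod.smul_snd, smul_eq_mul]; ring)
  have hω : ∀ x y, ω x y = x.1 * y.2 - x.2 * y.1 := fun _ _ => rfl
  let τ : (F × F) →ₗ[F] (F × F) :=
    { toFun := fun x => (x.1 + x.2, x.2)
      map_add' := fun a b => by
        ext <;> simp <;> ring
      map_smul' := fun c a => by
        ext <;> simp <;> ring }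
  have hτ : ∀ x, τ x = (x.1 + x.2, x.2) := fun _ => rfl
  have hpow : ∀ (m : ℕ) (x : F × F), (τ ^ m) x = (x.1 + (m : F) * x.2, x.2) := by
    intro m
    induction m with
    | zero => intro x; simp
    | succ m ih =>
      intro x
      rw [pow_succ', Module.End.mul_apply, ih, hτ]
      ext <;> simp
      ring
  refine blk_of_form ω ?_ ?_ 1 ?_ τ ?_ p ?_
  · intro v
    rw [hω]
    ring
  · rintro ⟨a, b⟩ _ hx
    by_cases hb : b = 0
    · have ha : a ≠ 0 := by
        rintro rfl
        exact hx (by rw [hb]; rfl)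
      refine ⟨(0, 1), Submodule.mem_top, ?_⟩
      rw [hω]
      simpa [hb] using ha
    · refine ⟨(1, 0), Submodule.mem_top, ?_⟩
      rw [hω]
      simpa using hb
  · simp
  · intro x y
    rw [hτ, hτ, hω, hω]
    ring
  · intro m
    rw [← CharP.cast_eq_zero_iff F p]
    constructor
    · intro h
      have h1 := LinearMap.congr_fun h (0, 1)
      rw [hpow] at h1
      have h2 := congrArg Prod.fst h1
      simpa using h2
    · intro h
      apply LinearMap.ext
      intro x
      rw [hpow, h]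
      simp

end darboux

end Cfsg.Agent.H11.PSpG
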