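import Cfsg.Agent.Lib.H11.PSpD

/-! Blocks from finite field extensions. -/

set_option autoImplicit false
set_option linter.unusedSectionVars false
set_option linter.unusedVariables false

namespace Cfsg.Agent.H11.PSpG

open Module Matrix Cfsg.Agent.H29

section fields

variable {F : Type*} [Field F] [Fintype F]

/-- an element with prescribed order in a finite field -/
theorem exists_elt_order {E : Type*} [Field E] [Fintype E] (N : ℕ) (hN : N ∣ Fintype.card E - 1) :
    ∃ z : E, ∀ m : ℕ, z ^ m = 1 ↔ N ∣ m := by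
  obtain ⟨a, ha⟩ := Cfsg.Agent.H11.PrimeGr.exists_unit_order (F := E) N hN
  refine ⟨(a : E), fun m => ?_⟩
  rw [← ha, orderOf_dvd_iff_pow_eq_one, ← Units.val_pow_eq_pow_val, Units.val_eq_one]

/-- `N ∣ q^e - 1` -/
theorem blk_sub (e : ℕ) (he : 1 ≤ e) (N : ℕ) (hN : N ∣ Fintype.card F ^ e - 1) : Blk F e N := by
  classical
  obtain ⟨E, _, _, _, hcard, hfr, -⟩ := Cfsg.Agent.H10.exists_field_matrix F e he
  obtain ⟨z, hz⟩ := exists_elt_order (E := E) N (by rwa [hcard])
  haveI : FiniteDimensional F E := Module.Finite.of_finite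
  have hz0 : z ≠ 0 := by
    rintro rfl
    have h1 := (hz N).2 dvd_rfl
    have hN0 : N ≠ 0 := by
      rintro rfl
      have h2 : Fintype.card F ^ e - 1 = 0 := by simpa using hN
      have h3 : 2 ≤ Fintype.card F := Fintype.one_lt_card
      have h4 : 2 ^ 1 ≤ Fintype.card F ^ e := (Nat.pow_le_pow_left h3 1).trans (Nat.pow_le_pow_right (by omega) he)
      omega
    rw [zero_pow hN0] at h1
    exact zero_ne_one h1
  let Tr := Algebra.trace F E
  let ω : (E × E) →ₗ[F] (E × E) →ₗ[F] F :=
    LinearMap.mk₂ F (fun x y => Tr (x.1 * y.2 - x.2 * y.1))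
      (fun a b c => by
        simp only [Prod.fst_add, Prod.snd_add, ← map_add]
        congr 1
        ring)
      (fun c a b => by
        rw [← map_smul Tr]
        congr 1
        simp only [Prod.smul_fst, Prod.smul_snd, smul_sub, smul_mul_assoc])
      (fun a b c => by
        simp only [Prod.fst_add, Prod.snd_add, ← map_add]
        congr 1
        ring)
      (fun c a b => by
        rw [← map_smul Tr]
        congr 1
        simp only [Prod.smul_fst, Prod.smul_snd, smul_sub, mul_smul_comm])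
  have hω : ∀ x y, ω x y = Tr (x.1 * y.2 - x.2 * y.1) := fun _ _ => rfl
  let τ : (E × E) →ₗ[F] (E × E) := (LinearMap.mulLeft F z).prodMap (LinearMap.mulLeft F z⁻¹)
  have hτ : ∀ x, τ x = (z * x.1, z⁻¹ * x.2) := fun _ => rfl
  have hpow : ∀ (m : ℕ) (x : E × E), (τ ^ m) x = (z ^ m * x.1, z⁻¹ ^ m * x.2) := by
    intro m
    induction m with
    | zero => intro x; simp
    | succ m ih =>
      intro x
      rw [pow_succ, Module.End.mul_apply, ih, hτ, pow_succ, pow_succ]
      ext <;> simp <;> ring
  have htr : ∀ a : E, a ≠ 0 → ∃ b : E, Tr (a * b) ≠ 0 := by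
    intro a ha
    by_contra hcon
    push Not at hcon
    apply ha
    apply (traceForm_nondegenerate F E).1 a
    intro b
    simpa [Algebra.traceForm_apply] using hcon b
  refine blk_of_form ω ?_ ?_ e ?_ τ ?_ N ?_
  · intro v
    rw [hω, mul_comm, sub_self, map_zero]
  · rintro ⟨x₁, x₂⟩ _ hx
    by_cases h1 : x₁ = 0
    · have h2 : x₂ ≠ 0 := by
        rintro rfl
        exact hx (by rw [h1]; rfl)
      obtain ⟨b, hb⟩ := htr x₂ h2
      refine ⟨(-b, 0), Submodule.mem_top, ?_⟩
      rw [hω]
      simpa [h1] using hb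
    · obtain ⟨b, hb⟩ := htr x₁ h1
      refine ⟨(0, b), Submodule.mem_top, ?_⟩
      rw [hω]
      simpa using hb
  · rw [Module.finrank_prod, hfr]
    ring
  · intro x y
    rw [hτ, hτ, hω, hω]
    congr 1
    simp only
    field_simp
  · intro m
    rw [← hz]
    constructor
    · intro h
      have h1 := LinearMap.congr_fun h (1, 0)
      rw [hpow] at h1
      have h2 := congrArg Prod.fst h1
      simpa using h2
    · intro h
      apply LinearMap.ext
      intro x
      rw [hpow, h, inv_pow, h]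
      simp

theorem frob_pow {E : Type*} [Field E] [Fintype E] [Algebra F E] (j : ℕ) (x : E) :
    (FiniteField.frobeniusAlgEquivOfAlgebraic F E ^ j) x = x ^ Fintype.card F ^ j := by
  induction j with
  | zero => simp
  | succ j ih =>
    rw [pow_succ', AlgEquiv.mul_apply, ih, FiniteField.coe_frobeniusAlgEquivOfAlgebraic]
    change (x ^ Fintype.card F ^ j) ^ Fintype.card F = _
    rw [← pow_mul, pow_succ]

theorem nat_aux_Q (Q : ℕ) (h : 2 ≤ Q) : Q + 1 ∣ Q ^ 2 - 1 := by
  obtain ⟨c, rfl⟩ : ∃ c, Q = c + 1 := ⟨Q - 1, by omega⟩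
  refine ⟨c, ?_⟩
  have h1 : (c + 1) ^ 2 = c ^ 2 + 2 * c + 1 := by ring
  have h2 : (c + 1 + 1) * c = c ^ 2 + 2 * c := by ring
  rw [h1, h2]
  omega

/-- the trace vanishes on skew elements -/
theorem trace_skew {E : Type*} [Field E] [Fintype E] [Algebra F E] (e : ℕ) (hfr : finrank F E = 2 * e) (u : E)
    (hu : u ^ Fintype.card F ^ e = -u) : Algebra.trace F E u = 0 := by
  classical
  have hneg : ∀ (i : ℕ) (x : E), (-x) ^ Fintype.card F ^ i = -(x ^ Fintype.card F ^ i) := by
    intro i x
    rw [← frob_pow, ← frob_pow, map_neg]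
  apply (algebraMap F E).injective
  rw [FiniteField.algebraMap_trace_eq_sum_pow, map_zero, hfr, two_mul, Finset.sum_range_add]
  rw [Nat.card_eq_fintype_card]
  rw [← Finset.sum_add_distrib]
  apply Finset.sum_eq_zero
  intro i _
  rw [pow_add, pow_mul, hu, hneg, add_neg_cancel]

/-- `N ∣ q^e + 1` -/
theorem blk_add (e : ℕ) (he : 1 ≤ e) (N : ℕ) (hN : N ∣ Fintype.card F ^ e + 1) : Blk F e N := by
  classical
  obtain ⟨E, _, _, _, hcard, hfr, -⟩ := Cfsg.Agent.H10.exists_field_matrix F (2 * e) (by omega)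
  set q := Fintype.card F with hq
  have hq2 : 2 ≤ q := Fintype.one_lt_card
  set Q := q ^ e with hQ
  have hQ2 : 2 ≤ Q := by
    have h4 : 2 ^ 1 ≤ q ^ e := (Nat.pow_le_pow_left hq2 1).trans (Nat.pow_le_pow_right (by omega) he)
    simpa using h4
  have hcardE : Fintype.card E = Q ^ 2 := by
    rw [hcard, hQ, ← pow_mul, mul_comm]
  have hdvd : N ∣ Fintype.card E - 1 := by
    rw [hcardE]
    exact hN.trans (nat_aux_Q Q hQ2)
  obtain ⟨z, hz⟩ := exists_elt_order (E := E) N hdvd
  haveI : FiniteDimensional F E := Module.Finite.of_finite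
  have hN0 : N ≠ 0 := by
    rintro rfl
    have := Nat.eq_zero_of_zero_dvd hN
    omega
  have hz1 : z ^ (Q + 1) = 1 := (hz _).2 hN
  have hz0 : z ≠ 0 := by
    rintro rfl
    rw [zero_pow (by omega)] at hz1
    exact zero_ne_one hz1
  let Fr := FiniteField.frobeniusAlgEquivOfAlgebraic F E
  have hfrob : ∀ (j : ℕ) (x : E), (Fr ^ j) x = x ^ Fintype.card F ^ j := fun j x => frob_pow j x
  let φ : E ≃ₐ[F] E := Fr ^ e
  have hφ : ∀ x, φ x = x ^ Q := fun x => hfrob e x
  have hφφ : ∀ x, φ (φ x) = x := by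
    intro x
    rw [hφ, hφ, ← pow_mul, ← pow_two, ← hcardE, FiniteField.pow_card]
  -- a skew element
  have hne : φ ≠ 1 := by
    intro h
    have hinj := (FiniteField.bijective_frobeniusAlgEquivOfAlgebraic_pow F E).1
    have h1 : (⟨e, by rw [hfr]; omega⟩ : Fin (finrank F E)) = ⟨0, by rw [hfr]; omega⟩ := by
      apply hinj
      change Fr ^ e = Fr ^ 0
      rw [pow_zero]
      exact h
    have h2 : e = 0 := congrArg Fin.val h1
    omega
  obtain ⟨w, hw⟩ : ∃ w, φ w ≠ w := by
    by_contra hcon
    push Not at hcon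
    exact hne (AlgEquiv.ext hcon)
  set δ := φ w - w with hδ
  have hδ0 : δ ≠ 0 := sub_ne_zero.2 hw
  have hφδ : φ δ = -δ := by
    rw [hδ, map_sub, hφφ]
    ring
  let Tr := Algebra.trace F E
  let ω : E →ₗ[F] E →ₗ[F] F :=
    LinearMap.mk₂ F (fun x y => Tr (δ * x * φ y))
      (fun a b c => by
        simp only [← map_add]
        congr 1
        ring)
      (fun c a b => by
        rw [← map_smul Tr]
        congr 1
        simp only [mul_smul_comm, smul_mul_assoc])
      (fun a b c => by
        rw [map_add φ, ← map_add Tr]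
        congr 1
        ring)
      (fun c a b => by
        rw [← map_smul Tr, map_smul φ]
        congr 1
        simp only [mul_smul_comm])
  have hω : ∀ x y, ω x y = Tr (δ * x * φ y) := fun _ _ => rfl
  let τ : E →ₗ[F] E := LinearMap.mulLeft F z
  have hτ : ∀ x, τ x = z * x := fun _ => rfl
  have hpow : ∀ (m : ℕ) (x : E), (τ ^ m) x = z ^ m * x := by
    intro m
    induction m with
    | zero => intro x; simp
    | succ m ih =>
      intro x
      rw [pow_succ, Module.End.mul_apply, ih, hτ, pow_succ]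
      ring
  have htr : ∀ a : E, a ≠ 0 → ∃ b : E, Tr (a * b) ≠ 0 := by
    intro a ha
    by_contra hcon
    push Not at hcon
    apply ha
    apply (traceForm_nondegenerate F E).1 a
    intro b
    simpa [Algebra.traceForm_apply] using hcon b
  refine blk_of_form ω ?_ ?_ e hfr τ ?_ N ?_
  · intro v
    rw [hω]
    apply trace_skew e hfr
    have h1 : (δ * v * φ v) ^ q ^ e = φ (δ * v * φ v) := (hφ _).symm
    rw [h1, map_mul, map_mul, hφδ, hφφ]
    ring
  · intro x _ hx
    obtain ⟨b, hb⟩ := htr (δ * x) (mul_ne_zero hδ0 hx)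
    refine ⟨φ.symm b, Submodule.mem_top, ?_⟩
    rw [hω, AlgEquiv.apply_symm_apply]
    exact hb
  · intro x y
    rw [hτ, hτ, hω, hω, map_mul φ, hφ z]
    congr 1
    have h1 : z * z ^ Q = 1 := by
      rw [← pow_succ', hz1]
    calc δ * (z * x) * (z ^ Q * φ y) = (z * z ^ Q) * (δ * x * φ y) := by ring
      _ = δ * x * φ y := by rw [h1, one_mul]
  · intro m
    rw [← hz]
    constructor
    · intro h
      have h1 := LinearMap.congr_fun h 1
      rw [hpow] at h1
      simpa using h1
    · intro h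
      apply LinearMap.ext
      intro x
      rw [hpow, h]
      simp

end fields

end Cfsg.Agent.H11.PSpG
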