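import Mathlib
import Cfsg.Agent.Lib.H10.Singer
import Cfsg.Agent.Lib.Lead.CardSL
import Cfsg.Agent.Lib.H29.PrimeOrd

/-! Elements of order a product of two primes in `PSL_n(q)`: counting fixed vectors. -/

set_option autoImplicit false
set_option linter.unusedSectionVars false
set_option linter.unusedVariables false

namespace Cfsg.Agent.H11.PrimeGr

open Matrix Module

section fix

variable {F : Type*} [Field F] [Fintype F] {V : Type*} [AddCommGroup V] [Module F V] [Finite V]

/-- The fixed vectors of a prime order linear map on an invariant subspace, in residues. -/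
theorem fix_modEq (T : V →ₗ[F] V) (W : Submodule F V) (hW : ∀ v ∈ W, T v ∈ W) (l : ℕ) [hl : Fact l.Prime]
    (hT : ∀ v ∈ W, (T ^ l) v = v) :
    ((Fintype.card F : ℕ) : ZMod l) ^ finrank F W =
      ((Fintype.card F : ℕ) : ZMod l) ^ finrank F ↥(W ⊓ LinearMap.ker (T - 1)) := by
  classical
  haveI : Fintype W := Fintype.ofFinite W
  let f : Function.End W := fun v => ⟨T v, hW v v.2⟩
  have hf : ∀ (m : ℕ) (v : W), ((f ^ m) v : V) = (T ^ m) (v : V) := by
    intro m v
    induction m generalizing v with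
    | zero => rfl
    | succ m ih =>
      rw [pow_succ, pow_succ, Module.End.mul_apply]
      exact (ih (f v))
  have hf1 : f ^ l ^ 1 = 1 := by
    rw [pow_one]
    funext v
    apply Subtype.ext
    rw [hf]
    exact hT v v.2
  have h1 := Equiv.Perm.card_fixedPoints_modEq (f := f) (p := l) (n := 1) hf1
  rw [Fintype.card_eq_nat_card (α := ↑(Function.fixedPoints f))] at h1
  let U : Submodule F V := W ⊓ LinearMap.ker (T - 1)
  haveI : Fintype U := Fintype.ofFinite U
  let e : f.fixedPoints ≃ U :=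
    { toFun := fun v => ⟨(v.1 : V), v.1.2, by
        have h2 : f v.1 = v.1 := v.2
        have h3 : T (v.1 : V) = (v.1 : V) := congrArg Subtype.val h2
        change (T - 1) (v.1 : V) = 0
        rw [LinearMap.sub_apply, h3, Module.End.one_apply, sub_self]⟩
      invFun := fun v => ⟨⟨v.1, v.2.1⟩, by
        have h2 : (T - 1) (v.1 : V) = 0 := v.2.2
        rw [LinearMap.sub_apply, sub_eq_zero] at h2
        exact Subtype.ext h2⟩
      left_inv := fun v => rfl
      right_inv := fun v => rfl }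
  have h2 : Fintype.card W = Fintype.card F ^ finrank F W := by
    rw [← Nat.card_eq_fintype_card, Module.natCard_eq_pow_finrank (K := F), Nat.card_eq_fintype_card]
  have h3 : Nat.card f.fixedPoints = Fintype.card F ^ finrank F U := by
    rw [Nat.card_congr e, Module.natCard_eq_pow_finrank (K := F), Nat.card_eq_fintype_card]
  have h4 := (ZMod.natCast_eq_natCast_iff _ _ l).2 h1
  rw [h2] at h4
  simp only [Nat.cast_pow] at h4
  rw [h4, h3]
  simp only [Nat.cast_pow]
  rfl

/-- The residue form of the count. -/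
theorem fix_dvd (T : V →ₗ[F] V) (W : Submodule F V) (hW : ∀ v ∈ W, T v ∈ W) (l : ℕ) [hl : Fact l.Prime]
    (hq : ((Fintype.card F : ℕ) : ZMod l) ≠ 0) (hT : ∀ v ∈ W, (T ^ l) v = v) :
    orderOf ((Fintype.card F : ℕ) : ZMod l) ∣ finrank F W - finrank F ↥(W ⊓ LinearMap.ker (T - 1)) := by
  haveI : FiniteDimensional F V := Module.Finite.of_finite
  have h1 := fix_modEq T W hW l hT
  have hle : finrank F ↥(W ⊓ LinearMap.ker (T - 1)) ≤ finrank F W :=
    Submodule.finrank_mono inf_le_left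
  rw [orderOf_dvd_iff_pow_eq_one]
  have h2 := Nat.sub_add_cancel hle
  rw [← h2, pow_add] at h1
  have h3 : ((Fintype.card F : ℕ) : ZMod l) ^ finrank F ↥(W ⊓ LinearMap.ker (T - 1)) ≠ 0 := pow_ne_zero _ hq
  exact mul_right_cancel₀ h3 (by rw [h1, one_mul])

end fix

section gl

variable {F : Type*} [Field F] [Fintype F]

/-- elements of a given order in `GL_d` over a finite field -/
theorem exists_GL_order (d t : ℕ) (hd : 1 ≤ d) (ht : t ∣ Fintype.card F ^ d - 1) :
    ∃ A : GL (Fin d) F, orderOf A = t := by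
  obtain ⟨E, _, _, _, hcard, hfr, ⟨φ⟩⟩ := Cfsg.Agent.H10.exists_field_matrix F d hd
  classical
  haveI : Nonempty (Fin d) := ⟨⟨0, hd⟩⟩
  have hEunits : Nat.card Eˣ = Fintype.card F ^ d - 1 := by
    rw [Nat.card_eq_fintype_card, Fintype.card_units, hcard]
  obtain ⟨c, hc⟩ := IsCyclic.exists_generator (α := Eˣ)
  have hord : orderOf c = Fintype.card F ^ d - 1 := by
    rw [orderOf_eq_card_of_forall_mem_zpowers hc, hEunits]
  have hpos : 0 < Fintype.card F ^ d - 1 := by
    have h2 : 2 ≤ Fintype.card F := Fintype.one_lt_card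
    have h3 : 2 ^ 1 ≤ Fintype.card F ^ d := (Nat.pow_le_pow_left h2 1).trans (Nat.pow_le_pow_right (by omega) hd)
    omega
  obtain ⟨m, hm⟩ := ht
  have ht0 : t ≠ 0 := by
    rintro rfl
    simp at hm
    omega
  have hm0 : m ≠ 0 := by
    rintro rfl
    simp at hm
    omega
  let A : Eˣ := c ^ m
  have hA : orderOf A = t := by
    have := orderOf_pow_of_dvd (x := c) (n := m) hm0 ⟨t, by rw [hord, hm]; ring⟩
    rw [this, hord, hm]
    exact Nat.mul_div_cancel _ (Nat.pos_of_ne_zero hm0)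
  refine ⟨Units.map (φ : E →* Matrix (Fin d) (Fin d) F) A, ?_⟩
  rw [orderOf_injective _ _ A, hA]
  intro x y hxy
  apply Units.ext
  have h3 := congrArg (fun u : (Matrix (Fin d) (Fin d) F)ˣ => (u : Matrix (Fin d) (Fin d) F)) hxy
  exact φ.toRingHom.injective h3

/-- block diagonal embedding -/
theorem exists_embed (d m n : ℕ) (h : d + m = n) :
    ∃ f : GL (Fin d) F × GL (Fin m) F →* GL (Fin n) F, Function.Injective f := by
  classical
  let e : Fin d ⊕ Fin m ≃ Fin n := finSumFinEquiv.trans (finCongr h)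
  let b : GL (Fin d) F × GL (Fin m) F →* (Matrix (Fin d ⊕ Fin m) (Fin d ⊕ Fin m) F)ˣ :=
    { toFun := fun p => ⟨Matrix.fromBlocks (p.1 : Matrix (Fin d) (Fin d) F) 0 0 (p.2 : Matrix (Fin m) (Fin m) F),
        Matrix.fromBlocks ((p.1⁻¹ : GL (Fin d) F) : Matrix (Fin d) (Fin d) F) 0 0 ((p.2⁻¹ : GL (Fin m) F) : Matrix (Fin m) (Fin m) F),
        by simp [Matrix.fromBlocks_multiply], by simp [Matrix.fromBlocks_multiply]⟩
      map_one' := by
        apply Units.ext
        simp
      map_mul' := by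
        intro a b
        apply Units.ext
        simp [Matrix.fromBlocks_multiply] }
  let φ := Matrix.reindexAlgEquiv F F e
  refine ⟨(Units.map (φ : Matrix (Fin d ⊕ Fin m) (Fin d ⊕ Fin m) F →* Matrix (Fin n) (Fin n) F)).comp b, ?_⟩
  intro p p' hpp
  have h1 := congrArg (fun u : (Matrix (Fin n) (Fin n) F)ˣ => (u : Matrix (Fin n) (Fin n) F)) hpp
  have h2 : Matrix.fromBlocks (p.1 : Matrix (Fin d) (Fin d) F) 0 0 (p.2 : Matrix (Fin m) (Fin m) F) =
      Matrix.fromBlocks (p'.1 : Matrix (Fin d) (Fin d) F) 0 0 (p'.2 : Matrix (Fin m) (Fin m) F) :=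
    φ.injective h1
  obtain ⟨e1, -, -, e4⟩ := Matrix.fromBlocks_inj.1 h2
  exact Prod.ext (Units.ext e1) (Units.ext e4)

/-- one block -/
theorem exists_order_one (d n t : ℕ) (h : d ≤ n) (A : GL (Fin d) F) (hA : orderOf A = t) :
    ∃ x : GL (Fin n) F, orderOf x = t := by
  obtain ⟨f, hf⟩ := exists_embed (F := F) d (n - d) n (by omega)
  refine ⟨f (A, 1), ?_⟩
  rw [orderOf_injective f hf, Prod.orderOf_mk, hA]
  simp

/-- two blocks -/
theorem exists_order_two (d₁ d₂ n t₁ t₂ : ℕ) (h : d₁ + d₂ ≤ n) (A : GL (Fin d₁) F) (B : GL (Fin d₂) F)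
    (hA : orderOf A = t₁) (hB : orderOf B = t₂) :
    ∃ x : GL (Fin n) F, orderOf x = Nat.lcm t₁ t₂ := by
  obtain ⟨f, hf⟩ := exists_embed (F := F) d₁ d₂ (d₁ + d₂) rfl
  apply exists_order_one (d₁ + d₂) n _ h (f (A, B))
  rw [orderOf_injective f hf, Prod.orderOf_mk, hA, hB]

/-- an element of `GL_n` of order prime to `q - 1`, seen in `PSL_n` -/
theorem psl_of_gl {n t : ℕ} (x : GL (Fin n) F) (hx : orderOf x = t) (ht : t.Coprime (Fintype.card F - 1)) :
    ∃ y : Matrix.ProjectiveSpecialLinearGroup (Fin n) F, orderOf y = t := by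
  classical
  have hroot : ∀ c : Fˣ, c ^ t = 1 → c = 1 := by
    intro c hc
    have h1 : c ^ (Fintype.card F - 1) = 1 := by
      have := pow_card_eq_one' (G := Fˣ) (x := c)
      rwa [Nat.card_eq_fintype_card, Fintype.card_units] at this
    have h2 := (pow_gcd_eq_one (a := c)).2 ⟨hc, h1⟩
    rw [ht] at h2
    simpa using h2
  have hdet : Matrix.GeneralLinearGroup.det x = 1 := by
    apply hroot
    rw [← map_pow, ← hx, pow_orderOf_eq_one, map_one]
  have hdet2 : (x : Matrix (Fin n) (Fin n) F).det = 1 := by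
    have := congrArg (fun u : Fˣ => (u : F)) hdet
    simpa using this
  let x' : Matrix.SpecialLinearGroup (Fin n) F := ⟨x, hdet2⟩
  have hcoe : ∀ m : ℕ, ((x' ^ m : Matrix.SpecialLinearGroup (Fin n) F) : Matrix (Fin n) (Fin n) F) = ((x ^ m : GL (Fin n) F) : Matrix (Fin n) (Fin n) F) := by
    intro m
    rw [Matrix.SpecialLinearGroup.coe_pow, Units.val_pow_eq_pow_val]
  have hpow : ∀ m : ℕ, x' ^ m = 1 ↔ t ∣ m := by
    intro m
    rw [← hx, orderOf_dvd_iff_pow_eq_one]
    constructor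
    · intro h
      apply Units.ext
      rw [← hcoe, h]
      simp
    · intro h
      apply Subtype.ext
      rw [hcoe, h]
      simp
  refine ⟨QuotientGroup.mk x', ?_⟩
  apply Nat.dvd_antisymm
  · rw [orderOf_dvd_iff_pow_eq_one, ← QuotientGroup.mk_pow, (hpow t).2 dvd_rfl]
    rfl
  · have h1 := pow_orderOf_eq_one (QuotientGroup.mk x' : Matrix.ProjectiveSpecialLinearGroup (Fin n) F)
    rw [← QuotientGroup.mk_pow, QuotientGroup.eq_one_iff] at h1
    rw [← hpow]
    set m := orderOf (QuotientGroup.mk x' : Matrix.ProjectiveSpecialLinearGroup (Fin n) F) with hm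
    by_cases hn0 : IsEmpty (Fin n)
    · apply Subtype.ext
      ext i
      exact (hn0.false i).elim
    rw [not_isEmpty_iff] at hn0
    haveI := hn0
    obtain ⟨i⟩ := hn0
    obtain ⟨c, hc1, hc2⟩ := (Matrix.SpecialLinearGroup.mem_center_iff (A := x' ^ m)).1 h1
    have hcu : c ≠ 0 := by
      rintro rfl
      have : (0 : F) ^ Fintype.card (Fin n) = 0 := zero_pow (Fintype.card_ne_zero)
      rw [this] at hc1
      exact zero_ne_one hc1
    have hct : (Units.mk0 c hcu) ^ t = 1 := by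
      have h3 : (x' ^ m) ^ t = 1 := by
        rw [← pow_mul, mul_comm, pow_mul, (hpow t).2 dvd_rfl, one_pow]
      have h4 := congrArg (fun A : Matrix.SpecialLinearGroup (Fin n) F => (A : Matrix (Fin n) (Fin n) F)) h3
      simp only [Matrix.SpecialLinearGroup.coe_pow, Matrix.SpecialLinearGroup.coe_one] at h4
      have h5 : (((x' ^ m : Matrix.SpecialLinearGroup (Fin n) F)) : Matrix (Fin n) (Fin n) F) = Matrix.scalar (Fin n) c := hc2.symm
      rw [Matrix.SpecialLinearGroup.coe_pow] at h5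
      rw [h5] at h4
      have h6 := congrFun (congrFun h4 i) i
      rw [← map_pow] at h6
      simp at h6
      apply Units.ext
      simpa using h6
    have hc3 := hroot _ hct
    have hc4 : c = 1 := by
      have := congrArg (fun u : Fˣ => (u : F)) hc3
      simpa using this
    apply Subtype.ext
    rw [← hc2, hc4]
    simp

end gl

section main

variable {F : Type*} [Field F] [Fintype F]

theorem arith_core (n na nb n0 k l : ℕ) (h2k : 2 ≤ k) (hkl : k ≤ l) (hna : na < n) (hnb : nb < n)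
    (h0a : n0 ≤ na) (h0b : n0 ≤ nb) (h1 : k ∣ n - na) (h2 : l ∣ n - nb) (h3 : l ∣ na - n0) (h4 : k ∣ nb - n0) :
    k + l ≤ n ∨ k ∣ l := by
  by_cases hk : k ∣ l
  · exact Or.inr hk
  left
  have e1 : k ≤ n - na := Nat.le_of_dvd (by omega) h1
  have e2 : l ≤ n - nb := Nat.le_of_dvd (by omega) h2
  by_cases hA : n0 < na
  · have e3 : l ≤ na - n0 := Nat.le_of_dvd (by omega) h3
    omega
  by_cases hB : n0 < nb
  · have e4 : k ≤ nb - n0 := Nat.le_of_dvd (by omega) h4
    omega
  have ea : na = n0 := by omega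
  have eb : nb = n0 := by omega
  subst ea
  subst eb
  obtain ⟨c, hc⟩ := h2
  have hc2 : c ≠ 1 := by
    rintro rfl
    rw [mul_one] at hc
    rw [hc] at h1
    exact hk h1
  have hc0 : c ≠ 0 := by
    rintro rfl
    omega
  have h5 : 2 ≤ c := by omega
  have h6 : l * 2 ≤ l * c := Nat.mul_le_mul_left _ h5
  omega

theorem dims_core {n r s : ℕ} [Fact r.Prime] [Fact s.Prime] (A B : Matrix (Fin n) (Fin n) F)
    (hA : A ^ r = 1) (hB : B ^ s = 1) (hAB : A * B = B * A) (hA1 : A ≠ 1) (hB1 : B ≠ 1)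
    (hr : ((Fintype.card F : ℕ) : ZMod r) ≠ 0) (hs : ((Fintype.card F : ℕ) : ZMod s) ≠ 0)
    (h2k : 2 ≤ orderOf ((Fintype.card F : ℕ) : ZMod r))
    (hkl : orderOf ((Fintype.card F : ℕ) : ZMod r) ≤ orderOf ((Fintype.card F : ℕ) : ZMod s)) :
    orderOf ((Fintype.card F : ℕ) : ZMod r) + orderOf ((Fintype.card F : ℕ) : ZMod s) ≤ n ∨
      orderOf ((Fintype.card F : ℕ) : ZMod r) ∣ orderOf ((Fintype.card F : ℕ) : ZMod s) := by
  classical
  let φ := Matrix.toLinAlgEquiv' (R := F) (n := Fin n)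
  let TA : (Fin n → F) →ₗ[F] (Fin n → F) := φ A
  let TB : (Fin n → F) →ₗ[F] (Fin n → F) := φ B
  have hTA : TA ^ r = 1 := by
    change (φ A) ^ r = 1
    rw [← map_pow, hA, map_one]
  have hTB : TB ^ s = 1 := by
    change (φ B) ^ s = 1
    rw [← map_pow, hB, map_one]
  have hTAB : TA * TB = TB * TA := by
    change φ A * φ B = φ B * φ A
    rw [← map_mul, ← map_mul, hAB]
  let Fa := LinearMap.ker (TA - 1)
  let Fb := LinearMap.ker (TB - 1)
  have hmem_a : ∀ v, v ∈ Fa ↔ TA v = v := by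
    intro v
    change (TA - 1) v = 0 ↔ _
    rw [LinearMap.sub_apply, sub_eq_zero]
    rfl
  have hmem_b : ∀ v, v ∈ Fb ↔ TB v = v := by
    intro v
    change (TB - 1) v = 0 ↔ _
    rw [LinearMap.sub_apply, sub_eq_zero]
    rfl
  have hcomm : ∀ v, TA (TB v) = TB (TA v) := fun v => LinearMap.congr_fun hTAB v
  have h1 := fix_dvd TA ⊤ (fun v _ => Submodule.mem_top) r hr (fun v _ => by rw [hTA]; rfl)
  have h2 := fix_dvd TB ⊤ (fun v _ => Submodule.mem_top) s hs (fun v _ => by rw [hTB]; rfl)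
  have h3 := fix_dvd TB Fa (fun v hv => by
      rw [hmem_a] at hv ⊢
      rw [hcomm, hv]) s hs (fun v _ => by rw [hTB]; rfl)
  have h4 := fix_dvd TA Fb (fun v hv => by
      rw [hmem_b] at hv ⊢
      rw [← hcomm, hv]) r hr (fun v _ => by rw [hTA]; rfl)
  rw [top_inf_eq, finrank_top] at h1 h2
  have hfr : finrank F (Fin n → F) = n := by simp
  rw [hfr] at h1 h2
  have hFF : Fb ⊓ Fa = Fa ⊓ Fb := inf_comm _ _
  change _ ∣ _ - finrank F ↥(Fa ⊓ Fb) at h3
  change _ ∣ _ - finrank F ↥(Fb ⊓ Fa) at h4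
  rw [hFF] at h4
  have hlt : ∀ (M : Matrix (Fin n) (Fin n) F), M ≠ 1 →
      finrank F ↥(LinearMap.ker (φ M - 1)) < n := by
    intro M hM
    have h5 : finrank F ↥(LinearMap.ker (φ M - 1)) < finrank F (Fin n → F) := by
      apply Submodule.finrank_lt
      intro htop
      apply hM
      apply φ.injective
      rw [map_one]
      have : φ M - 1 = 0 := LinearMap.ker_eq_top.1 htop
      exact sub_eq_zero.1 this
    rwa [hfr] at h5
  refine arith_core n (finrank F Fa) (finrank F Fb) (finrank F ↥(Fa ⊓ Fb)) _ _ h2k hkl (hlt A hA1) (hlt B hB1)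
    (Submodule.finrank_mono inf_le_left) (Submodule.finrank_mono inf_le_right) h1 h2 h3 h4

/-- the lower bound on the degree -/
theorem order_le_of_dvd_card {n s p : ℕ} [Fact p.Prime] [CharP F p] [Fact s.Prime] (hsp : s ≠ p)
    (hsG : s ∣ Nat.card (Matrix.ProjectiveSpecialLinearGroup (Fin n) F)) :
    orderOf ((Fintype.card F : ℕ) : ZMod s) ≤ n := by
  classical
  have hsP : s.Prime := Fact.out
  have hq2 : 2 ≤ Fintype.card F := Fintype.one_lt_card
  have hsq : ((Fintype.card F : ℕ) : ZMod s) ≠ 0 := Cfsg.Agent.H29.natCast_q_ne_zero (F := F) (p := p) rfl hsp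
  have hsq2 : ¬ s ∣ Fintype.card F := fun h => hsq ((ZMod.natCast_eq_zero_iff _ _).2 h)
  rcases Nat.eq_zero_or_pos n with rfl | hn
  · exfalso
    haveI : Subsingleton (Matrix.SpecialLinearGroup (Fin 0) F) :=
      ⟨fun a b => Subtype.ext (by ext i; exact i.elim0)⟩
    haveI : Subsingleton (Matrix.ProjectiveSpecialLinearGroup (Fin 0) F) :=
      (QuotientGroup.mk_surjective (s := Subgroup.center (Matrix.SpecialLinearGroup (Fin 0) F))).subsingleton
    rw [Nat.card_of_subsingleton (1 : Matrix.ProjectiveSpecialLinearGroup (Fin 0) F)] at hsG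
    exact hsP.one_lt.ne' (Nat.dvd_one.1 hsG)
  have h1 := Cfsg.Agent.Lead.card_PSL (F := F) n hn
  have h2 : s ∣ ∏ i : Fin n, (Fintype.card F ^ n - Fintype.card F ^ (i : ℕ)) := by
    rw [← h1]
    exact Dvd.dvd.mul_left (Dvd.dvd.mul_left hsG _) _
  obtain ⟨i, -, hi⟩ := (hsP.prime.dvd_finsetProd_iff _).1 h2
  have hin : (i : ℕ) ≤ n := i.2.le
  have h3 : Fintype.card F ^ n - Fintype.card F ^ (i : ℕ) = Fintype.card F ^ (i : ℕ) * (Fintype.card F ^ (n - i) - 1) := by
    rw [Nat.mul_sub, ← pow_add, mul_one, Nat.add_sub_cancel' hin]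
  rw [h3] at hi
  have h4 : s ∣ Fintype.card F ^ (n - i) - 1 := by
    rcases (hsP.prime.dvd_mul).1 hi with h | h
    · exact (hsq2 (hsP.dvd_of_dvd_pow h)).elim
    · exact h
  have h5 := (Cfsg.Agent.H29.dvd_pow_sub_one_iff hq2 (n - i)).1 h4
  have h6 := Nat.le_of_dvd (by have := i.2; omega) h5
  omega

/-- Main result in the form we need. -/
theorem adjacent_iff {n r s : ℕ} (p : ℕ) [Fact p.Prime] [CharP F p] [Fact r.Prime] [Fact s.Prime]
    (hrp : r ≠ p) (hsp : s ≠ p) (hrs : r ≠ s)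
    (hsG : s ∣ Nat.card (Matrix.ProjectiveSpecialLinearGroup (Fin n) F))
    (h2k : 2 ≤ orderOf ((Fintype.card F : ℕ) : ZMod r))
    (hkl : orderOf ((Fintype.card F : ℕ) : ZMod r) ≤ orderOf ((Fintype.card F : ℕ) : ZMod s)) :
    (r * s ∈ Set.range (orderOf : Matrix.ProjectiveSpecialLinearGroup (Fin n) F → ℕ)) ↔
      (orderOf ((Fintype.card F : ℕ) : ZMod r) + orderOf ((Fintype.card F : ℕ) : ZMod s) ≤ n ∨
      orderOf ((Fintype.card F : ℕ) : ZMod r) ∣ orderOf ((Fintype.card F : ℕ) : ZMod s)) := by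
  classical
  set q := Fintype.card F with hq
  have hq2 : 2 ≤ q := Fintype.one_lt_card
  have hrq : (q : ZMod r) ≠ 0 := Cfsg.Agent.H29.natCast_q_ne_zero (F := F) (p := p) hq.symm hrp
  have hsq : (q : ZMod s) ≠ 0 := Cfsg.Agent.H29.natCast_q_ne_zero (F := F) (p := p) hq.symm hsp
  set k := orderOf (q : ZMod r) with hk
  set l := orderOf (q : ZMod s) with hl
  have hrP : r.Prime := Fact.out
  have hsP : s.Prime := Fact.out
  have hr1 : ¬ r ∣ q - 1 := by
    rw [Cfsg.Agent.H29.dvd_sub_one_iff hq2]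
    omega
  have hs1 : ¬ s ∣ q - 1 := by
    rw [Cfsg.Agent.H29.dvd_sub_one_iff hq2]
    omega
  have hcop : (r * s).Coprime (q - 1) :=
    Nat.Coprime.mul_left ((Nat.Prime.coprime_iff_not_dvd hrP).2 hr1) ((Nat.Prime.coprime_iff_not_dvd hsP).2 hs1)
  have hrs' : r.Coprime s := (Nat.coprime_primes hrP hsP).2 hrs
  have hlcm : Nat.lcm r s = r * s := hrs'.lcm_eq_mul
  constructor
  · rintro ⟨x, hx⟩
    obtain ⟨g, rfl⟩ := QuotientGroup.mk_surjective x
    have hxpow : orderOf (((QuotientGroup.mk (g ^ (q - 1)) : Matrix.ProjectiveSpecialLinearGroup (Fin n) F))) = r * s := by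
      rw [QuotientGroup.mk_pow, Nat.Coprime.orderOf_pow, hx]
      rw [hx]
      exact hcop
    by_cases hn0 : IsEmpty (Fin n)
    · exfalso
      haveI := hn0
      have hsub : Subsingleton (Matrix.SpecialLinearGroup (Fin n) F) :=
        ⟨fun a b => Subtype.ext (by ext i; exact hn0.false i |>.elim)⟩
      have h1 : (QuotientGroup.mk (g ^ (q - 1)) : Matrix.ProjectiveSpecialLinearGroup (Fin n) F) = 1 := by
        rw [Subsingleton.elim (g ^ (q - 1)) 1]
        rfl
      rw [h1, orderOf_one] at hxpow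
      have := Nat.Prime.one_lt hrP
      have h7 : 1 ≤ s := hsP.pos
      nlinarith
    rw [not_isEmpty_iff] at hn0
    haveI := hn0
    obtain ⟨i⟩ := hn0
    set g' := g ^ (q - 1) with hg'
    have hg1 : g' ^ (r * s) = 1 := by
      have h1 : (QuotientGroup.mk g : Matrix.ProjectiveSpecialLinearGroup (Fin n) F) ^ (r * s) = 1 := by
        rw [← hx, pow_orderOf_eq_one]
      rw [← QuotientGroup.mk_pow, QuotientGroup.eq_one_iff] at h1
      obtain ⟨c, hc1, hc2⟩ := (Matrix.SpecialLinearGroup.mem_center_iff (A := g ^ (r * s))).1 h1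
      have hcu : c ≠ 0 := by
        rintro rfl
        have : (0 : F) ^ Fintype.card (Fin n) = 0 := zero_pow (Fintype.card_ne_zero)
        rw [this] at hc1
        exact zero_ne_one hc1
      have hcq : c ^ (q - 1) = 1 := FiniteField.pow_card_sub_one_eq_one c hcu
      rw [hg', ← pow_mul, mul_comm, pow_mul]
      apply Subtype.ext
      rw [Matrix.SpecialLinearGroup.coe_pow, ← hc2, ← map_pow, hcq]
      simp
    have hpow : ∀ m, g' ^ m = 1 → r * s ∣ m := by
      intro m hm
      rw [← hxpow, orderOf_dvd_iff_pow_eq_one, ← QuotientGroup.mk_pow, hm]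
      rfl
    have hr0 : r ≠ 0 := hrP.ne_zero
    have hs0 : s ≠ 0 := hsP.ne_zero
    refine dims_core ((g' ^ s : Matrix.SpecialLinearGroup (Fin n) F) : Matrix (Fin n) (Fin n) F)
      ((g' ^ r : Matrix.SpecialLinearGroup (Fin n) F) : Matrix (Fin n) (Fin n) F) ?_ ?_ ?_ ?_ ?_ hrq hsq h2k hkl
    · rw [← Matrix.SpecialLinearGroup.coe_pow, ← pow_mul, mul_comm, hg1]
      rfl
    · rw [← Matrix.SpecialLinearGroup.coe_pow, ← pow_mul, hg1]
      rfl
    · rw [← Matrix.SpecialLinearGroup.coe_mul, ← Matrix.SpecialLinearGroup.coe_mul, ← pow_add, ← pow_add, add_comm]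
    · intro h
      have h5 : g' ^ s = 1 := Subtype.ext h
      have h6 := hpow s h5
      have h7 := Nat.le_of_dvd hsP.pos h6
      have := hrP.two_le
      have h8 := hsP.pos
      nlinarith
    · intro h
      have h5 : g' ^ r = 1 := Subtype.ext h
      have h6 := hpow r h5
      have h7 := Nat.le_of_dvd hrP.pos h6
      have := hsP.two_le
      have h8 := hrP.pos
      nlinarith
  · rintro (h | h)
    · have hrd : r ∣ q ^ k - 1 := (Cfsg.Agent.H29.dvd_pow_sub_one_iff hq2 k).2 dvd_rfl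
      have hsd : s ∣ q ^ l - 1 := (Cfsg.Agent.H29.dvd_pow_sub_one_iff hq2 l).2 dvd_rfl
      obtain ⟨A, hA⟩ := exists_GL_order (F := F) k r (by omega) hrd
      obtain ⟨B, hB⟩ := exists_GL_order (F := F) l s (by omega) hsd
      obtain ⟨x, hx⟩ := exists_order_two k l n r s h A B hA hB
      rw [hlcm] at hx
      obtain ⟨y, hy⟩ := psl_of_gl x hx hcop
      exact ⟨y, hy⟩
    · have hrd : r ∣ q ^ l - 1 := (Cfsg.Agent.H29.dvd_pow_sub_one_iff hq2 l).2 h
      have hsd : s ∣ q ^ l - 1 := (Cfsg.Agent.H29.dvd_pow_sub_one_iff hq2 l).2 dvd_rfl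
      have hd : r * s ∣ q ^ l - 1 := hrs'.mul_dvd_of_dvd_of_dvd hrd hsd
      obtain ⟨A, hA⟩ := exists_GL_order (F := F) l (r * s) (by omega) hd
      obtain ⟨x, hx⟩ := exists_order_one l n _ (order_le_of_dvd_card (p := p) hsp hsG) A hA
      obtain ⟨y, hy⟩ := psl_of_gl x hx hcop
      exact ⟨y, hy⟩

end main

end Cfsg.Agent.H11.PrimeGr
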