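import Cfsg.Agent.Lib.H11.PrimeGr

/-! Elements of order `r * p` in `PSL_n(q)`. -/

set_option autoImplicit false
set_option linter.unusedSectionVars false
set_option linter.unusedVariables false

namespace Cfsg.Agent.H11.PrimeGr

open Matrix Module

section lin

variable {F : Type*} [Field F] [Fintype F] {V : Type*} [AddCommGroup V] [Module F V] [Finite V]

theorem card_cast_zero (p : ℕ) [Fact p.Prime] [CharP F p] : ((Fintype.card F : ℕ) : ZMod p) = 0 := by
  obtain ⟨f, hf, hq⟩ := Cfsg.Agent.H29.card_eq_pow_char (F := F) (p := p) rfl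
  rw [ZMod.natCast_eq_zero_iff, hq]
  exact dvd_pow_self _ hf.ne'

/-- a linear map of `p`-power order on a nonzero space has a nonzero fixed vector -/
theorem fix_ne_bot (p : ℕ) [Fact p.Prime] [CharP F p] (T : V →ₗ[F] V) (W : Submodule F V)
    (hW : ∀ v ∈ W, T v ∈ W) (hT : ∀ v ∈ W, (T ^ p) v = v) (hW0 : W ≠ ⊥) :
    W ⊓ LinearMap.ker (T - 1) ≠ ⊥ := by
  haveI : FiniteDimensional F V := Module.Finite.of_finite
  have h := fix_modEq T W hW p hT
  rw [card_cast_zero p] at h
  have hd : finrank F W ≠ 0 := fun h0 => hW0 (Submodule.finrank_eq_zero.1 h0)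
  rw [zero_pow hd] at h
  intro hb
  rw [hb, finrank_bot, pow_zero] at h
  exact zero_ne_one h

theorem mem_ker_sub_one (T : V →ₗ[F] V) (v : V) : v ∈ LinearMap.ker (T - 1) ↔ T v = v := by
  rw [LinearMap.mem_ker, LinearMap.sub_apply, sub_eq_zero]
  rfl

/-- commuting, coprime order: a vector fixed by one, moved by the other -/
theorem exists_fix_not_fix (p r : ℕ) [Fact p.Prime] [CharP F p] (A B : V →ₗ[F] V) (hA : A ^ r = 1) (hA1 : A ≠ 1)
    (hB : B ^ p = 1) (hAB : A * B = B * A) (hr : (r : F) ≠ 0) : ∃ v, B v = v ∧ A v ≠ v := by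
  have hcomm : ∀ x, B (A x) = A (B x) := fun x => (LinearMap.congr_fun hAB x).symm
  have hR : LinearMap.range (A - 1) ≠ ⊥ := by
    rw [Ne, LinearMap.range_eq_bot]
    intro h
    exact hA1 (sub_eq_zero.1 h)
  have h1 := fix_ne_bot p B (LinearMap.range (A - 1)) (by
      rintro _ ⟨x, rfl⟩
      refine ⟨B x, ?_⟩
      simp only [LinearMap.sub_apply, Module.End.one_apply, map_sub, hcomm]) (fun v _ => by rw [hB]; rfl) hR
  obtain ⟨v, hv, hv0⟩ := (Submodule.ne_bot_iff _).1 h1
  rw [Submodule.mem_inf, mem_ker_sub_one] at hv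
  obtain ⟨⟨w, hw⟩, hv2⟩ := hv
  refine ⟨v, hv2, ?_⟩
  intro hAv
  rw [LinearMap.sub_apply, Module.End.one_apply] at hw
  have h2 : ∀ i : ℕ, (A ^ i) w = w + (i : F) • v := by
    intro i
    induction i with
    | zero => simp
    | succ i ih =>
      rw [pow_succ', Module.End.mul_apply, ih, map_add, map_smul, hAv, Nat.cast_succ, add_smul, one_smul]
      have : A w = w + v := by rw [← hw]; abel
      rw [this]
      abel
  have h3 := h2 r
  rw [hA, Module.End.one_apply] at h3
  have h4 : (r : F) • v = 0 := by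
    have := h3.symm
    simpa using this
  rcases smul_eq_zero.1 h4 with h5 | h5
  · exact hr h5
  · exact hv0 h5

/-- normalising an eigenvalue -/
theorem twist (r : ℕ) (S U : V →ₗ[F] V) (c : F) (hc : c ≠ 0) (hS : S ^ r = c • 1) (hr0 : r ≠ 0) (w : V) (hw : w ≠ 0)
    (a : F) (hSw : S w = a • w) (hSU : S * U = U * S) (hSn : ∀ b : F, S ≠ b • 1) :
    ∃ t : V →ₗ[F] V, S = a • t ∧ a ≠ 0 ∧ t ^ r = 1 ∧ t ≠ 1 ∧ t * U = U * t ∧ t w = w := by
  have hpow : ∀ i : ℕ, (S ^ i) w = (a ^ i) • w := by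
    intro i
    induction i with
    | zero => simp
    | succ i ih =>
      rw [pow_succ', Module.End.mul_apply, ih, map_smul, hSw, pow_succ, mul_smul, smul_comm]
  have h1 := hpow r
  rw [hS] at h1
  have h2 : c • w = (a ^ r) • w := h1
  have h3 : c = a ^ r := by
    have h4 : (c - a ^ r) • w = 0 := by rw [sub_smul, h2, sub_self]
    rcases smul_eq_zero.1 h4 with h5 | h5
    · exact sub_eq_zero.1 h5
    · exact (hw h5).elim
  have ha : a ≠ 0 := by
    rintro rfl
    rw [zero_pow hr0] at h3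
    exact hc h3
  have hScoe : S = a • (a⁻¹ • S) := by rw [smul_smul, mul_inv_cancel₀ ha, one_smul]
  refine ⟨a⁻¹ • S, hScoe, ha, ?_, ?_, ?_, ?_⟩
  · rw [smul_pow, hS, h3, smul_smul, ← mul_pow, inv_mul_cancel₀ ha, one_pow, one_smul]
  · intro h
    apply hSn a
    rw [hScoe, h]
  · rw [smul_mul_assoc, mul_smul_comm, hSU]
  · rw [LinearMap.smul_apply, hSw, smul_smul, inv_mul_cancel₀ ha, one_smul]

/-- no commuting nonscalar when the unipotent fixes only a line -/
theorem no_fix_line (p r : ℕ) [Fact p.Prime] [CharP F p] (hr0 : (r : F) ≠ 0) (S U : V →ₗ[F] V) (c : F) (hc : c ≠ 0)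
    (hS : S ^ r = c • 1) (hU : U ^ p = 1) (hSU : S * U = U * S) (hSn : ∀ b : F, S ≠ b • 1)
    (hfr : finrank F (LinearMap.ker (U - 1)) = 1) : False := by
  obtain ⟨w', hw', hspan⟩ := finrank_eq_one_iff'.1 hfr
  have hw0 : (w' : V) ≠ 0 := fun h => hw' (Subtype.ext h)
  have hr00 : r ≠ 0 := by
    rintro rfl
    simp at hr0
  have hcomm : ∀ x, S (U x) = U (S x) := fun x => LinearMap.congr_fun hSU x
  have hwU : U w' = w' := (mem_ker_sub_one U _).1 w'.2
  have hSw : S w' ∈ LinearMap.ker (U - 1) := by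
    rw [mem_ker_sub_one, ← hcomm, hwU]
  obtain ⟨a, ha⟩ := hspan ⟨S w', hSw⟩
  have hSw2 : S w' = a • (w' : V) := (congrArg Subtype.val ha).symm
  obtain ⟨t, -, -, htr, ht1, htU, htw⟩ := twist r S U c hc hS hr00 (w' : V) hw0 a hSw2 hSU hSn
  obtain ⟨v, hv1, hv2⟩ := exists_fix_not_fix p r t U htr ht1 hU htU hr0
  obtain ⟨b, hb⟩ := hspan ⟨v, (mem_ker_sub_one U v).2 hv1⟩
  have hb2 : v = b • (w' : V) := (congrArg Subtype.val hb).symm
  apply hv2
  rw [hb2, map_smul, htw]

/-- dimension two -/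
theorem no_dim_two (p r : ℕ) [Fact p.Prime] [CharP F p] (hV : finrank F V = 2) (hr0 : (r : F) ≠ 0) (S U : V →ₗ[F] V) (c : F) (hc : c ≠ 0)
    (hS : S ^ r = c • 1) (hU : U ^ p = 1) (hU1 : U ≠ 1) (hSU : S * U = U * S) (hSn : ∀ b : F, S ≠ b • 1) : False := by
  haveI : FiniteDimensional F V := Module.Finite.of_finite
  apply no_fix_line p r hr0 S U c hc hS hU hSU hSn
  have h1 : (⊤ : Submodule F V) ⊓ LinearMap.ker (U - 1) ≠ ⊥ := by
    apply fix_ne_bot p U ⊤ (fun _ _ => Submodule.mem_top) (fun v _ => by rw [hU]; rfl)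
    intro h
    have := congrArg (fun W : Submodule F V => finrank F W) h
    simp [hV] at this
  rw [top_inf_eq] at h1
  have h2 : finrank F (LinearMap.ker (U - 1)) ≠ 0 := fun h => h1 (Submodule.finrank_eq_zero.1 h)
  have h3 : finrank F (LinearMap.ker (U - 1)) < finrank F V := by
    apply Submodule.finrank_lt
    intro h
    exact hU1 (sub_eq_zero.1 (LinearMap.ker_eq_top.1 h))
  omega

/-- dimension three, order three modulo scalars -/
theorem dim_three (p : ℕ) [Fact p.Prime] [CharP F p] (hV : finrank F V = 3) (h30 : (3 : F) ≠ 0) (S U : V →ₗ[F] V) (c : F) (hc : c ≠ 0)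
    (hS : S ^ 3 = c • 1) (hU : U ^ p = 1) (hU1 : U ≠ 1) (hSU : S * U = U * S) (hSn : ∀ b : F, S ≠ b • 1)
    (hdet : LinearMap.det S = 1) : ∃ a : F, a ^ 9 = 1 ∧ a ^ 3 ≠ 1 := by
  haveI : FiniteDimensional F V := Module.Finite.of_finite
  have hr0 : ((3 : ℕ) : F) ≠ 0 := by exact_mod_cast h30
  have h1 : (⊤ : Submodule F V) ⊓ LinearMap.ker (U - 1) ≠ ⊥ := by
    apply fix_ne_bot p U ⊤ (fun _ _ => Submodule.mem_top) (fun v _ => by rw [hU]; rfl)
    intro h
    have := congrArg (fun W : Submodule F V => finrank F W) h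
    simp [hV] at this
  rw [top_inf_eq] at h1
  have h2 : finrank F (LinearMap.ker (U - 1)) ≠ 0 := fun h => h1 (Submodule.finrank_eq_zero.1 h)
  have h3 : finrank F (LinearMap.ker (U - 1)) < finrank F V := by
    apply Submodule.finrank_lt
    intro h
    exact hU1 (sub_eq_zero.1 (LinearMap.ker_eq_top.1 h))
  have hne1 : finrank F (LinearMap.ker (U - 1)) ≠ 1 := fun h =>
    no_fix_line p 3 hr0 S U c hc hS hU hSU hSn h
  have hK2 : finrank F (LinearMap.ker (U - 1)) = 2 := by omega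
  have hrank := LinearMap.finrank_range_add_finrank_ker (U - 1)
  have hR1 : finrank F (LinearMap.range (U - 1)) = 1 := by omega
  have hcomm : ∀ x, S (U x) = U (S x) := fun x => LinearMap.congr_fun hSU x
  have hUR : ∀ x ∈ LinearMap.range (U - 1), U x ∈ LinearMap.range (U - 1) := by
    rintro _ ⟨x, rfl⟩
    exact ⟨U x, by simp only [LinearMap.sub_apply, Module.End.one_apply, map_sub]⟩
  have hSR : ∀ x ∈ LinearMap.range (U - 1), S x ∈ LinearMap.range (U - 1) := by
    rintro _ ⟨x, rfl⟩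
    exact ⟨S x, by simp only [LinearMap.sub_apply, Module.End.one_apply, map_sub, hcomm]⟩
  have hR0 : LinearMap.range (U - 1) ≠ ⊥ := by
    intro h
    rw [h, finrank_bot] at hR1
    omega
  obtain ⟨w, hw, hw0⟩ := (Submodule.ne_bot_iff _).1 (fix_ne_bot p U (LinearMap.range (U - 1)) hUR (fun v _ => by rw [hU]; rfl) hR0)
  rw [Submodule.mem_inf, mem_ker_sub_one] at hw
  obtain ⟨hwR, hwU⟩ := hw
  let w' : LinearMap.range (U - 1) := ⟨w, hwR⟩
  have hw'0 : w' ≠ 0 := fun h => hw0 (congrArg Subtype.val h)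
  have hspan := (finrank_eq_one_iff_of_nonzero' w' hw'0).1 hR1
  obtain ⟨a, ha⟩ := hspan ⟨S w, hSR w hwR⟩
  have hSw : S w = a • w := (congrArg Subtype.val ha).symm
  obtain ⟨t, hSt, ha0, htr, ht1, htU, htw⟩ := twist 3 S U c hc hS (by norm_num) w hw0 a hSw hSU hSn
  obtain ⟨v, hv1, hv2⟩ := exists_fix_not_fix p 3 t U htr ht1 hU htU hr0
  obtain ⟨v', hv'⟩ := hwR
  have hv'' : U v' = v' + w := by
    rw [← hv', LinearMap.sub_apply, Module.End.one_apply]
    abel
  have hv'K : v' ∉ LinearMap.ker (U - 1) := by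
    intro h
    rw [LinearMap.mem_ker] at h
    exact hw0 (by rw [← hv', h])
  have hcommt : ∀ x, t (U x) = U (t x) := fun x => LinearMap.congr_fun htU x
  let b : Fin 3 → V := ![w, v, v']
  have hLI : LinearIndependent F b := by
    rw [Fintype.linearIndependent_iff]
    intro g hg
    rw [Fin.sum_univ_three] at hg
    have h0 : b 0 = w := rfl
    have h1 : b 1 = v := rfl
    have h2 : b 2 = v' := rfl
    rw [h0, h1, h2] at hg
    have e1 := congrArg (⇑(U - 1 : V →ₗ[F] V)) hg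
    simp only [map_add, map_smul, map_zero, hv'] at e1
    have e2 : (U - 1) w = 0 := by rw [LinearMap.sub_apply, hwU, Module.End.one_apply, sub_self]
    have e3 : (U - 1) v = 0 := by rw [LinearMap.sub_apply, hv1, Module.End.one_apply, sub_self]
    rw [e2, e3, smul_zero, smul_zero, zero_add, zero_add] at e1
    have g2 : g 2 = 0 := (smul_eq_zero.1 e1).resolve_right hw0
    rw [g2, zero_smul, add_zero] at hg
    have e4 := congrArg (⇑(t - 1 : V →ₗ[F] V)) hg
    simp only [map_add, map_smul, map_zero] at e4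
    have e5 : (t - 1) w = 0 := by rw [LinearMap.sub_apply, htw, Module.End.one_apply, sub_self]
    rw [e5, smul_zero, zero_add] at e4
    have e6 : (t - 1) v ≠ 0 := by
      rw [LinearMap.sub_apply, Module.End.one_apply, sub_ne_zero]
      exact hv2
    have g1 : g 1 = 0 := (smul_eq_zero.1 e4).resolve_right e6
    rw [g1, zero_smul, add_zero] at hg
    have g0 : g 0 = 0 := (smul_eq_zero.1 hg).resolve_right hw0
    intro i
    fin_cases i
    · exact g0
    · exact g1
    · exact g2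
  let B := basisOfLinearIndependentOfCardEqFinrank hLI (by simp [hV])
  have hB0 : B 0 = w := by simp [B, b]
  have hB1 : B 1 = v := by simp [B, b]
  have hB2 : B 2 = v' := by simp [B, b]
  have hexp : ∀ x : V, x = B.repr x 0 • w + B.repr x 1 • v + B.repr x 2 • v' := by
    intro x
    conv_lhs => rw [← B.sum_repr x]
    rw [Fin.sum_univ_three, hB0, hB1, hB2]
  -- the image of `v`
  have hcoef : ∀ x : V, U x = x → B.repr x 2 = 0 := by
    intro x hx
    have e1 := hexp x
    have e2 := congrArg (⇑(U - 1 : V →ₗ[F] V)) e1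
    simp only [map_add, map_smul] at e2
    have e3 : (U - 1) w = 0 := by rw [LinearMap.sub_apply, hwU, Module.End.one_apply, sub_self]
    have e4 : (U - 1) v = 0 := by rw [LinearMap.sub_apply, hv1, Module.End.one_apply, sub_self]
    have e5 : (U - 1) x = 0 := by rw [LinearMap.sub_apply, hx, Module.End.one_apply, sub_self]
    rw [e3, e4, e5, hv', smul_zero, smul_zero, zero_add, zero_add] at e2
    exact (smul_eq_zero.1 e2.symm).resolve_right hw0
  have htv : U (t v) = t v := by rw [← hcommt, hv1]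
  have hc2 := hcoef _ htv
  set e := B.repr (t v) 0 with he
  set z := B.repr (t v) 1 with hz
  have htv2 : t v = e • w + z • v := by
    have := hexp (t v)
    rw [hc2, zero_smul, add_zero] at this
    exact this
  -- the image of `v'`
  set e' := B.repr (t v') 0 with he'
  set z' := B.repr (t v') 1 with hz'
  set y := B.repr (t v') 2 with hy
  have htv'2 : t v' = e' • w + z' • v + y • v' := hexp (t v')
  have hy1 : y = 1 := by
    have e1 := hcommt v'
    rw [hv'', map_add, htw, htv'2] at e1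
    simp only [map_add, map_smul, hwU, hv1, hv''] at e1
    have e2 : y • w = w := by
      have e3 : e' • w + z' • v + y • v' + w = e' • w + z' • v + y • (v' + w) := e1
      rw [smul_add] at e3
      have e4 : w = y • w := by
        have e5 : e' • w + z' • v + y • v' + w = e' • w + z' • v + y • v' + y • w := by
          rw [e3]; abel
        exact add_left_cancel e5
      exact e4.symm
    have e3 : (y - 1) • w = 0 := by rw [sub_smul, one_smul, e2, sub_self]
    exact sub_eq_zero.1 ((smul_eq_zero.1 e3).resolve_right hw0)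
  rw [hy1, one_smul] at htv'2
  -- the cube
  have htv3 : (t ^ 3) v = (e * z ^ 2 + e * z + e) • w + (z ^ 3) • v := by
    have h2 : (t ^ 3) v = t (t (t v)) := rfl
    rw [h2, htv2]
    simp only [map_add, map_smul, htw, htv2]
    simp only [smul_add, smul_smul, add_smul]
    ring_nf
    abel_nf
  have hpair : ∀ x y : F, x • w + y • v = 0 → x = 0 ∧ y = 0 := by
    intro x y hxy
    have h4 := Fintype.linearIndependent_iff.1 hLI ![x, y, 0] (by
      rw [Fin.sum_univ_three]
      change x • w + y • v + (0 : F) • v' = 0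
      rw [zero_smul, add_zero, hxy])
    exact ⟨h4 0, h4 1⟩
  have htr3 : (t ^ 3) v = v := by rw [htr]; rfl
  rw [htv3] at htr3
  have hp2 := hpair (e * z ^ 2 + e * z + e) (z ^ 3 - 1) (by
    rw [sub_smul, one_smul, ← add_sub_assoc, htr3, sub_self])
  obtain ⟨hp3, hz3⟩ := hp2
  have hz3' : z ^ 3 = 1 := sub_eq_zero.1 hz3
  have hz1 : z ≠ 1 := by
    intro h
    rw [h] at hp3
    have h5 : (3 : F) * e = 0 := by
      rw [← hp3]
      ring
    have he0 : e = 0 := (mul_eq_zero.1 h5).resolve_left h30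
    apply hv2
    rw [htv2, he0, h, zero_smul, zero_add, one_smul]
  have hmat : LinearMap.toMatrix B B t = !![1, e, e'; 0, z, z'; 0, 0, 1] := by
    have h0 : t (B 0) = B 0 := by rw [hB0, htw]
    have h1 : t (B 1) = e • B 0 + z • B 1 := by rw [hB0, hB1, htv2]
    have h2 : t (B 2) = e' • B 0 + z' • B 1 + B 2 := by rw [hB0, hB1, hB2, htv'2]
    ext i j
    rw [LinearMap.toMatrix_apply]
    fin_cases j
    · change B.repr (t (B 0)) i = _
      rw [h0, B.repr_self]
      fin_cases i <;> simp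
    · change B.repr (t (B 1)) i = _
      rw [h1, map_add, map_smul, map_smul, B.repr_self, B.repr_self]
      fin_cases i <;> simp
    · change B.repr (t (B 2)) i = _
      rw [h2, map_add, map_add, map_smul, map_smul, B.repr_self, B.repr_self, B.repr_self]
      fin_cases i <;> simp
  have hdet2 : LinearMap.det t = z := by
    rw [← LinearMap.det_toMatrix B, hmat, Matrix.det_fin_three]
    simp
  have hdet3 : a ^ 3 * z = 1 := by
    rw [hSt, LinearMap.det_smul, hV, hdet2] at hdet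
    exact hdet
  refine ⟨a, ?_, ?_⟩
  · have h6 : (a ^ 3 * z) ^ 3 = 1 := by rw [hdet3, one_pow]
    rw [mul_pow, hz3', mul_one, ← pow_mul] at h6
    exact h6
  · intro h
    rw [h, one_mul] at hdet3
    exact hz1 hdet3

end lin

section mat

variable {F : Type*} [Field F] [Fintype F]

theorem arith_rp (n c b d k : ℕ) (h2k : 2 ≤ k) (hc : c < n) (hb : b < n) (h1 : k ∣ n - c) (h2 : k ∣ b - d)
    (hdc : d ≤ c) (hdb : d < b) (h4 : c ≤ 1 → d = c) : k + 2 ≤ n := by
  by_contra hlt
  have e1 : k ≤ n - c := Nat.le_of_dvd (by omega) h1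
  have e2 : k ≤ b - d := Nat.le_of_dvd (by omega) h2
  have e3 : c ≤ 1 := by omega
  have e4 := h4 e3
  obtain ⟨j, hj⟩ := h1
  have hj0 : j ≠ 0 := by
    rintro rfl
    omega
  have hj1 : j ≠ 1 := by
    rintro rfl
    omega
  have hj2 : 2 ≤ j := by omega
  have e5 : k * 2 ≤ k * j := Nat.mul_le_mul_left _ hj2
  omega

theorem dims_rp (p r : ℕ) [Fact p.Prime] [Fact r.Prime] [CharP F p] {n : ℕ} (A B : Matrix (Fin n) (Fin n) F)
    (hA : A ^ r = 1) (hB : B ^ p = 1) (hAB : A * B = B * A) (hA1 : A ≠ 1) (hB1 : B ≠ 1)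
    (hr : ((Fintype.card F : ℕ) : ZMod r) ≠ 0) (hr0 : (r : F) ≠ 0)
    (h2k : 2 ≤ orderOf ((Fintype.card F : ℕ) : ZMod r)) :
    orderOf ((Fintype.card F : ℕ) : ZMod r) + 2 ≤ n := by
  classical
  let φ := Matrix.toLinAlgEquiv' (R := F) (n := Fin n)
  let TA : (Fin n → F) →ₗ[F] (Fin n → F) := φ A
  let TB : (Fin n → F) →ₗ[F] (Fin n → F) := φ B
  have hTA : TA ^ r = 1 := by
    change (φ A) ^ r = 1
    rw [← map_pow, hA, map_one]
  have hTB : TB ^ p = 1 := by
    change (φ B) ^ p = 1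
    rw [← map_pow, hB, map_one]
  have hTAB : TA * TB = TB * TA := by
    change φ A * φ B = φ B * φ A
    rw [← map_mul, ← map_mul, hAB]
  have hcomm : ∀ v, TA (TB v) = TB (TA v) := fun v => LinearMap.congr_fun hTAB v
  have hTA1 : TA ≠ 1 := by
    intro h
    apply hA1
    apply φ.injective
    rw [map_one]
    exact h
  let Fa := LinearMap.ker (TA - 1)
  let Fb := LinearMap.ker (TB - 1)
  have h1 := fix_dvd TA ⊤ (fun v _ => Submodule.mem_top) r hr (fun v _ => by rw [hTA]; rfl)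
  have h4 := fix_dvd TA Fb (fun v hv => by
      rw [mem_ker_sub_one] at hv ⊢
      rw [← hcomm, hv]) r hr (fun v _ => by rw [hTA]; rfl)
  rw [top_inf_eq, finrank_top] at h1
  have hfr : finrank F (Fin n → F) = n := by simp
  rw [hfr] at h1
  have hFF : Fb ⊓ Fa = Fa ⊓ Fb := inf_comm _ _
  change _ ∣ _ - finrank F ↥(Fb ⊓ Fa) at h4
  rw [hFF] at h4
  have hlt : ∀ (M : Matrix (Fin n) (Fin n) F), M ≠ 1 →
      finrank F ↥(LinearMap.ker (φ M - 1)) < n := by
    intro M hM
    have h5 : finrank F ↥(LinearMap.ker (φ M - 1)) < finrank F (Fin n → F) := by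
      apply Submodule.finrank_lt
      intro htop
      apply hM
      apply φ.injective
      rw [map_one]
      have : φ M - 1 = 0 := LinearMap.ker_eq_top.1 htop
      exact sub_eq_zero.1 this
    rwa [hfr] at h5
  obtain ⟨v, hv1, hv2⟩ := exists_fix_not_fix p r TA TB hTA hTA1 hTB hTAB hr0
  have hdb : finrank F ↥(Fa ⊓ Fb) < finrank F Fb := by
    apply Submodule.finrank_lt_finrank_of_lt
    refine lt_of_le_of_ne inf_le_right ?_
    intro h
    have hv3 : v ∈ Fa ⊓ Fb := by
      rw [h]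
      exact (mem_ker_sub_one TB v).2 hv1
    exact hv2 ((mem_ker_sub_one TA v).1 hv3.1)
  have hdc : finrank F ↥(Fa ⊓ Fb) ≤ finrank F Fa := Submodule.finrank_mono inf_le_left
  refine arith_rp n (finrank F Fa) (finrank F Fb) (finrank F ↥(Fa ⊓ Fb)) _ h2k (hlt A hA1) (hlt B hB1) h1 h4 hdc hdb ?_
  intro hle
  by_cases h0 : finrank F Fa = 0
  · omega
  have hF0 : Fa ≠ ⊥ := fun h => h0 (by rw [h, finrank_bot])
  have h5 := fix_ne_bot p TB Fa (fun v hv => by
      rw [mem_ker_sub_one] at hv ⊢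
      rw [hcomm, hv]) (fun v _ => by rw [hTB]; rfl) hF0
  have h6 : finrank F ↥(Fa ⊓ Fb) ≠ 0 := fun h => h5 (Submodule.finrank_eq_zero.1 h)
  omega

theorem eq_one_of_pow_char (p : ℕ) [Fact p.Prime] [CharP F p] (x : F) (hx : x ^ p = 1) : x = 1 := by
  have h1 := frobenius_inj F p
  apply h1
  rw [frobenius_def, hx, map_one]

theorem scalar_eq_smul_one (ι : Type*) [Fintype ι] [DecidableEq ι] (c : F) :
    Matrix.scalar ι c = c • (1 : Matrix ι ι F) := by
  ext i j
  by_cases h : i = j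
  · subst h
    simp
  · simp [h]

/-- block matrices -/
theorem exists_blk (d m n : ℕ) (h : d + m = n) :
    ∃ f : GL (Fin d) F × GL (Fin m) F →* GL (Fin n) F, Function.Injective f ∧
      (∀ x, ((f x : GL (Fin n) F) : Matrix (Fin n) (Fin n) F).det =
        (x.1 : Matrix (Fin d) (Fin d) F).det * (x.2 : Matrix (Fin m) (Fin m) F).det) ∧
      (∀ x (c : F), ((f x : GL (Fin n) F) : Matrix (Fin n) (Fin n) F) = Matrix.scalar (Fin n) c ↔
        ((x.1 : Matrix (Fin d) (Fin d) F) = Matrix.scalar (Fin d) c ∧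
          (x.2 : Matrix (Fin m) (Fin m) F) = Matrix.scalar (Fin m) c)) := by
  classical
  let e : Fin d ⊕ Fin m ≃ Fin n := finSumFinEquiv.trans (finCongr h)
  let b : GL (Fin d) F × GL (Fin m) F →* (Matrix (Fin d ⊕ Fin m) (Fin d ⊕ Fin m) F)ˣ :=
    { toFun := fun p => ⟨Matrix.fromBlocks (p.1 : Matrix (Fin d) (Fin d) F) 0 0 (p.2 : Matrix (Fin m) (Fin m) F),
        Matrix.fromBlocks ((p.1⁻¹ : GL (Fin d) F) : Matrix (Fin d) (Fin d) F) 0 0 ((p.2⁻¹ : GL (Fin m) F) : Matrix (Fin m) (Fin m) F),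
        by simp [Matrix.fromBlocks_multiply], by simp [Matrix.fromBlocks_multiply]⟩
      map_one' := by
        apply Units.ext
        simp
      map_mul' := by
        intro a b
        apply Units.ext
        simp [Matrix.fromBlocks_multiply] }
  let φ := Matrix.reindexAlgEquiv F F e
  have hcoe : ∀ x : GL (Fin d) F × GL (Fin m) F, (((Units.map (φ : Matrix (Fin d ⊕ Fin m) (Fin d ⊕ Fin m) F →* Matrix (Fin n) (Fin n) F)).comp b) x : Matrix (Fin n) (Fin n) F) =
      φ (Matrix.fromBlocks (x.1 : Matrix (Fin d) (Fin d) F) 0 0 (x.2 : Matrix (Fin m) (Fin m) F)) := fun x => rfl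
  have hscal : ∀ c : F, φ (Matrix.fromBlocks (Matrix.scalar (Fin d) c) 0 0 (Matrix.scalar (Fin m) c)) = Matrix.scalar (Fin n) c := by
    intro c
    have h1 : Matrix.fromBlocks (Matrix.scalar (Fin d) c) 0 0 (Matrix.scalar (Fin m) c) = c • (1 : Matrix (Fin d ⊕ Fin m) (Fin d ⊕ Fin m) F) := by
      rw [scalar_eq_smul_one, scalar_eq_smul_one, ← Matrix.fromBlocks_one, Matrix.fromBlocks_smul]
      simp only [smul_zero]
    rw [h1, map_smul, map_one, scalar_eq_smul_one]
  refine ⟨(Units.map (φ : Matrix (Fin d ⊕ Fin m) (Fin d ⊕ Fin m) F →* Matrix (Fin n) (Fin n) F)).comp b, ?_, ?_, ?_⟩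
  · intro p p' hpp
    have h1 := congrArg (fun u : (Matrix (Fin n) (Fin n) F)ˣ => (u : Matrix (Fin n) (Fin n) F)) hpp
    have h2 : Matrix.fromBlocks (p.1 : Matrix (Fin d) (Fin d) F) 0 0 (p.2 : Matrix (Fin m) (Fin m) F) =
        Matrix.fromBlocks (p'.1 : Matrix (Fin d) (Fin d) F) 0 0 (p'.2 : Matrix (Fin m) (Fin m) F) :=
      φ.injective h1
    obtain ⟨e1, -, -, e4⟩ := Matrix.fromBlocks_inj.1 h2
    exact Prod.ext (Units.ext e1) (Units.ext e4)
  · intro x
    rw [hcoe]
    have h1 : φ (Matrix.fromBlocks (x.1 : Matrix (Fin d) (Fin d) F) 0 0 (x.2 : Matrix (Fin m) (Fin m) F)) =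
      (Matrix.fromBlocks (x.1 : Matrix (Fin d) (Fin d) F) 0 0 (x.2 : Matrix (Fin m) (Fin m) F)).submatrix e.symm e.symm := rfl
    rw [h1, Matrix.det_submatrix_equiv_self, Matrix.det_fromBlocks_zero₁₂]
  · intro x c
    rw [hcoe, ← hscal c]
    constructor
    · intro h1
      obtain ⟨e1, -, -, e4⟩ := Matrix.fromBlocks_inj.1 (φ.injective h1)
      exact ⟨e1, e4⟩
    · rintro ⟨e1, e4⟩
      rw [e1, e4]

/-- the unipotent block -/
theorem exists_J (p : ℕ) [Fact p.Prime] [CharP F p] :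
    ∃ J : GL (Fin 2) F, orderOf J = p ∧ (J : Matrix (Fin 2) (Fin 2) F).det = 1 ∧
      ∀ (m : ℕ) (c : F), ((J ^ m : GL (Fin 2) F) : Matrix (Fin 2) (Fin 2) F) = Matrix.scalar (Fin 2) c → c = 1 ∧ p ∣ m := by
  classical
  have hd : p ∣ Nat.card (GL (Fin 2) F) := by
    rw [Matrix.card_GL_field 2]
    have h1 : p ∣ (Fintype.card F ^ 2 - Fintype.card F ^ ((1 : Fin 2) : ℕ)) := by
      have h2 : ((Fintype.card F ^ 2 - Fintype.card F ^ ((1 : Fin 2) : ℕ) : ℕ)) = Fintype.card F * (Fintype.card F - 1) := by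
        simp only [Fin.val_one, pow_one, Nat.mul_sub, mul_one, sq]
      rw [h2]
      exact Dvd.dvd.mul_right ((ZMod.natCast_eq_zero_iff _ _).1 (card_cast_zero p)) _
    exact h1.trans (Finset.dvd_prod_of_mem _ (Finset.mem_univ _))
  obtain ⟨J, hJ⟩ := exists_prime_orderOf_dvd_card' p hd
  have hJp : J ^ p = 1 := by rw [← hJ, pow_orderOf_eq_one]
  refine ⟨J, hJ, ?_, ?_⟩
  · apply eq_one_of_pow_char p
    rw [← Matrix.det_pow, ← Units.val_pow_eq_pow_val, hJp]
    simp
  · intro m c hm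
    have h1 : ((J ^ m) ^ p : GL (Fin 2) F) = 1 := by
      rw [← pow_mul, mul_comm, pow_mul, hJp, one_pow]
    have h2 := congrArg (fun u : GL (Fin 2) F => (u : Matrix (Fin 2) (Fin 2) F)) h1
    simp only [Units.val_pow_eq_pow_val (J ^ m), Units.val_one] at h2
    rw [hm, ← map_pow] at h2
    have h3 := congrFun (congrFun h2 0) 0
    have h4 : c ^ p = 1 := by simpa using h3
    have hc := eq_one_of_pow_char p c h4
    refine ⟨hc, ?_⟩
    rw [← hJ, orderOf_dvd_iff_pow_eq_one]
    apply Units.ext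
    rw [hm, hc]
    simp

/-- detecting the order in the projective group -/
theorem psl_of_gl2 {n t : ℕ} (hn : 1 ≤ n) (x : GL (Fin n) F) (hdet : (x : Matrix (Fin n) (Fin n) F).det = 1)
    (hx : ∀ m : ℕ, (∃ c : F, ((x ^ m : GL (Fin n) F) : Matrix (Fin n) (Fin n) F) = Matrix.scalar (Fin n) c) ↔ t ∣ m) :
    ∃ y : Matrix.ProjectiveSpecialLinearGroup (Fin n) F, orderOf y = t := by
  classical
  haveI : Nonempty (Fin n) := ⟨⟨0, hn⟩⟩
  let x' : Matrix.SpecialLinearGroup (Fin n) F := ⟨x, hdet⟩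
  have hcoe : ∀ m : ℕ, ((x' ^ m : Matrix.SpecialLinearGroup (Fin n) F) : Matrix (Fin n) (Fin n) F) = ((x ^ m : GL (Fin n) F) : Matrix (Fin n) (Fin n) F) := by
    intro m
    rw [Matrix.SpecialLinearGroup.coe_pow, Units.val_pow_eq_pow_val]
  have hiff : ∀ m : ℕ, (QuotientGroup.mk x' : Matrix.ProjectiveSpecialLinearGroup (Fin n) F) ^ m = 1 ↔ t ∣ m := by
    intro m
    rw [← QuotientGroup.mk_pow, QuotientGroup.eq_one_iff, Matrix.SpecialLinearGroup.mem_center_iff, ← hx]
    constructor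
    · rintro ⟨c, -, hc⟩
      exact ⟨c, by rw [← hcoe, ← hc]⟩
    · rintro ⟨c, hc⟩
      refine ⟨c, ?_, ?_⟩
      · have h1 := (x' ^ m).2
        have h2 : ((x' ^ m : Matrix.SpecialLinearGroup (Fin n) F) : Matrix (Fin n) (Fin n) F) = Matrix.scalar (Fin n) c := by
          rw [hcoe, hc]
        rw [h2] at h1
        simpa using h1
      · rw [hcoe, hc]
  refine ⟨QuotientGroup.mk x', ?_⟩
  apply Nat.dvd_antisymm
  · rw [orderOf_dvd_iff_pow_eq_one, hiff]
  · rw [← hiff, pow_orderOf_eq_one]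

/-- elements of order `r * p` from a block of determinant one -/
theorem exists_rp (p : ℕ) [Fact p.Prime] [CharP F p] {d n r : ℕ} (hr : r.Prime) (hrp : r ≠ p) (B : GL (Fin d) F) (hB : orderOf B = r)
    (hdet : (B : Matrix (Fin d) (Fin d) F).det = 1) (hd : d + 2 ≤ n) :
    ∃ y : Matrix.ProjectiveSpecialLinearGroup (Fin n) F, orderOf y = r * p := by
  classical
  obtain ⟨J, hJ, hJdet, hJs⟩ := exists_J (F := F) p
  obtain ⟨f₁, hf₁, hf₁det, hf₁s⟩ := exists_blk (F := F) 2 (n - d - 2) (n - d) (by omega)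
  obtain ⟨f, hf, hfdet, hfs⟩ := exists_blk (F := F) d (n - d) n (by omega)
  let x := f (B, f₁ (J, 1))
  have hcop : r.Coprime p := (Nat.coprime_primes hr Fact.out).2 hrp
  have hord : orderOf x = r * p := by
    change orderOf (f (B, f₁ (J, 1))) = _
    rw [orderOf_injective f hf, Prod.orderOf_mk, orderOf_injective f₁ hf₁, Prod.orderOf_mk, hJ, hB]
    simp [hcop.lcm_eq_mul]
  have hpow : ∀ m : ℕ, x ^ m = f (B ^ m, f₁ (J ^ m, 1)) := by
    intro m
    change (f (B, f₁ (J, 1))) ^ m = _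
    rw [← map_pow, Prod.pow_mk, ← map_pow, Prod.pow_mk, one_pow]
  apply psl_of_gl2 (by omega) x
  · change ((f (B, f₁ (J, 1)) : GL (Fin n) F) : Matrix (Fin n) (Fin n) F).det = 1
    rw [hfdet]
    simp only
    rw [hf₁det, hdet, hJdet]
    simp
  · intro m
    rw [← hord]
    rw [orderOf_dvd_iff_pow_eq_one]
    constructor
    · rintro ⟨c, hc⟩
      rw [hpow] at hc ⊢
      have h1 := ((hfs _ c).1 hc).2
      have h2 := ((hf₁s _ c).1 h1).1
      obtain ⟨h3, h4⟩ := hJs m c h2
      apply Units.ext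
      rw [hc, h3]
      simp
    · intro h
      refine ⟨1, ?_⟩
      rw [h]
      simp

/-- the twisted block in degree three -/
theorem exists_rp3 (p : ℕ) [Fact p.Prime] [CharP F p] {r : ℕ} (hr : r.Prime) (hrp : r ≠ p) (a : Fˣ) (ha : orderOf (a ^ 3) = r) :
    ∃ y : Matrix.ProjectiveSpecialLinearGroup (Fin 3) F, orderOf y = r * p := by
  classical
  obtain ⟨J, hJ, hJdet, hJs⟩ := exists_J (F := F) p
  obtain ⟨f, hf, hfdet, hfs⟩ := exists_blk (F := F) 2 1 3 rfl
  have hcop : r.Coprime p := (Nat.coprime_primes hr Fact.out).2 hrp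
  let B : GL (Fin 2) F := Matrix.GeneralLinearGroup.scalar (Fin 2) a * J
  let C : GL (Fin 1) F := Matrix.GeneralLinearGroup.scalar (Fin 1) ((a⁻¹) ^ 2)
  let x := f (B, C)
  have hBpow : ∀ m : ℕ, B ^ m = Matrix.GeneralLinearGroup.scalar (Fin 2) (a ^ m) * J ^ m := by
    intro m
    have hc : Commute (Matrix.GeneralLinearGroup.scalar (Fin 2) a) J := Matrix.GeneralLinearGroup.scalar_commute a J
    change (Matrix.GeneralLinearGroup.scalar (Fin 2) a * J) ^ m = _
    rw [hc.mul_pow, map_pow]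
  have hCpow : ∀ m : ℕ, C ^ m = Matrix.GeneralLinearGroup.scalar (Fin 1) (((a⁻¹) ^ 2) ^ m) := by
    intro m
    change (Matrix.GeneralLinearGroup.scalar (Fin 1) ((a⁻¹) ^ 2)) ^ m = _
    exact (map_pow _ _ _).symm
  have hpow : ∀ m : ℕ, x ^ m = f (B ^ m, C ^ m) := by
    intro m
    change (f (B, C)) ^ m = _
    rw [← map_pow, Prod.pow_mk]
  apply psl_of_gl2 (by omega) x
  · change ((f (B, C) : GL (Fin 3) F) : Matrix (Fin 3) (Fin 3) F).det = 1
    rw [hfdet]
    simp only [B, C, Units.val_mul, Matrix.det_mul, hJdet, Matrix.GeneralLinearGroup.coe_scalar, Matrix.scalar_apply, Matrix.det_diagonal]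
    simp
  · intro m
    have hsplit : ∀ c : F, ((x ^ m : GL (Fin 3) F) : Matrix (Fin 3) (Fin 3) F) = Matrix.scalar (Fin 3) c ↔
        (((Matrix.GeneralLinearGroup.scalar (Fin 2) (a ^ m) * J ^ m : GL (Fin 2) F) : Matrix (Fin 2) (Fin 2) F) = Matrix.scalar (Fin 2) c ∧
         ((Matrix.GeneralLinearGroup.scalar (Fin 1) (((a⁻¹) ^ 2) ^ m) : GL (Fin 1) F) : Matrix (Fin 1) (Fin 1) F) = Matrix.scalar (Fin 1) c) := by
      intro c
      rw [hpow, hfs, hBpow, hCpow]
    constructor
    · rintro ⟨c, hc⟩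
      obtain ⟨h1, h2⟩ := (hsplit c).1 hc
      have ham : (a ^ m : Fˣ) * (a⁻¹ ^ m : Fˣ) = 1 := by rw [← mul_pow, mul_inv_cancel, one_pow]
      have h3 : ((J ^ m : GL (Fin 2) F) : Matrix (Fin 2) (Fin 2) F) = Matrix.scalar (Fin 2) ((a⁻¹ ^ m : Fˣ) * c) := by
        have h4 : ((Matrix.GeneralLinearGroup.scalar (Fin 2) (a⁻¹ ^ m) * (Matrix.GeneralLinearGroup.scalar (Fin 2) (a ^ m) * J ^ m) : GL (Fin 2) F) : Matrix (Fin 2) (Fin 2) F) =
            Matrix.scalar (Fin 2) ((a⁻¹ ^ m : Fˣ) * c) := by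
          rw [Units.val_mul, h1, Matrix.GeneralLinearGroup.coe_scalar, map_mul]
        rw [← mul_assoc, ← map_mul, mul_comm (a⁻¹ ^ m), ham, map_one, one_mul] at h4
        exact h4
      obtain ⟨h5, h6⟩ := hJs m _ h3
      have hc2 : c = ((a ^ m : Fˣ) : F) := by
        have h7 := congrArg (fun t => ((a ^ m : Fˣ) : F) * t) h5
        change ((a ^ m : Fˣ) : F) * (((a⁻¹ ^ m : Fˣ) : F) * c) = ((a ^ m : Fˣ) : F) * 1 at h7
        rw [← mul_assoc, ← Units.val_mul, ham] at h7
        simpa using h7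
      have h8 := congrFun (congrFun h2 0) 0
      rw [Matrix.GeneralLinearGroup.coe_scalar] at h8
      simp only [Matrix.scalar_apply, Matrix.diagonal_apply_eq] at h8
      rw [hc2] at h8
      have h9 : ((a⁻¹) ^ 2) ^ m = a ^ m := Units.ext h8
      have h10 : (a ^ 3) ^ m = 1 := by
        have h11 : ((a ^ 2) ^ m) * ((a⁻¹ ^ 2) ^ m) = 1 := by
          rw [← mul_pow, ← mul_pow, mul_inv_cancel, one_pow, one_pow]
        rw [h9] at h11
        rw [← h11, ← pow_mul, ← pow_mul, ← pow_add]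
        congr 1
        ring
      have h12 : r ∣ m := by
        rw [← ha]
        exact orderOf_dvd_of_pow_eq_one h10
      exact hcop.mul_dvd_of_dvd_of_dvd h12 h6
    · intro h
      obtain ⟨h12, h6⟩ := And.intro (dvd_of_mul_right_dvd h) (dvd_of_mul_left_dvd h)
      refine ⟨((a ^ m : Fˣ) : F), (hsplit _).2 ⟨?_, ?_⟩⟩
      · have hJm : J ^ m = 1 := by
          rw [← orderOf_dvd_iff_pow_eq_one, hJ]
          exact h6
        rw [hJm, mul_one, Matrix.GeneralLinearGroup.coe_scalar]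
      · have h10 : (a ^ 3) ^ m = 1 := by
          rw [← orderOf_dvd_iff_pow_eq_one, ha]
          exact h12
        have h9 : ((a⁻¹) ^ 2) ^ m = a ^ m := by
          have h11 : ((a ^ 2) ^ m) * ((a⁻¹ ^ 2) ^ m) = 1 := by
            rw [← mul_pow, ← mul_pow, mul_inv_cancel, one_pow, one_pow]
          have h13 : (a ^ 3) ^ m = (a ^ 2) ^ m * a ^ m := by
            rw [← pow_mul, ← pow_mul, ← pow_add]
            congr 1
            ring
          rw [h13] at h10
          exact mul_left_cancel (h11.trans h10.symm)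
        rw [Matrix.GeneralLinearGroup.coe_scalar, h9]

end mat

end Cfsg.Agent.H11.PrimeGr
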