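import Cfsg.Agent.Lib.H11.SpReg

/-! Existence of regular unipotent elements in `Sp_{2m}`, odd characteristic. -/

set_option autoImplicit false
set_option linter.unusedSectionVars false
set_option linter.unusedVariables false

namespace Cfsg.Agent.H11.RegSp

open Module Matrix Cfsg.Agent.H11

variable {F : Type*} [Field F] {k : ℕ}

/-- the regular nilpotent model -/
noncomputable def tauL (k : ℕ) (F : Type*) [Field F] : (Fin (k + 1) ⊕ Fin (k + 1) → F) →ₗ[F] (Fin (k + 1) ⊕ Fin (k + 1) → F) where
  toFun x := Sum.elim (Fin.cons 0 (fun i => x (Sum.inl i.castSucc)))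
    (Fin.snoc (fun i => -x (Sum.inr i.succ)) (x (Sum.inl (Fin.last k))))
  map_add' x y := by
    funext i
    rcases i with i | i
    · refine Fin.cases ?_ (fun j => ?_) i
      · simp
      · simp
    · refine Fin.lastCases ?_ (fun j => ?_) i
      · simp
      · simp only [Sum.elim_inr, Fin.snoc_castSucc, Pi.add_apply]
        ring
  map_smul' c x := by
    funext i
    rcases i with i | i
    · refine Fin.cases ?_ (fun j => ?_) i
      · simp
      · simp
    · refine Fin.lastCases ?_ (fun j => ?_) i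
      · simp
      · simp

theorem tau_l0 (x : Fin (k + 1) ⊕ Fin (k + 1) → F) : tauL k F x (Sum.inl 0) = 0 := rfl
theorem tau_ls (x : Fin (k + 1) ⊕ Fin (k + 1) → F) (i : Fin k) : tauL k F x (Sum.inl i.succ) = x (Sum.inl i.castSucc) := rfl
theorem tau_rl (x : Fin (k + 1) ⊕ Fin (k + 1) → F) : tauL k F x (Sum.inr (Fin.last k)) = x (Sum.inl (Fin.last k)) := by
  change Fin.snoc (α := fun _ => F) (fun i => -x (Sum.inr (Fin.succ i))) (x (Sum.inl (Fin.last k))) (Fin.last k) = _
  simp
theorem tau_rs (x : Fin (k + 1) ⊕ Fin (k + 1) → F) (i : Fin k) : tauL k F x (Sum.inr i.castSucc) = -x (Sum.inr i.succ) := by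
  change Fin.snoc (α := fun _ => F) (fun i => -x (Sum.inr (Fin.succ i))) (x (Sum.inl (Fin.last k))) (Fin.castSucc i) = _
  simp

theorem tau_anti (x y : Fin (k + 1) ⊕ Fin (k + 1) → F) :
    Cfsg.sympForm (k + 1) F (tauL k F x) y = - Cfsg.sympForm (k + 1) F x (tauL k F y) := by
  rw [sympForm_eq_sum, sympForm_eq_sum, Finset.sum_sub_distrib, Finset.sum_sub_distrib]
  rw [Fin.sum_univ_castSucc (fun i => tauL k F x (Sum.inr i) * y (Sum.inl i))]
  rw [Fin.sum_univ_succ (fun i => tauL k F x (Sum.inl i) * y (Sum.inr i))]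
  rw [Fin.sum_univ_succ (fun i => x (Sum.inr i) * tauL k F y (Sum.inl i))]
  rw [Fin.sum_univ_castSucc (fun i => x (Sum.inl i) * tauL k F y (Sum.inr i))]
  simp only [tau_l0, tau_ls, tau_rl, tau_rs]
  have e1 : ∑ i : Fin k, -x (Sum.inr i.succ) * y (Sum.inl i.castSucc) = - ∑ i : Fin k, x (Sum.inr i.succ) * y (Sum.inl i.castSucc) := by
    rw [← Finset.sum_neg_distrib]
    apply Finset.sum_congr rfl
    intro i _
    ring
  have e2 : ∑ i : Fin k, x (Sum.inl i.castSucc) * -y (Sum.inr i.succ) = - ∑ i : Fin k, x (Sum.inl i.castSucc) * y (Sum.inr i.succ) := by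
    rw [← Finset.sum_neg_distrib]
    apply Finset.sum_congr rfl
    intro i _
    ring
  rw [e1, e2]
  ring

/-- the position on the chain -/
def pos : Fin (k + 1) ⊕ Fin (k + 1) → ℕ := Sum.elim (fun i => (i : ℕ)) (fun i => 2 * (k + 1) - 1 - (i : ℕ))

theorem tau_pow_zero (j : ℕ) (x : Fin (k + 1) ⊕ Fin (k + 1) → F) (i : Fin (k + 1) ⊕ Fin (k + 1)) (hi : pos i < j) :
    ((tauL k F) ^ j) x i = 0 := by
  induction j generalizing i with
  | zero => omega
  | succ j ih =>
    rw [pow_succ', Module.End.mul_apply]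
    rcases i with i | i
    · revert hi
      refine Fin.cases ?_ (fun l => ?_) i
      · intro _
        exact tau_l0 _
      · intro hi
        rw [tau_ls]
        apply ih
        simp only [pos, Sum.elim_inl, Fin.val_succ, Fin.val_castSucc] at hi ⊢
        omega
    · revert hi
      refine Fin.lastCases ?_ (fun l => ?_) i
      · intro hi
        rw [tau_rl]
        apply ih
        simp only [pos, Sum.elim_inl, Sum.elim_inr, Fin.val_last] at hi ⊢
        omega
      · intro hi
        rw [tau_rs, ih _ ?_, neg_zero]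
        simp only [pos, Sum.elim_inr, Fin.val_succ, Fin.val_castSucc] at hi ⊢
        have := l.2
        omega

theorem pos_lt (i : Fin (k + 1) ⊕ Fin (k + 1)) : pos i < 2 * (k + 1) := by
  rcases i with i | i
  · simp only [pos, Sum.elim_inl]
    have := i.2
    omega
  · simp only [pos, Sum.elim_inr]
    have := i.2
    omega

theorem tau_nil : (tauL k F) ^ (2 * (k + 1)) = 0 := by
  apply LinearMap.ext
  intro x
  funext i
  exact tau_pow_zero _ x i (pos_lt i)

theorem tau_ker : finrank F (LinearMap.ker (tauL k F)) = 1 := by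
  classical
  let e : Fin (k + 1) ⊕ Fin (k + 1) → F := Pi.single (Sum.inr 0) 1
  have he : e ∈ LinearMap.ker (tauL k F) := by
    rw [LinearMap.mem_ker]
    funext i
    rcases i with i | i
    · refine Fin.cases ?_ (fun l => ?_) i
      · exact tau_l0 _
      · rw [tau_ls]
        simp [e]
    · refine Fin.lastCases ?_ (fun l => ?_) i
      · rw [tau_rl]
        simp [e]
      · rw [tau_rs]
        have : (Sum.inr l.succ : Fin (k + 1) ⊕ Fin (k + 1)) ≠ Sum.inr 0 := fun h => Fin.succ_ne_zero l (Sum.inr.inj h)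
        simp [e, Pi.single_eq_of_ne this]
  have he0 : e ≠ 0 := by
    intro h
    have := congrFun h (Sum.inr 0)
    simp [e] at this
  have hle : LinearMap.ker (tauL k F) ≤ Submodule.span F {e} := by
    intro x hx
    rw [LinearMap.mem_ker] at hx
    rw [Submodule.mem_span_singleton]
    refine ⟨x (Sum.inr 0), ?_⟩
    funext i
    rcases i with i | i
    · have h0 : x (Sum.inl i) = 0 := by
        revert i
        intro i
        refine Fin.lastCases ?_ (fun l => ?_) i
        · have := congrFun hx (Sum.inr (Fin.last k))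
          rwa [tau_rl] at this
        · have := congrFun hx (Sum.inl l.succ)
          rwa [tau_ls] at this
      rw [h0]
      simp [e]
    · refine Fin.cases ?_ (fun l => ?_) i
      · simp [e]
      · have := congrFun hx (Sum.inr l.castSucc)
        rw [tau_rs] at this
        have h1 : x (Sum.inr l.succ) = 0 := neg_eq_zero.1 this
        rw [h1]
        have : (Sum.inr l.succ : Fin (k + 1) ⊕ Fin (k + 1)) ≠ Sum.inr 0 := fun h => Fin.succ_ne_zero l (Sum.inr.inj h)
        simp [e, Pi.single_eq_of_ne this]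
  have h1 := Submodule.finrank_mono hle
  rw [finrank_span_singleton he0] at h1
  have h2 : LinearMap.ker (tauL k F) ≠ ⊥ := by
    intro h
    rw [h, Submodule.mem_bot] at he
    exact he0 he
  have h3 : 1 ≤ finrank F (LinearMap.ker (tauL k F)) := Submodule.one_le_finrank_iff.2 h2
  omega

/-- the matrix -/
noncomputable def tauM (k : ℕ) (F : Type*) [Field F] : Matrix (Fin (k + 1) ⊕ Fin (k + 1)) (Fin (k + 1) ⊕ Fin (k + 1)) F := LinearMap.toMatrix' (tauL k F)

theorem tauM_mulVec (x : Fin (k + 1) ⊕ Fin (k + 1) → F) : tauM k F *ᵥ x = tauL k F x :=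
  LinearMap.toMatrix'_mulVec _ _

theorem tauM_anti : AntiAdj (tauM k F) := by
  intro x y
  rw [tauM_mulVec, tauM_mulVec]
  exact tau_anti x y

theorem tauM_linPow (j : ℕ) (x : Fin (k + 1) ⊕ Fin (k + 1) → F) : (tauM k F) ^ j *ᵥ x = ((tauL k F) ^ j) x := by
  induction j generalizing x with
  | zero => simp
  | succ j ih =>
    rw [pow_succ, ← Matrix.mulVec_mulVec, ih, tauM_mulVec, pow_succ, Module.End.mul_apply]

theorem tauM_nil : (tauM k F) ^ (2 * (k + 1)) = 0 := by
  apply Matrix.ext_of_mulVec_single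
  intro i
  rw [tauM_linPow, tau_nil, Matrix.zero_mulVec]
  rfl

theorem tauM_rank : (tauM k F).rank = 2 * (k + 1) - 1 := by
  have h1 : (tauM k F).mulVecLin = tauL k F := by
    apply LinearMap.ext
    intro x
    exact tauM_mulVec x
  have h2 := LinearMap.finrank_range_add_finrank_ker (tauL k F)
  rw [tau_ker, finrank_fintype_fun_eq_card] at h2
  simp only [Fintype.card_sum, Fintype.card_fin] at h2
  change finrank F (LinearMap.range (tauM k F).mulVecLin) = _
  rw [h1]
  omega

/-- existence of a regular unipotent element -/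
theorem exists_reg (h2 : (2 : F) ≠ 0) : ∃ u : Matrix.symplecticGroup (Fin (k + 1)) F,
    ((u : MatS (k + 1) F) - 1) ^ (2 * (k + 1)) = 0 ∧ ((u : MatS (k + 1) F) - 1).rank = 2 * (k + 1) - 1 := by
  classical
  set τ := tauM k F with hτ
  have hnil : IsNilpotent τ := ⟨_, tauM_nil⟩
  have hu : IsUnit (1 + τ) := by
    apply IsNilpotent.isUnit_one_add hnil
  have hmem : cay τ ∈ Matrix.symplecticGroup (Fin (k + 1)) F :=
    mem_symplectic_of_preserves (cay_preserves hu tauM_anti)
  obtain ⟨_, _, h4⟩ := cay_data h2 hu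
  set P := (1 + τ)⁻¹ with hP
  have hPu : IsUnit P := by
    refine IsUnit.of_mul_eq_one (1 + τ) (inv_mul_of_isUnit hu)
  have hcP : Commute τ P := by
    rw [hP]
    exact (commute_inv_left hu ((Commute.one_left τ).add_left (Commute.refl τ))).symm
  have hN : cay τ - 1 = (-(2 : F)) • (τ * P) := by
    rw [neg_smul, ← h4]
    abel
  refine ⟨⟨cay τ, hmem⟩, ?_, ?_⟩
  · change (cay τ - 1) ^ (2 * (k + 1)) = 0
    rw [hN, smul_pow, hcP.mul_pow, tauM_nil, zero_mul, smul_zero]
  · change (cay τ - 1).rank = _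
    rw [hN, Matrix.rank_smul_of_mem_nonZeroDivisors _ (mem_nonZeroDivisors_of_ne_zero (neg_ne_zero.2 h2)), Matrix.rank_mul_eq_left_of_isUnit_det _ _ ((Matrix.isUnit_iff_isUnit_det P).1 hPu), tauM_rank]

end Cfsg.Agent.H11.RegSp
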