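import Mathlib

set_option autoImplicit false

namespace Cfsg.Agent.H11

open Module Polynomial

variable {F V : Type*} [Field F] [AddCommGroup V] [Module F V] [FiniteDimensional F V]

/-- a nilpotent endomorphism has `T ^ finrank = 0` -/
lemma pow_finrank_eq_zero_of_nilpotent (T : Module.End F V) (h : IsNilpotent T) : T ^ finrank F V = 0 := by
  have h1 := IsNilpotent.charpoly_eq_X_pow_finrank h
  have h2 := LinearMap.aeval_self_charpoly T
  rw [h1] at h2
  simpa using h2

/-- growth of kernels of powers -/
lemma finrank_ker_pow_succ_le (T : Module.End F V) (j : ℕ) :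
    finrank F (LinearMap.ker (T ^ (j + 1))) ≤ finrank F (LinearMap.ker (T ^ j)) + finrank F (LinearMap.ker T) := by
  -- `T ^ j` maps `ker T^(j+1)` to `ker T` with kernel `ker T^j`
  let K := LinearMap.ker (T ^ (j + 1))
  let f : K →ₗ[F] V := (T ^ j) ∘ₗ K.subtype
  have h1 := LinearMap.finrank_range_add_finrank_ker f
  have h2 : LinearMap.range f ≤ LinearMap.ker T := by
    rintro _ ⟨x, rfl⟩
    have hx : (T ^ (j + 1)) (x : V) = 0 := x.2
    rw [pow_succ'] at hx
    exact hx
  have h3 : finrank F (LinearMap.ker f) ≤ finrank F (LinearMap.ker (T ^ j)) := by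
    have hinj : Function.Injective (fun x : LinearMap.ker f => (⟨(x.1 : V), x.2⟩ : LinearMap.ker (T ^ j))) := by
      intro a b hab
      apply Subtype.ext
      apply Subtype.ext
      exact congrArg (fun z : LinearMap.ker (T ^ j) => (z : V)) hab
    let g : LinearMap.ker f →ₗ[F] LinearMap.ker (T ^ j) :=
      { toFun := fun x => ⟨(x.1 : V), x.2⟩
        map_add' := fun _ _ => rfl
        map_smul' := fun _ _ => rfl }
    exact LinearMap.finrank_le_finrank_of_injective (f := g) hinj
  have h4 := Submodule.finrank_mono h2
  have h5 : finrank F K = finrank F (LinearMap.ker (T ^ (j + 1))) := rfl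
  omega

variable {n : ℕ} {T : Module.End F V}

/-- the kernel dimension in a single Jordan block -/
lemma finrank_ker_pow (hV : finrank F V = n) (hnil : T ^ n = 0) (hker : finrank F (LinearMap.ker T) ≤ 1) {j : ℕ}
    (hj : j ≤ n) : finrank F (LinearMap.ker (T ^ j)) = j := by
  have hle : ∀ k, finrank F (LinearMap.ker (T ^ k)) ≤ k := by
    intro k
    induction k with
    | zero =>
      have : LinearMap.ker (T ^ 0) = ⊥ := by
        rw [pow_zero]
        exact LinearMap.ker_id
      rw [this]
      simp
    | succ k ih =>
      have := finrank_ker_pow_succ_le T k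
      omega
  have hdec : ∀ k, k ≤ n → n - k ≤ finrank F (LinearMap.ker (T ^ (n - k))) := by
    intro k
    induction k with
    | zero =>
      intro _
      have : LinearMap.ker (T ^ (n - 0)) = ⊤ := by
        rw [Nat.sub_zero, hnil]
        exact LinearMap.ker_zero
      rw [this, finrank_top, hV]
      omega
    | succ k ih =>
      intro hk
      have h1 := ih (by omega)
      have h2 := finrank_ker_pow_succ_le T (n - (k + 1))
      have h3 : n - (k + 1) + 1 = n - k := by omega
      rw [h3] at h2
      omega
  have h1 := hdec (n - j) (by omega)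
  have h2 : n - (n - j) = j := by omega
  rw [h2] at h1
  exact le_antisymm (hle j) h1

/-- invariant subspaces of a single Jordan block form a chain -/
lemma invariant_eq_ker_pow (hV : finrank F V = n) (hnil : T ^ n = 0) (hker : finrank F (LinearMap.ker T) ≤ 1)
    (W : Submodule F V) (hW : ∀ v ∈ W, T v ∈ W) : W = LinearMap.ker (T ^ finrank F W) := by
  let R : Module.End F W := T.restrict hW
  have hRpow : ∀ k (x : W), ((R ^ k) x : V) = (T ^ k) (x : V) := by
    intro k x
    induction k generalizing x with
    | zero => simp
    | succ k ih =>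
      rw [pow_succ, pow_succ]
      simp only [Module.End.mul_apply]
      rw [ih]
      rfl
  have hR : IsNilpotent R := by
    refine ⟨n, ?_⟩
    ext x
    rw [hRpow, hnil]
    simp
  have h1 := pow_finrank_eq_zero_of_nilpotent R hR
  have hle : W ≤ LinearMap.ker (T ^ finrank F W) := by
    intro x hx
    have := hRpow (finrank F W) ⟨x, hx⟩
    rw [h1] at this
    rw [LinearMap.mem_ker]
    rw [← this]
    simp
  apply Submodule.eq_of_le_of_finrank_eq hle
  rw [finrank_ker_pow hV hnil hker]
  rw [← hV]
  exact Submodule.finrank_le W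

lemma mulVecLin_pow' {ι : Type*} [Fintype ι] [DecidableEq ι] (N : Matrix ι ι F) (k : ℕ) :
    (N ^ k).mulVecLin = (N.mulVecLin : Module.End F (ι → F)) ^ k := by
  induction k with
  | zero =>
    ext x
    simp
  | succ k ih =>
    rw [pow_succ, pow_succ, Matrix.mulVecLin_mul, ih]
    rfl

lemma finrank_ker_le_one_of_rank {ι : Type*} [Fintype ι] [DecidableEq ι] (N : Matrix ι ι F)
    (hreg : N.rank = Fintype.card ι - 1) : finrank F (LinearMap.ker N.mulVecLin) ≤ 1 := by
  have h1 := LinearMap.finrank_range_add_finrank_ker N.mulVecLin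
  rw [finrank_fintype_fun_eq_card] at h1
  have h2 : finrank F (LinearMap.range N.mulVecLin) = N.rank := rfl
  omega

end Cfsg.Agent.H11
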