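import Mathlib
import Cfsg.Agent.Lib.H11.RegUnip

set_option autoImplicit false

namespace Cfsg.Agent.H11

open Module Polynomial Matrix

section EndLevel

variable {F V : Type*} [Field F] [AddCommGroup V] [Module F V] [FiniteDimensional F V]
variable {n : ℕ} {T : Module.End F V}

lemma exists_cyclic_vector (hV : finrank F V = n) (hn : 1 ≤ n) (hnil : T ^ n = 0)
    (hker : finrank F (LinearMap.ker T) ≤ 1) : ∃ v, (T ^ (n - 1)) v ≠ 0 := by
  by_contra hcon
  push Not at hcon
  have h1 := finrank_ker_pow hV hnil hker (j := n - 1) (by omega)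
  have h2 : LinearMap.ker (T ^ (n - 1)) = ⊤ := by
    rw [LinearMap.ker_eq_top]
    ext x
    simpa using hcon x
  rw [h2, finrank_top, hV] at h1
  omega

/-- the family `T^i v` -/
lemma linearIndependent_pow (hnil : T ^ n = 0) {v : V} (hv : (T ^ (n - 1)) v ≠ 0) :
    LinearIndependent F (fun i : Fin n => (T ^ (i : ℕ)) v) := by
  rw [Fintype.linearIndependent_iff]
  intro a ha
  have key : ∀ k (hk : k < n), a ⟨k, hk⟩ = 0 := by
    intro k
    induction k using Nat.strong_induction_on with
    | _ k ih =>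
      intro hk
      have h1 := congrArg (fun z => (T ^ (n - 1 - k)) z) ha
      simp only [map_sum, map_smul, map_zero] at h1
      rw [Finset.sum_eq_single (⟨k, hk⟩ : Fin n)] at h1
      · have h2 : (T ^ (n - 1 - k)) ((T ^ k) v) = (T ^ (n - 1)) v := by
          rw [← Module.End.mul_apply, ← pow_add]
          congr 2
          omega
        simp only [h2] at h1
        exact (smul_eq_zero.1 h1).resolve_right hv
      · intro j _ hj
        rcases lt_or_gt_of_ne (fun h => hj (Fin.ext h) : (j : ℕ) ≠ k) with hlt | hgt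
        · have := ih j hlt j.2
          simp only [Fin.eta] at this
          rw [this, zero_smul]
        · have h3 : (T ^ (n - 1 - k)) ((T ^ (j : ℕ)) v) = 0 := by
            rw [← Module.End.mul_apply, ← pow_add]
            have h4 : n - 1 - k + (j : ℕ) = n + ((j : ℕ) - k - 1) := by
              have := j.2
              omega
            rw [h4, pow_add, hnil]
            simp
          rw [h3, smul_zero]
      · simp
  intro i
  exact key i i.2

/-- a cyclic basis -/
noncomputable def cyclicBasis (hV : finrank F V = n) (hn : 1 ≤ n) (hnil : T ^ n = 0) {v : V}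
    (hv : (T ^ (n - 1)) v ≠ 0) : Module.Basis (Fin n) F V :=
  haveI : Nonempty (Fin n) := ⟨⟨0, by omega⟩⟩
  basisOfLinearIndependentOfCardEqFinrank (linearIndependent_pow hnil hv) (by simp [hV])

@[simp] lemma cyclicBasis_apply (hV : finrank F V = n) (hn : 1 ≤ n) (hnil : T ^ n = 0) {v : V}
    (hv : (T ^ (n - 1)) v ≠ 0) (i : Fin n) : cyclicBasis hV hn hnil hv i = (T ^ (i : ℕ)) v := by
  simp [cyclicBasis]

/-- the polynomial in `T` with coefficient vector `a` -/
noncomputable def polT (T : Module.End F V) {n : ℕ} (a : Fin n → F) : Module.End F V :=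
  ∑ i : Fin n, a i • T ^ (i : ℕ)

lemma polT_commute (a : Fin n → F) : Commute (polT T a) T := by
  apply Commute.sum_left
  intro i _
  exact ((Commute.pow_left (Commute.refl T) _)).smul_left _

lemma polT_apply (a : Fin n → F) (v : V) : polT T a v = ∑ i : Fin n, a i • (T ^ (i : ℕ)) v := by
  simp [polT, LinearMap.sum_apply]

lemma exists_polT_apply_eq (hV : finrank F V = n) (hn : 1 ≤ n) (hnil : T ^ n = 0) {v : V}
    (hv : (T ^ (n - 1)) v ≠ 0) (w : V) : ∃ a : Fin n → F, polT T a v = w := by
  let b := cyclicBasis hV hn hnil hv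
  refine ⟨fun i => b.repr w i, ?_⟩
  rw [polT_apply]
  conv_rhs => rw [← b.sum_repr w]
  apply Finset.sum_congr rfl
  intro i _
  simp [b]

/-- the commutant is generated by `T` -/
lemma exists_polT_eq_of_commute (hV : finrank F V = n) (hn : 1 ≤ n) (hnil : T ^ n = 0) {v : V}
    (hv : (T ^ (n - 1)) v ≠ 0) (g : Module.End F V) (hg : Commute g T) : ∃ a : Fin n → F, g = polT T a := by
  obtain ⟨a, ha⟩ := exists_polT_apply_eq hV hn hnil hv (g v)
  refine ⟨a, ?_⟩
  apply (cyclicBasis hV hn hnil hv).ext
  intro i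
  rw [cyclicBasis_apply]
  have h1 : Commute g (T ^ (i : ℕ)) := hg.pow_right _
  have h2 : Commute (polT T a) (T ^ (i : ℕ)) := (polT_commute a).pow_right _
  calc g ((T ^ (i : ℕ)) v) = (g * T ^ (i : ℕ)) v := rfl
    _ = (T ^ (i : ℕ) * g) v := by rw [h1.eq]
    _ = (T ^ (i : ℕ)) (g v) := rfl
    _ = (T ^ (i : ℕ)) (polT T a v) := by rw [ha]
    _ = (T ^ (i : ℕ) * polT T a) v := rfl
    _ = (polT T a * T ^ (i : ℕ)) v := by rw [h2.eq]
    _ = _ := rfl

lemma polT_injective (hnil : T ^ n = 0) {v : V} (hv : (T ^ (n - 1)) v ≠ 0) :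
    Function.Injective (polT T : (Fin n → F) → Module.End F V) := by
  intro a b hab
  have h1 := congrArg (fun g : Module.End F V => g v) hab
  simp only [polT_apply] at h1
  have h2 := (linearIndependent_pow hnil hv)
  rw [Fintype.linearIndependent_iff] at h2
  funext i
  have := h2 (fun j => a j - b j) (by
    simp only [sub_smul, Finset.sum_sub_distrib, h1, sub_self]) i
  exact sub_eq_zero.1 this

lemma polT_sub_nilpotent (hn : 1 ≤ n) (hnil : T ^ n = 0) (a : Fin n → F) :
    IsNilpotent (polT T a - a ⟨0, by omega⟩ • (1 : Module.End F V)) := by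
  -- this is `T * q`
  have h1 : polT T a - a ⟨0, by omega⟩ • (1 : Module.End F V) =
      T * ∑ i : Fin n, (if (i : ℕ) = 0 then (0 : F) else a i) • T ^ ((i : ℕ) - 1) := by
    rw [Finset.mul_sum, polT]
    rw [← Finset.add_sum_erase _ _ (Finset.mem_univ (⟨0, by omega⟩ : Fin n))]
    rw [← Finset.add_sum_erase (a := (⟨0, by omega⟩ : Fin n)) _ (fun i : Fin n => T * (if (i : ℕ) = 0 then (0 : F) else a i) • T ^ ((i : ℕ) - 1)) (Finset.mem_univ _)]
    simp only [pow_zero, ↓reduceIte, zero_smul, mul_zero, zero_add]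
    rw [add_sub_cancel_left]
    apply Finset.sum_congr rfl
    intro i hi
    have hi0 : (i : ℕ) ≠ 0 := by
      intro h
      apply (Finset.mem_erase.1 hi).1
      exact Fin.ext h
    rw [if_neg hi0, mul_smul_comm, ← pow_succ']
    congr 2
    omega
  rw [h1]
  have hcomm : Commute T (∑ i : Fin n, (if (i : ℕ) = 0 then (0 : F) else a i) • T ^ ((i : ℕ) - 1)) := by
    apply Commute.sum_right
    intro i _
    exact ((Commute.refl T).pow_right _).smul_right _
  exact hcomm.isNilpotent_mul_right ⟨n, hnil⟩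

lemma isUnit_polT_iff (hV : finrank F V = n) (hn : 1 ≤ n) (hnil : T ^ n = 0) (a : Fin n → F) :
    IsUnit (polT T a) ↔ a ⟨0, by omega⟩ ≠ 0 := by
  have hN := polT_sub_nilpotent (T := T) hn hnil a
  constructor
  · intro hu h0
    rw [h0, zero_smul, sub_zero] at hN
    -- a nilpotent unit in a non-trivial ring
    have hnt : Nontrivial V := Module.nontrivial_of_finrank_pos (R := F) (by omega)
    exact hN.not_isUnit hu
  · intro h0
    have hu : IsUnit (a ⟨0, by omega⟩ • (1 : Module.End F V)) := by
      rw [← Algebra.algebraMap_eq_smul_one]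
      exact (IsUnit.mk0 _ h0).map _
    have : polT T a = a ⟨0, by omega⟩ • (1 : Module.End F V) + (polT T a - a ⟨0, by omega⟩ • (1 : Module.End F V)) := by
      abel
    rw [this]
    apply IsNilpotent.isUnit_add_left_of_commute hN hu
    have hc : (a ⟨0, by omega⟩ • (1 : Module.End F V)) = algebraMap F _ (a ⟨0, by omega⟩) := by
      rw [Algebra.algebraMap_eq_smul_one]
    rw [hc]
    exact (Algebra.commutes _ _).symm

end EndLevel

section MatrixLevel

variable {F : Type*} [Field F] {ι : Type*} [Fintype ι] [DecidableEq ι] {n : ℕ}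

/-- the polynomial in the matrix `N` with coefficient vector `a` -/
noncomputable def polM (N : Matrix ι ι F) {n : ℕ} (a : Fin n → F) : Matrix ι ι F :=
  ∑ i : Fin n, a i • N ^ (i : ℕ)

lemma mulVecLin_sum' {κ : Type*} (s : Finset κ) (f : κ → Matrix ι ι F) :
    (∑ i ∈ s, f i).mulVecLin = ∑ i ∈ s, (f i).mulVecLin := by
  ext x
  simp [Matrix.sum_mulVec]

lemma mulVecLin_polM (N : Matrix ι ι F) (a : Fin n → F) :
    (polM N a).mulVecLin = polT (N.mulVecLin : Module.End F (ι → F)) a := by
  rw [polM, polT, mulVecLin_sum']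
  apply Finset.sum_congr rfl
  intro i _
  rw [← mulVecLin_pow']
  ext x
  simp [Matrix.smul_mulVec]

lemma mulVecLin_injective' : Function.Injective (Matrix.mulVecLin : Matrix ι ι F → _) := by
  intro A B h
  have : Matrix.toLin' A = Matrix.toLin' B := by
    simpa [Matrix.toLin'_apply'] using h
  exact Matrix.toLin'.injective this

lemma polM_commute (N : Matrix ι ι F) (a : Fin n → F) : Commute (polM N a) N := by
  apply Commute.sum_left
  intro i _
  exact ((Commute.pow_left (Commute.refl N) _)).smul_left _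

section
variable {N : Matrix ι ι F} (hn : 1 ≤ Fintype.card ι) (hnil : N ^ Fintype.card ι = 0)
  (hreg : N.rank = Fintype.card ι - 1)
include hn hnil hreg

lemma regular_data : finrank F (ι → F) = Fintype.card ι ∧
    (N.mulVecLin : Module.End F (ι → F)) ^ Fintype.card ι = 0 ∧
    finrank F (LinearMap.ker (N.mulVecLin : Module.End F (ι → F))) ≤ 1 := by
  refine ⟨finrank_fintype_fun_eq_card _, ?_, finrank_ker_le_one_of_rank N hreg⟩
  rw [← mulVecLin_pow', hnil]
  ext x
  simp

lemma exists_polM_eq_of_commute (X : Matrix ι ι F) (hX : Commute X N) :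
    ∃ a : Fin (Fintype.card ι) → F, X = polM N a := by
  obtain ⟨h1, h2, h3⟩ := regular_data hn hnil hreg
  obtain ⟨v, hv⟩ := exists_cyclic_vector h1 hn h2 h3
  have hc : Commute (X.mulVecLin : Module.End F (ι → F)) N.mulVecLin := by
    have : X * N = N * X := hX.eq
    change (X.mulVecLin : Module.End F (ι → F)) * N.mulVecLin = N.mulVecLin * X.mulVecLin
    change X.mulVecLin ∘ₗ N.mulVecLin = N.mulVecLin ∘ₗ X.mulVecLin
    rw [← Matrix.mulVecLin_mul, ← Matrix.mulVecLin_mul, this]
  obtain ⟨a, ha⟩ := exists_polT_eq_of_commute h1 hn h2 hv _ hc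
  refine ⟨a, mulVecLin_injective' ?_⟩
  rw [mulVecLin_polM, ha]

lemma polM_injective : Function.Injective (polM N : (Fin (Fintype.card ι) → F) → Matrix ι ι F) := by
  obtain ⟨h1, h2, h3⟩ := regular_data hn hnil hreg
  obtain ⟨v, hv⟩ := exists_cyclic_vector h1 hn h2 h3
  intro a b hab
  apply polT_injective h2 hv
  rw [← mulVecLin_polM, ← mulVecLin_polM, hab]

lemma isUnit_polM_iff (a : Fin (Fintype.card ι) → F) : IsUnit (polM N a) ↔ a ⟨0, by omega⟩ ≠ 0 := by
  obtain ⟨h1, h2, h3⟩ := regular_data hn hnil hreg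
  rw [← isUnit_polT_iff h1 hn h2 a, ← mulVecLin_polM]
  have hk : (polM N a).mulVecLin = Matrix.toLinAlgEquiv' (polM N a) := by
    ext x
    simp
  rw [hk]
  exact (MulEquiv.isUnit_map (Matrix.toLinAlgEquiv' (R := F) (n := ι)).toMulEquiv).symm

end

end MatrixLevel

/-- counting coefficient vectors -/
lemma card_coeff_ne_zero {F : Type*} [Field F] [Fintype F] {q n : ℕ} (hF : Fintype.card F = q) (hn : 1 ≤ n) :
    Nat.card {a : Fin n → F // a ⟨0, by omega⟩ ≠ 0} = (q - 1) * q ^ (n - 1) := by
  obtain ⟨k, rfl⟩ : ∃ k, n = k + 1 := ⟨n - 1, by omega⟩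
  have e : {a : Fin (k + 1) → F // a ⟨0, by omega⟩ ≠ 0} ≃ Fˣ × (Fin k → F) :=
    { toFun := fun a => (Units.mk0 (a.1 0) a.2, Fin.tail a.1)
      invFun := fun p => ⟨Fin.cons (p.1 : F) p.2, by simp⟩
      left_inv := fun a => by
        apply Subtype.ext
        exact Fin.cons_self_tail _
      right_inv := fun p => by
        apply Prod.ext
        · apply Units.ext
          simp
        · simp }
  rw [Nat.card_congr e, Nat.card_prod, Nat.card_units, Nat.card_fun, Nat.card_eq_fintype_card, hF]
  simp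

end Cfsg.Agent.H11
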