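import Mathlib
import Cfsg.Agent.Lib.H11.RegUnip2

set_option autoImplicit false

namespace Cfsg.Agent.H11

open Module Polynomial Matrix

variable {F : Type*} [Field F] {ι : Type*} [Fintype ι] [DecidableEq ι]

/-- determinant of scalar plus nilpotent -/
lemma det_smul_one_add_nilpotent (c : F) {Z : Matrix ι ι F} (hZ : IsNilpotent Z) :
    (c • (1 : Matrix ι ι F) + Z).det = c ^ Fintype.card ι := by
  have hZ' : IsNilpotent (-Z) := hZ.neg
  have h1 := Matrix.isNilpotent_charpoly_sub_pow_of_isNilpotent hZ'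
  have h2 : (-Z).charpoly = X ^ Fintype.card ι := by
    have := h1.eq_zero
    exact sub_eq_zero.1 this
  have h3 := Matrix.eval_charpoly (-Z) c
  rw [h2] at h3
  simp only [eval_pow, eval_X, sub_neg_eq_add] at h3
  rw [h3]
  congr 1
  ext i j
  simp [Matrix.scalar_apply, Matrix.smul_apply, Matrix.one_apply, Matrix.diagonal_apply]

lemma polM_sub_nilpotent {N : Matrix ι ι F} {n : ℕ} (hn : 1 ≤ n) (hnil : N ^ n = 0) (a : Fin n → F) :
    IsNilpotent (polM N a - a ⟨0, by omega⟩ • (1 : Matrix ι ι F)) := by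
  have h1 := polT_sub_nilpotent (T := (N.mulVecLin : Module.End F (ι → F))) hn (by
    rw [← mulVecLin_pow', hnil]
    ext x
    simp) a
  rw [← mulVecLin_polM] at h1
  obtain ⟨k, hk⟩ := h1
  refine ⟨k, ?_⟩
  apply mulVecLin_injective'
  have h2 : (polM N a - a ⟨0, by omega⟩ • (1 : Matrix ι ι F)).mulVecLin = (polM N a).mulVecLin - a ⟨0, by omega⟩ • (1 : Module.End F (ι → F)) := by
    ext x
    simp [Matrix.sub_mulVec, Matrix.smul_mulVec]
  rw [mulVecLin_pow', h2, hk]
  ext x
  simp

lemma det_polM {N : Matrix ι ι F} {n : ℕ} (hn : 1 ≤ n) (hnil : N ^ n = 0) (a : Fin n → F) :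
    (polM N a).det = (a ⟨0, by omega⟩) ^ Fintype.card ι := by
  have h1 := det_smul_one_add_nilpotent (a ⟨0, by omega⟩) (polM_sub_nilpotent hn hnil a)
  rw [add_sub_cancel] at h1
  exact h1

/-- two regular nilpotent matrices are similar -/
lemma regular_similar (hn : 1 ≤ Fintype.card ι) {N N' : Matrix ι ι F}
    (hnil : N ^ Fintype.card ι = 0) (hreg : N.rank = Fintype.card ι - 1)
    (hnil' : N' ^ Fintype.card ι = 0) (hreg' : N'.rank = Fintype.card ι - 1) :
    ∃ P : GL ι F, (P : Matrix ι ι F) * N = N' * P := by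
  obtain ⟨h1, h2, h3⟩ := regular_data hn hnil hreg
  obtain ⟨h1', h2', h3'⟩ := regular_data hn hnil' hreg'
  obtain ⟨v, hv⟩ := exists_cyclic_vector h1 hn h2 h3
  obtain ⟨v', hv'⟩ := exists_cyclic_vector h1' hn h2' h3'
  let b := cyclicBasis h1 hn h2 hv
  let b' := cyclicBasis h1' hn h2' hv'
  let E : (ι → F) ≃ₗ[F] (ι → F) := b.equiv b' (Equiv.refl _)
  have hE : ∀ x, E (N *ᵥ x) = N' *ᵥ (E x) := by
    intro x
    have : E.toLinearMap ∘ₗ N.mulVecLin = N'.mulVecLin ∘ₗ E.toLinearMap := by
      apply b.ext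
      intro i
      simp only [LinearMap.comp_apply, LinearEquiv.coe_coe]
      have hbi : b i = (N.mulVecLin ^ (i : ℕ)) v := by simp [b]
      have hb'i : b' i = (N'.mulVecLin ^ (i : ℕ)) v' := by simp [b']
      have hEi : E (b i) = b' i := by simp [E]
      rw [hEi, hb'i, hbi]
      have h5 : N.mulVecLin ((N.mulVecLin ^ (i : ℕ)) v) = (N.mulVecLin ^ ((i : ℕ) + 1)) v := by
        rw [pow_succ']
        rfl
      have h6 : N'.mulVecLin ((N'.mulVecLin ^ (i : ℕ)) v') = (N'.mulVecLin ^ ((i : ℕ) + 1)) v' := by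
        rw [pow_succ']
        rfl
      rw [h5, h6]
      by_cases hi : (i : ℕ) + 1 < Fintype.card ι
      · have hbj : b ⟨(i : ℕ) + 1, hi⟩ = (N.mulVecLin ^ ((i : ℕ) + 1)) v := by simp [b]
        have hbj' : b' ⟨(i : ℕ) + 1, hi⟩ = (N'.mulVecLin ^ ((i : ℕ) + 1)) v' := by simp [b']
        have hEj : E (b ⟨(i : ℕ) + 1, hi⟩) = b' ⟨(i : ℕ) + 1, hi⟩ := by simp [E]
        rw [← hbj, ← hbj', hEj]
      · have hij : (i : ℕ) + 1 = Fintype.card ι := by
          have := i.2
          omega
        rw [hij, h2, h2']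
        simp
    exact LinearMap.congr_fun this x
  let P : Matrix ι ι F := LinearMap.toMatrix' E.toLinearMap
  let Q : Matrix ι ι F := LinearMap.toMatrix' E.symm.toLinearMap
  have hPQ : P * Q = 1 := by
    rw [← LinearMap.toMatrix'_comp]
    simp
  have hQP : Q * P = 1 := by
    rw [← LinearMap.toMatrix'_comp]
    simp
  have hPv : ∀ x, P *ᵥ x = E x := by
    intro x
    simp [P, LinearMap.toMatrix'_mulVec]
  refine ⟨⟨P, Q, hPQ, hQP⟩, ?_⟩
  change P * N = N' * P
  apply mulVecLin_injective'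
  ext1 x
  ext i
  simp only [LinearMap.coe_comp, LinearMap.coe_single, Function.comp_apply, Matrix.mulVecLin_apply]
  rw [← Matrix.mulVec_mulVec, ← Matrix.mulVec_mulVec, hPv, hPv, hE]

/-- the conjugate of a regular nilpotent matrix is regular -/
lemma rank_conj (P : GL ι F) (N : Matrix ι ι F) :
    ((P : Matrix ι ι F) * N * ((P⁻¹ : GL ι F) : Matrix ι ι F)).rank = N.rank := by
  have h1 : IsUnit (P : Matrix ι ι F).det := (Matrix.isUnit_iff_isUnit_det _).1 P.isUnit
  have h2 : IsUnit ((P⁻¹ : GL ι F) : Matrix ι ι F).det := (Matrix.isUnit_iff_isUnit_det _).1 (P⁻¹).isUnit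
  rw [Matrix.rank_mul_eq_left_of_isUnit_det _ _ h2, Matrix.rank_mul_eq_right_of_isUnit_det _ _ h1]

/-- the standard regular nilpotent matrix -/
def shiftM (n : ℕ) (F : Type*) [Field F] : Matrix (Fin n) (Fin n) F :=
  Matrix.of fun i j => if (j : ℕ) = i + 1 then 1 else 0

lemma shiftM_mulVec {n : ℕ} (x : Fin n → F) (i : Fin n) :
    (shiftM n F *ᵥ x) i = if h : (i : ℕ) + 1 < n then x ⟨i + 1, h⟩ else 0 := by
  simp only [Matrix.mulVec, dotProduct, shiftM, Matrix.of_apply]
  split_ifs with h
  · rw [Finset.sum_eq_single (⟨(i : ℕ) + 1, h⟩ : Fin n)]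
    · simp
    · intro j _ hj
      have : (j : ℕ) ≠ i + 1 := fun h' => hj (Fin.ext h')
      simp [this]
    · simp
  · apply Finset.sum_eq_zero
    intro j _
    have : (j : ℕ) ≠ i + 1 := by
      have := j.2
      omega
    simp [this]

lemma shiftM_pow_mulVec {n : ℕ} (k : ℕ) (x : Fin n → F) (i : Fin n) :
    ((shiftM n F) ^ k *ᵥ x) i = if h : (i : ℕ) + k < n then x ⟨i + k, h⟩ else 0 := by
  induction k generalizing x with
  | zero => simp
  | succ k ih =>
    rw [pow_succ, ← Matrix.mulVec_mulVec, ih]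
    by_cases h1 : (i : ℕ) + k < n
    · rw [dif_pos h1, shiftM_mulVec]
      by_cases h2 : (i : ℕ) + (k + 1) < n
      · have h3 : ((⟨(i : ℕ) + k, h1⟩ : Fin n) : ℕ) + 1 < n := by
          change (i : ℕ) + k + 1 < n
          omega
        rw [dif_pos h3, dif_pos h2]
        congr 1
      · have h3 : ¬ ((⟨(i : ℕ) + k, h1⟩ : Fin n) : ℕ) + 1 < n := by
          change ¬ (i : ℕ) + k + 1 < n
          omega
        rw [dif_neg h3, dif_neg h2]
    · rw [dif_neg h1, dif_neg (by omega)]

lemma shiftM_pow_card {n : ℕ} : (shiftM n F) ^ n = 0 := by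
  apply Matrix.toLin'.injective
  ext1 x
  ext i
  simp only [LinearMap.coe_comp, LinearMap.coe_single, Function.comp_apply, Matrix.toLin'_apply]
  rw [shiftM_pow_mulVec]
  simp

lemma shiftM_ker_le {n : ℕ} : finrank F (LinearMap.ker (shiftM n F).mulVecLin) ≤ 1 := by
  rcases Nat.eq_zero_or_pos n with rfl | hn
  · have : Subsingleton (LinearMap.ker (shiftM 0 F).mulVecLin) := by
      constructor
      intro a b
      apply Subtype.ext
      funext i
      exact i.elim0
    rw [finrank_zero_of_subsingleton]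
    omega
  · let f : LinearMap.ker (shiftM n F).mulVecLin →ₗ[F] F :=
      (LinearMap.proj (⟨0, hn⟩ : Fin n)) ∘ₗ (LinearMap.ker (shiftM n F).mulVecLin).subtype
    have hf : Function.Injective f := by
      intro a b hab
      apply Subtype.ext
      funext i
      have hab' : (a : Fin n → F) ⟨0, hn⟩ = (b : Fin n → F) ⟨0, hn⟩ := hab
      by_cases hi : (i : ℕ) = 0
      · have : i = ⟨0, hn⟩ := Fin.ext hi
        rw [this, hab']
      · obtain ⟨k, hk⟩ : ∃ k, (i : ℕ) = k + 1 := ⟨(i : ℕ) - 1, by omega⟩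
        have hk' : k < n := by
          have := i.2
          omega
        have hi' : i = ⟨k + 1, by have := i.2; omega⟩ := Fin.ext hk
        have ha : (shiftM n F *ᵥ (a : Fin n → F)) ⟨k, hk'⟩ = 0 := by
          have := LinearMap.mem_ker.1 a.2
          have h3 : (shiftM n F *ᵥ (a : Fin n → F)) = 0 := this
          rw [h3]
          rfl
        have hb : (shiftM n F *ᵥ (b : Fin n → F)) ⟨k, hk'⟩ = 0 := by
          have := LinearMap.mem_ker.1 b.2
          have h3 : (shiftM n F *ᵥ (b : Fin n → F)) = 0 := this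
          rw [h3]
          rfl
        have hlt : k + 1 < n := by
          have := i.2
          omega
        rw [shiftM_mulVec] at ha hb
        simp only [hlt, dif_pos] at ha hb
        rw [hi', ha, hb]
    have := LinearMap.finrank_le_finrank_of_injective hf
    simpa using this

lemma shiftM_rank {n : ℕ} : (shiftM n F).rank = n - 1 := by
  rcases Nat.eq_zero_or_pos n with rfl | hn
  · have := Matrix.rank_le_width (shiftM 0 F)
    omega
  have h1 := LinearMap.finrank_range_add_finrank_ker (shiftM n F).mulVecLin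
  have h2 : finrank F (LinearMap.ker (shiftM n F).mulVecLin) = 1 := by
    have := finrank_ker_pow (n := n) (T := ((shiftM n F).mulVecLin : Module.End F (Fin n → F))) (by simp) (by
      rw [← mulVecLin_pow', shiftM_pow_card]
      ext x
      simp) shiftM_ker_le (j := 1) (by omega)
    rw [pow_one] at this
    exact this
  rw [finrank_fintype_fun_eq_card, h2, Fintype.card_fin] at h1
  have h3 : finrank F (LinearMap.range (shiftM n F).mulVecLin) = (shiftM n F).rank := rfl
  omega

end Cfsg.Agent.H11
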