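import Mathlib
import Cfsg.Prelude.Def_ClassicalGeometry

set_option autoImplicit false

namespace Cfsg.Agent.H11

open Cfsg Matrix Module

variable {F : Type*} [Field F] {m : ℕ}

lemma sympForm_eq_sum (u v : Fin m ⊕ Fin m → F) :
    Cfsg.sympForm m F u v = ∑ i, (u (Sum.inr i) * v (Sum.inl i) - u (Sum.inl i) * v (Sum.inr i)) := by
  have hv : v = Sum.elim (v ∘ Sum.inl) (v ∘ Sum.inr) := by
    ext i; cases i <;> rfl
  simp only [Cfsg.sympForm, Matrix.J]
  conv_lhs => rw [hv]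
  rw [Matrix.fromBlocks_mulVec]
  simp only [zero_mulVec, add_zero, zero_add, dotProduct, Fintype.sum_sum_type, Sum.elim_inl, Sum.elim_inr,
    Matrix.neg_mulVec, one_mulVec, Pi.neg_apply, Function.comp]
  rw [← Finset.sum_add_distrib]
  apply Finset.sum_congr rfl
  intro i _
  ring

lemma sympForm_add_left (u u' v : Fin m ⊕ Fin m → F) :
    Cfsg.sympForm m F (u + u') v = Cfsg.sympForm m F u v + Cfsg.sympForm m F u' v := by
  simp [Cfsg.sympForm, add_dotProduct]

lemma sympForm_add_right (u v v' : Fin m ⊕ Fin m → F) :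
    Cfsg.sympForm m F u (v + v') = Cfsg.sympForm m F u v + Cfsg.sympForm m F u v' := by
  simp [Cfsg.sympForm, dotProduct_add, mulVec_add]

lemma sympForm_smul_left (c : F) (u v : Fin m ⊕ Fin m → F) :
    Cfsg.sympForm m F (c • u) v = c * Cfsg.sympForm m F u v := by
  simp [Cfsg.sympForm, smul_dotProduct]

lemma sympForm_smul_right (c : F) (u v : Fin m ⊕ Fin m → F) :
    Cfsg.sympForm m F u (c • v) = c * Cfsg.sympForm m F u v := by
  simp [Cfsg.sympForm, dotProduct_smul, mulVec_smul]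

lemma sympForm_sub_left (u u' v : Fin m ⊕ Fin m → F) :
    Cfsg.sympForm m F (u - u') v = Cfsg.sympForm m F u v - Cfsg.sympForm m F u' v := by
  simp [Cfsg.sympForm, sub_dotProduct]

lemma sympForm_sub_right (u v v' : Fin m ⊕ Fin m → F) :
    Cfsg.sympForm m F u (v - v') = Cfsg.sympForm m F u v - Cfsg.sympForm m F u v' := by
  simp [Cfsg.sympForm, dotProduct_sub, mulVec_sub]

lemma sympForm_self (u : Fin m ⊕ Fin m → F) : Cfsg.sympForm m F u u = 0 := by
  rw [sympForm_eq_sum]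
  apply Finset.sum_eq_zero
  intro i _
  ring

lemma sympForm_comm (u v : Fin m ⊕ Fin m → F) : Cfsg.sympForm m F u v = - Cfsg.sympForm m F v u := by
  rw [sympForm_eq_sum, sympForm_eq_sum, ← Finset.sum_neg_distrib]
  apply Finset.sum_congr rfl
  intro i _
  ring

lemma sympForm_mulVec {A : Matrix (Fin m ⊕ Fin m) (Fin m ⊕ Fin m) F} (hA : A ∈ Matrix.symplecticGroup (Fin m) F)
    (u v : Fin m ⊕ Fin m → F) : Cfsg.sympForm m F (A *ᵥ u) (A *ᵥ v) = Cfsg.sympForm m F u v := by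
  have h := SymplecticGroup.mem_iff'.1 hA
  simp only [Cfsg.sympForm]
  calc (A *ᵥ u) ⬝ᵥ (Matrix.J (Fin m) F *ᵥ (A *ᵥ v)) = u ⬝ᵥ (Aᵀ *ᵥ (Matrix.J (Fin m) F *ᵥ (A *ᵥ v))) := by
        rw [Matrix.dotProduct_mulVec u, Matrix.vecMul_transpose]
    _ = u ⬝ᵥ ((Aᵀ * Matrix.J (Fin m) F * A) *ᵥ v) := by
        simp only [Matrix.mulVec_mulVec, Matrix.mul_assoc]
    _ = u ⬝ᵥ (Matrix.J (Fin m) F *ᵥ v) := by rw [h]

/-- every functional is represented by the symplectic form -/
lemma exists_sympForm_rep (φ : Module.Dual F (Fin m ⊕ Fin m → F)) :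
    ∃ w : Fin m ⊕ Fin m → F, ∀ x, φ x = Cfsg.sympForm m F x w := by
  classical
  refine ⟨Sum.elim (fun i => φ (Pi.single (Sum.inr i) 1)) (fun i => - φ (Pi.single (Sum.inl i) 1)), fun x => ?_⟩
  rw [sympForm_eq_sum]
  conv_lhs => rw [LinearMap.pi_apply_eq_sum_univ φ x]
  rw [Fintype.sum_sum_type, ← Finset.sum_add_distrib]
  apply Finset.sum_congr rfl
  intro i _
  simp only [Sum.elim_inl, Sum.elim_inr, smul_eq_mul]
  have h1 : (fun j : Fin m ⊕ Fin m => if Sum.inl i = j then (1 : F) else 0) = Pi.single (Sum.inl i) 1 := by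
    ext j; simp [Pi.single_apply, eq_comm]
  have h2 : (fun j : Fin m ⊕ Fin m => if Sum.inr i = j then (1 : F) else 0) = Pi.single (Sum.inr i) 1 := by
    ext j; simp [Pi.single_apply, eq_comm]
  rw [h1, h2]
  ring

end Cfsg.Agent.H11
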