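import Mathlib
import Cfsg.Prelude.Def_ClassicalGeometry
import Cfsg.Agent.Lib.H11.Symp

set_option autoImplicit false

namespace Cfsg.Agent.H11

open Cfsg Matrix Module

variable {F : Type*} [Field F] {m : ℕ}

/-- the symplectic form, as a bilinear form -/
def sympBilin (m : ℕ) (F : Type*) [Field F] : LinearMap.BilinForm F (Fin m ⊕ Fin m → F) :=
  LinearMap.mk₂ F (Cfsg.sympForm m F) sympForm_add_left (fun c u v => by simp [sympForm_smul_left])
    sympForm_add_right (fun c u v => by simp [sympForm_smul_right])

@[simp] lemma sympBilin_apply (u v : Fin m ⊕ Fin m → F) : sympBilin m F u v = Cfsg.sympForm m F u v := rfl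

lemma sympBilin_isRefl : (sympBilin m F).IsRefl := by
  intro u v h
  rw [sympBilin_apply] at h ⊢
  rw [sympForm_comm, h, neg_zero]

lemma sympForm_left_eq_zero (x : Fin m ⊕ Fin m → F) (h : ∀ y, Cfsg.sympForm m F x y = 0) : x = 0 := by
  classical
  funext i
  rcases i with i | i
  · have := h (Pi.single (Sum.inr i) 1)
    rw [sympForm_eq_sum] at this
    rw [Finset.sum_eq_single i] at this
    · simpa using this
    · intro j _ hj
      simp [Pi.single_apply, Ne.symm hj]
    · simp
  · have := h (Pi.single (Sum.inl i) 1)
    rw [sympForm_eq_sum] at this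
    rw [Finset.sum_eq_single i] at this
    · simpa using this
    · intro j _ hj
      simp [Pi.single_apply, Ne.symm hj]
    · simp

lemma sympBilin_nondegenerate : (sympBilin m F).Nondegenerate := by
  constructor
  · intro x hx
    exact sympForm_left_eq_zero x hx
  · intro y hy
    apply sympForm_left_eq_zero y
    intro x
    rw [sympForm_comm, show Cfsg.sympForm m F x y = 0 from hy x, neg_zero]

lemma finrank_symp_orthogonal (W : Submodule F (Fin m ⊕ Fin m → F)) :
    finrank F ((sympBilin m F).orthogonal W) = 2 * m - finrank F W := by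
  rw [LinearMap.BilinForm.finrank_orthogonal sympBilin_nondegenerate, finrank_fintype_fun_eq_card]
  simp [two_mul]

lemma mem_symp_orthogonal {W : Submodule F (Fin m ⊕ Fin m → F)} {x : Fin m ⊕ Fin m → F} :
    x ∈ (sympBilin m F).orthogonal W ↔ ∀ w ∈ W, Cfsg.sympForm m F w x = 0 := Iff.rfl

end Cfsg.Agent.H11
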