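import Mathlib
import Cfsg.Prelude.Def_ClassicalGeometry
import Cfsg.Agent.Lib.H11.RegUnip3
import Cfsg.Agent.Lib.H11.Symp2

set_option autoImplicit false

namespace Cfsg.Agent.H11

open Cfsg Matrix Module

section general

variable {ι R : Type*} [Fintype ι] [DecidableEq ι] [CommRing R]

lemma commute_inv_left {A B : Matrix ι ι R} (hA : IsUnit A) (h : Commute A B) : Commute A⁻¹ B := by
  obtain ⟨a, rfl⟩ := hA
  rw [← Matrix.coe_units_inv]
  exact Commute.units_inv_left h

lemma mul_inv_of_isUnit {A : Matrix ι ι R} (hA : IsUnit A) : A * A⁻¹ = 1 :=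
  Matrix.mul_nonsing_inv A ((Matrix.isUnit_iff_isUnit_det A).1 hA)

lemma inv_mul_of_isUnit {A : Matrix ι ι R} (hA : IsUnit A) : A⁻¹ * A = 1 :=
  Matrix.nonsing_inv_mul A ((Matrix.isUnit_iff_isUnit_det A).1 hA)

/-- the Cayley transform -/
noncomputable def cay (X : Matrix ι ι R) : Matrix ι ι R := (1 - X) * (1 + X)⁻¹

end general

section field

variable {ι F : Type*} [Fintype ι] [DecidableEq ι] [Field F]

lemma cay_data {X : Matrix ι ι F} (h2 : (2 : F) ≠ 0) (hX : IsUnit (1 + X)) :
    IsUnit (1 + cay X) ∧ (1 + cay X)⁻¹ = (2 : F)⁻¹ • (1 + X) ∧ 1 - cay X = (2 : F) • (X * (1 + X)⁻¹) := by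
  set P := (1 + X)⁻¹ with hP
  have h1 : (1 + X) * P = 1 := mul_inv_of_isUnit hX
  have h1' : P * (1 + X) = 1 := inv_mul_of_isUnit hX
  have heq : 1 + cay X = (2 : F) • P := by
    rw [cay, ← hP]
    have : (1 : Matrix ι ι F) + (1 - X) * P = ((1 + X) * P) + (1 - X) * P := by rw [h1]
    rw [this, ← add_mul]
    rw [show (1 + X + (1 - X)) = (2 : F) • (1 : Matrix ι ι F) by
      rw [two_smul]; abel]
    rw [smul_mul_assoc, one_mul]
  have hinv : ((2 : F) • P) * ((2 : F)⁻¹ • (1 + X)) = 1 := by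
    rw [smul_mul_smul_comm, mul_inv_cancel₀ h2, one_smul, h1']
  have hinv' : ((2 : F)⁻¹ • (1 + X)) * ((2 : F) • P) = 1 := by
    rw [smul_mul_smul_comm, inv_mul_cancel₀ h2, one_smul, h1]
  refine ⟨?_, ?_, ?_⟩
  · rw [heq]
    exact ⟨⟨_, _, hinv, hinv'⟩, rfl⟩
  · rw [heq]
    exact Matrix.inv_eq_right_inv hinv
  · rw [cay, ← hP]
    have : (1 : Matrix ι ι F) - (1 - X) * P = ((1 + X) * P) - (1 - X) * P := by rw [h1]
    rw [this, ← sub_mul]
    rw [show (1 + X - (1 - X)) = (2 : F) • X by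
      rw [two_smul]; abel]
    rw [smul_mul_assoc]

lemma cay_cay {X : Matrix ι ι F} (h2 : (2 : F) ≠ 0) (hX : IsUnit (1 + X)) : cay (cay X) = X := by
  obtain ⟨_, h3, h4⟩ := cay_data h2 hX
  rw [cay, h3, h4, smul_mul_smul_comm, mul_inv_cancel₀ h2, one_smul, Matrix.mul_assoc,
    inv_mul_of_isUnit hX, Matrix.mul_one]

lemma commute_cay {X B : Matrix ι ι F} (hX : IsUnit (1 + X)) (h : Commute X B) : Commute (cay X) B := by
  rw [cay]
  apply Commute.mul_left
  · exact ((Commute.one_left B).sub_left h)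
  · apply commute_inv_left hX
    exact (Commute.one_left B).add_left h

lemma isUnit_one_add_of_sub_one_nilpotent {g : Matrix ι ι F} (h2 : (2 : F) ≠ 0) (hg : IsNilpotent (g - 1)) :
    IsUnit (1 + g) := by
  have : 1 + g = (2 : F) • (1 : Matrix ι ι F) + (g - 1) := by
    rw [two_smul]; abel
  rw [this]
  apply IsNilpotent.isUnit_add_left_of_commute hg
  · have : (2 : F) • (1 : Matrix ι ι F) = algebraMap F _ 2 := by
      rw [Algebra.algebraMap_eq_smul_one]
    rw [this]
    exact (IsUnit.mk0 _ h2).map _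
  · have : (2 : F) • (1 : Matrix ι ι F) = algebraMap F _ 2 := by
      rw [Algebra.algebraMap_eq_smul_one]
    rw [this]
    exact (Algebra.commutes _ _).symm

end field

section symp

variable {F : Type*} [Field F] {m : ℕ}

/-- matrices on the symplectic space -/
abbrev MatS (m : ℕ) (F : Type*) [Field F] := Matrix (Fin m ⊕ Fin m) (Fin m ⊕ Fin m) F

lemma mem_symplectic_of_preserves {A : MatS m F}
    (h : ∀ x y, Cfsg.sympForm m F (A *ᵥ x) (A *ᵥ y) = Cfsg.sympForm m F x y) :
    A ∈ Matrix.symplecticGroup (Fin m) F := by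
  rw [SymplecticGroup.mem_iff']
  ext i j
  have h1 := h (Pi.single i 1) (Pi.single j 1)
  simp only [Cfsg.sympForm] at h1
  have h2 : (Aᵀ * Matrix.J (Fin m) F * A) i j = (Pi.single i 1 : Fin m ⊕ Fin m → F) ⬝ᵥ ((Aᵀ * Matrix.J (Fin m) F * A) *ᵥ Pi.single j 1) := by
    simp [Matrix.mulVec_single_one]
  have h3 : (Matrix.J (Fin m) F) i j = (Pi.single i 1 : Fin m ⊕ Fin m → F) ⬝ᵥ ((Matrix.J (Fin m) F) *ᵥ Pi.single j 1) := by
    simp [Matrix.mulVec_single_one]
  rw [h2, h3, ← h1]
  rw [← Matrix.mulVec_mulVec, ← Matrix.mulVec_mulVec, Matrix.dotProduct_mulVec, Matrix.vecMul_transpose]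

/-- the sum formula for polynomial in a matrix -/
lemma polM_mulVec {ι : Type*} [Fintype ι] [DecidableEq ι] {n : ℕ} (N : Matrix ι ι F) (a : Fin n → F) (x : ι → F) :
    polM N a *ᵥ x = ∑ i : Fin n, a i • (N ^ (i : ℕ) *ᵥ x) := by
  rw [polM, Matrix.sum_mulVec]
  simp [Matrix.smul_mulVec]

/-- `a*`: the coefficient vector of the adjoint -/
def astar {n : ℕ} (a : Fin n → F) : Fin n → F := fun i => (-1) ^ (i : ℕ) * a i

lemma adj_pow {τ : MatS m F} (hτ : ∀ x y, Cfsg.sympForm m F (τ *ᵥ x) y = - Cfsg.sympForm m F x (τ *ᵥ y)) (k : ℕ)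
    (x y : Fin m ⊕ Fin m → F) :
    Cfsg.sympForm m F (τ ^ k *ᵥ x) y = (-1) ^ k * Cfsg.sympForm m F x (τ ^ k *ᵥ y) := by
  induction k generalizing y with
  | zero => simp
  | succ k ih =>
    have h1 : τ ^ (k + 1) *ᵥ x = τ *ᵥ (τ ^ k *ᵥ x) := by rw [pow_succ', Matrix.mulVec_mulVec]
    have h2 : τ ^ (k + 1) *ᵥ y = τ ^ k *ᵥ (τ *ᵥ y) := by rw [pow_succ, Matrix.mulVec_mulVec]
    rw [h1, h2, hτ, ih, pow_succ (-1 : F)]
    ring

lemma adj_polM {τ : MatS m F} (hτ : ∀ x y, Cfsg.sympForm m F (τ *ᵥ x) y = - Cfsg.sympForm m F x (τ *ᵥ y)) {n : ℕ}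
    (a : Fin n → F) (x y : Fin m ⊕ Fin m → F) :
    Cfsg.sympForm m F (polM τ a *ᵥ x) y = Cfsg.sympForm m F x (polM τ (astar a) *ᵥ y) := by
  rw [polM_mulVec, polM_mulVec, ← sympBilin_apply, ← sympBilin_apply, map_sum, map_sum, LinearMap.sum_apply]
  apply Finset.sum_congr rfl
  intro i _
  simp only [map_smul, LinearMap.smul_apply, sympBilin_apply, adj_pow hτ, smul_eq_mul, astar]
  ring

/-- elements of the unipotent part of the commutant preserving the form -/
def GoodSp (τ G : MatS m F) : Prop :=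
  Commute G τ ∧ IsNilpotent (G - 1) ∧ ∀ x y, Cfsg.sympForm m F (G *ᵥ x) (G *ᵥ y) = Cfsg.sympForm m F x y

/-- anti-self-adjoint -/
def AntiAdj (X : MatS m F) : Prop := ∀ x y, Cfsg.sympForm m F (X *ᵥ x) y = - Cfsg.sympForm m F x (X *ᵥ y)

lemma cay_preserves {X : MatS m F} (hX : IsUnit (1 + X)) (hA : AntiAdj X) (x y : Fin m ⊕ Fin m → F) :
    Cfsg.sympForm m F (cay X *ᵥ x) (cay X *ᵥ y) = Cfsg.sympForm m F x y := by
  set P := (1 + X)⁻¹ with hP
  have h1 : (1 + X) * P = 1 := mul_inv_of_isUnit hX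
  set x' := P *ᵥ x with hx'
  set y' := P *ᵥ y with hy'
  have hx : x = x' + X *ᵥ x' := by
    have : (1 + X) *ᵥ x' = x := by
      rw [hx', Matrix.mulVec_mulVec, h1, Matrix.one_mulVec]
    rw [← this, Matrix.add_mulVec, Matrix.one_mulVec]
  have hy : y = y' + X *ᵥ y' := by
    have : (1 + X) *ᵥ y' = y := by
      rw [hy', Matrix.mulVec_mulVec, h1, Matrix.one_mulVec]
    rw [← this, Matrix.add_mulVec, Matrix.one_mulVec]
  have hcx : cay X *ᵥ x = x' - X *ᵥ x' := by
    rw [cay, ← hP, ← Matrix.mulVec_mulVec, ← hx', Matrix.sub_mulVec, Matrix.one_mulVec]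
  have hcy : cay X *ᵥ y = y' - X *ᵥ y' := by
    rw [cay, ← hP, ← Matrix.mulVec_mulVec, ← hy', Matrix.sub_mulVec, Matrix.one_mulVec]
  rw [hcx, hcy]
  conv_rhs => rw [hx, hy]
  simp only [sympForm_sub_left, sympForm_sub_right, sympForm_add_left, sympForm_add_right]
  have ha := hA x' y'
  have hb := hA x' (X *ᵥ y')
  rw [ha, hb]
  ring

lemma cay_antiAdj (h2 : (2 : F) ≠ 0) {G : MatS m F} (hG : IsUnit (1 + G))
    (hp : ∀ x y, Cfsg.sympForm m F (G *ᵥ x) (G *ᵥ y) = Cfsg.sympForm m F x y) : AntiAdj (cay G) := by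
  intro x y
  set P := (1 + G)⁻¹ with hP
  have h1 : (1 + G) * P = 1 := mul_inv_of_isUnit hG
  set x' := P *ᵥ x with hx'
  set y' := P *ᵥ y with hy'
  have hx : x = x' + G *ᵥ x' := by
    have : (1 + G) *ᵥ x' = x := by
      rw [hx', Matrix.mulVec_mulVec, h1, Matrix.one_mulVec]
    rw [← this, Matrix.add_mulVec, Matrix.one_mulVec]
  have hy : y = y' + G *ᵥ y' := by
    have : (1 + G) *ᵥ y' = y := by
      rw [hy', Matrix.mulVec_mulVec, h1, Matrix.one_mulVec]
    rw [← this, Matrix.add_mulVec, Matrix.one_mulVec]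
  have hcx : cay G *ᵥ x = x' - G *ᵥ x' := by
    rw [cay, ← hP, ← Matrix.mulVec_mulVec, ← hx', Matrix.sub_mulVec, Matrix.one_mulVec]
  have hcy : cay G *ᵥ y = y' - G *ᵥ y' := by
    rw [cay, ← hP, ← Matrix.mulVec_mulVec, ← hy', Matrix.sub_mulVec, Matrix.one_mulVec]
  rw [hcx, hcy]
  conv_lhs => rw [hy]
  conv_rhs => rw [hx]
  simp only [sympForm_sub_left, sympForm_sub_right, sympForm_add_left, sympForm_add_right]
  rw [hp x' y']
  ring

section tau

variable {τ : MatS m F} (h2 : (2 : F) ≠ 0) (hτ : AntiAdj τ)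
  (hn : 1 ≤ Fintype.card (Fin m ⊕ Fin m)) (hnil : τ ^ Fintype.card (Fin m ⊕ Fin m) = 0)
  (hreg : τ.rank = Fintype.card (Fin m ⊕ Fin m) - 1)

include hτ hn hnil in
lemma antiAdj_polM_of_odd {b : Fin (Fintype.card (Fin m ⊕ Fin m)) → F}
    (hb : ∀ i : Fin (Fintype.card (Fin m ⊕ Fin m)), Even (i : ℕ) → b i = 0) : AntiAdj (polM τ b) := by
  intro x y
  rw [adj_polM hτ]
  have : astar b = - b := by
    funext i
    by_cases hi : Even (i : ℕ)
    · simp [astar, hb i hi]
    · have : Odd (i : ℕ) := Nat.not_even_iff_odd.1 hi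
      simp [astar, this.neg_one_pow]
  rw [this]
  have h3 : polM τ (-b) = - polM τ b := by
    simp [polM, Finset.sum_neg_distrib]
  rw [h3, Matrix.neg_mulVec]
  have := sympBilin_apply (F := F) (m := m) x (-(polM τ b *ᵥ y))
  rw [← sympBilin_apply, map_neg, sympBilin_apply]

include hn hnil in
lemma nilpotent_polM_of_odd {b : Fin (Fintype.card (Fin m ⊕ Fin m)) → F}
    (hb : ∀ i : Fin (Fintype.card (Fin m ⊕ Fin m)), Even (i : ℕ) → b i = 0) : IsNilpotent (polM τ b) := by
  have := polM_sub_nilpotent hn hnil b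
  rwa [hb _ (by simp), zero_smul, sub_zero] at this

include h2 hτ hn hnil in
lemma good_of_odd {b : Fin (Fintype.card (Fin m ⊕ Fin m)) → F}
    (hb : ∀ i : Fin (Fintype.card (Fin m ⊕ Fin m)), Even (i : ℕ) → b i = 0) : GoodSp τ (cay (polM τ b)) := by
  have hN := nilpotent_polM_of_odd hn hnil hb
  have hU : IsUnit (1 + polM τ b) := hN.isUnit_one_add
  refine ⟨commute_cay hU (polM_commute τ b), ?_, cay_preserves hU (antiAdj_polM_of_odd hτ hn hnil hb)⟩
  -- `G - 1 = - 2 X P`
  obtain ⟨_, _, h4⟩ := cay_data h2 hU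
  have h5 : cay (polM τ b) - 1 = - ((2 : F) • (polM τ b * (1 + polM τ b)⁻¹)) := by
    rw [← h4]; abel
  rw [h5]
  apply IsNilpotent.neg
  rw [← smul_mul_assoc]
  apply Commute.isNilpotent_mul_right
  · apply Commute.symm
    apply commute_inv_left hU
    have : Commute (1 + polM τ b) (polM τ b) := (Commute.one_left _).add_left (Commute.refl _)
    exact this.smul_right _
  · exact IsNilpotent.smul hN _

include h2 hτ hn hnil hreg in
lemma exists_odd_of_good {G : MatS m F} (hG : GoodSp τ G) :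
    ∃ b : Fin (Fintype.card (Fin m ⊕ Fin m)) → F,
      (∀ i : Fin (Fintype.card (Fin m ⊕ Fin m)), Even (i : ℕ) → b i = 0) ∧ cay (polM τ b) = G := by
  obtain ⟨hc, hN, hp⟩ := hG
  have hU := isUnit_one_add_of_sub_one_nilpotent h2 hN
  have hcc : Commute (cay G) τ := commute_cay hU hc
  obtain ⟨b, hb⟩ := exists_polM_eq_of_commute hn hnil hreg _ hcc
  have hanti : AntiAdj (cay G) := cay_antiAdj h2 hU hp
  refine ⟨b, ?_, ?_⟩
  · -- `b* = - b`
    have h3 : polM τ (astar b) = polM τ (-b) := by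
      have h4 : polM τ (-b) = - polM τ b := by
        simp [polM, Finset.sum_neg_distrib]
      rw [h4]
      apply mulVecLin_injective'
      apply LinearMap.ext
      intro y
      simp only [Matrix.mulVecLin_apply, Matrix.neg_mulVec]
      have hz : polM τ (astar b) *ᵥ y + polM τ b *ᵥ y = 0 := by
        apply sympForm_left_eq_zero
        intro x
        rw [sympForm_comm, sympForm_add_right, ← adj_polM hτ]
        have h5 := hanti x y
        rw [hb] at h5
        rw [h5]
        ring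
      exact eq_neg_of_add_eq_zero_left hz
    have h5 := polM_injective hn hnil hreg h3
    intro i hi
    have h6 := congrFun h5 i
    simp only [astar, hi.neg_one_pow, one_mul, Pi.neg_apply] at h6
    have h7 : (2 : F) * b i = 0 := by linear_combination h6
    exact (mul_eq_zero.1 h7).resolve_left h2
  · rw [← hb, cay_cay h2 hU]

include hτ hn hnil in
lemma polM_constant_sq (a : Fin (Fintype.card (Fin m ⊕ Fin m)) → F)
    (hp : ∀ x y, Cfsg.sympForm m F (polM τ a *ᵥ x) (polM τ a *ᵥ y) = Cfsg.sympForm m F x y) :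
    (a ⟨0, by omega⟩) ^ 2 = 1 := by
  set c := a ⟨0, by omega⟩ with hc
  have hG : polM τ (astar a) * polM τ a = 1 := by
    apply mulVecLin_injective'
    apply LinearMap.ext
    intro y
    simp only [Matrix.mulVecLin_apply, Matrix.one_mulVec, ← Matrix.mulVec_mulVec]
    have hz : polM τ (astar a) *ᵥ (polM τ a *ᵥ y) - y = 0 := by
      apply sympForm_left_eq_zero
      intro x
      rw [sympForm_comm, sympForm_sub_right, ← adj_polM hτ, hp]
      ring
    exact sub_eq_zero.1 hz
  have hN1 := polM_sub_nilpotent hn hnil a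
  have hN2 := polM_sub_nilpotent hn hnil (astar a)
  have hc2 : astar a ⟨0, by omega⟩ = c := by simp [astar, hc]
  rw [hc2] at hN2
  rw [← hc] at hN1
  have hcomm : Commute (polM τ (astar a) - c • (1 : MatS m F)) (polM τ a - c • (1 : MatS m F)) := by
    have h1 : Commute (polM τ (astar a)) (polM τ a) := by
      apply Commute.sum_right
      intro i _
      exact ((polM_commute τ (astar a)).pow_right _).smul_right _
    have h3 : ∀ X : MatS m F, Commute X (c • (1 : MatS m F)) := fun X => (Commute.one_right X).smul_right c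
    exact (h1.sub_left (h3 _).symm).sub_right ((h3 _).sub_left (Commute.refl _))
  have hN3 := hcomm.isNilpotent_add hN2 hN1
  -- products
  have hE : polM τ (astar a) * polM τ a - (c ^ 2) • (1 : MatS m F) =
      (polM τ (astar a) - c • (1 : MatS m F)) * polM τ a + c • (polM τ a - c • (1 : MatS m F)) := by
    simp only [sub_mul, smul_mul_assoc, one_mul, smul_sub, smul_smul, pow_two]
    abel
  have hN4 : IsNilpotent (polM τ (astar a) * polM τ a - (c ^ 2) • (1 : MatS m F)) := by
    rw [hE]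
    have hc3 : Commute ((polM τ (astar a) - c • (1 : MatS m F)) * polM τ a) (c • (polM τ a - c • (1 : MatS m F))) := by
      have h1 : Commute (polM τ (astar a)) (polM τ a) := by
        apply Commute.sum_right
        intro i _
        exact ((polM_commute τ (astar a)).pow_right _).smul_right _
      have h3 : ∀ X : MatS m F, Commute X (c • (1 : MatS m F)) := fun X => (Commute.one_right X).smul_right c
      apply Commute.smul_right
      apply Commute.mul_left
      · exact hcomm
      · exact (Commute.refl _).sub_right (h3 _)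
    apply hc3.isNilpotent_add
    · apply Commute.isNilpotent_mul_right
      · have h1 : Commute (polM τ (astar a)) (polM τ a) := by
          apply Commute.sum_right
          intro i _
          exact ((polM_commute τ (astar a)).pow_right _).smul_right _
        have h3 : ∀ X : MatS m F, Commute X (c • (1 : MatS m F)) := fun X => (Commute.one_right X).smul_right c
        exact h1.sub_left (h3 _).symm
      · exact hN2
    · exact IsNilpotent.smul hN1 _
  rw [hG] at hN4
  have hne : Nonempty (Fin m ⊕ Fin m) := Fintype.card_pos_iff.1 hn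
  by_contra hcon
  have hne0 : (1 : F) - c ^ 2 ≠ 0 := fun h => hcon (sub_eq_zero.1 h).symm
  have hu : IsUnit ((1 : MatS m F) - (c ^ 2) • (1 : MatS m F)) := by
    have : (1 : MatS m F) - (c ^ 2) • (1 : MatS m F) = algebraMap F _ (1 - c ^ 2) := by
      rw [Algebra.algebraMap_eq_smul_one, sub_smul, one_smul]
    rw [this]
    exact (IsUnit.mk0 _ hne0).map _
  exact hN4.not_isUnit hu

end tau

lemma card_symp_index : Fintype.card (Fin m ⊕ Fin m) = 2 * m := by
  simp [two_mul]

/-- the anti-self-adjoint element attached to a regular unipotent element -/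
lemma tau_facts (h2 : (2 : F) ≠ 0) (hm : 1 ≤ m) (u : Matrix.symplecticGroup (Fin m) F)
    (hnil : ((u : MatS m F) - 1) ^ (2 * m) = 0) (hreg : ((u : MatS m F) - 1).rank = 2 * m - 1) :
    AntiAdj ((u : MatS m F) - ((u⁻¹ : Matrix.symplecticGroup (Fin m) F) : MatS m F)) ∧
    ((u : MatS m F) - ((u⁻¹ : Matrix.symplecticGroup (Fin m) F) : MatS m F)) ^ Fintype.card (Fin m ⊕ Fin m) = 0 ∧
    ((u : MatS m F) - ((u⁻¹ : Matrix.symplecticGroup (Fin m) F) : MatS m F)).rank = Fintype.card (Fin m ⊕ Fin m) - 1 ∧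
    ∀ X : MatS m F, Commute X (u : MatS m F) ↔ Commute X ((u : MatS m F) - ((u⁻¹ : Matrix.symplecticGroup (Fin m) F) : MatS m F)) := by
  set U : MatS m F := (u : MatS m F) with hU
  set U' : MatS m F := ((u⁻¹ : Matrix.symplecticGroup (Fin m) F) : MatS m F) with hU'
  have h1 : U * U' = 1 := congrArg Subtype.val (mul_inv_cancel u)
  have h1' : U' * U = 1 := congrArg Subtype.val (inv_mul_cancel u)
  have hp : ∀ x y, Cfsg.sympForm m F (U *ᵥ x) (U *ᵥ y) = Cfsg.sympForm m F x y := sympForm_mulVec u.2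
  have hp' : ∀ x y, Cfsg.sympForm m F (U' *ᵥ x) (U' *ᵥ y) = Cfsg.sympForm m F x y := sympForm_mulVec (u⁻¹).2
  have hadj : ∀ x y, Cfsg.sympForm m F (U *ᵥ x) y = Cfsg.sympForm m F x (U' *ᵥ y) := by
    intro x y
    conv_lhs => rw [← Matrix.one_mulVec y, ← h1, ← Matrix.mulVec_mulVec]
    rw [hp]
  have hadj' : ∀ x y, Cfsg.sympForm m F (U' *ᵥ x) y = Cfsg.sympForm m F x (U *ᵥ y) := by
    intro x y
    conv_lhs => rw [← Matrix.one_mulVec y, ← h1', ← Matrix.mulVec_mulVec]
    rw [hp']
  have hcard := card_symp_index (m := m)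
  have hn : 1 ≤ Fintype.card (Fin m ⊕ Fin m) := by omega
  have hN : IsNilpotent (U - 1) := ⟨2 * m, hnil⟩
  have hUunit : IsUnit (1 + U) := isUnit_one_add_of_sub_one_nilpotent h2 hN
  have hU'unit : IsUnit U' := ⟨⟨U', U, h1', h1⟩, rfl⟩
  have hUU' : Commute U U' := h1.trans h1'.symm
  let V := (1 + U) * U'
  have hVunit : IsUnit V := hUunit.mul hU'unit
  have hτV : U - U' = (U - 1) * V := by
    simp only [V]
    calc U - U' = U * (U * U') - U' := by rw [h1, mul_one]
      _ = (U - 1) * ((1 + U) * U') := by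
        simp only [mul_add, sub_mul, add_mul, mul_one, one_mul, Matrix.mul_assoc]
        abel
  have hcNV : Commute (U - 1) V := by
    have h3 : Commute (U - 1) (1 + U) := by
      apply Commute.sub_left
      · exact ((Commute.one_right U).add_right (Commute.refl U))
      · exact (Commute.one_left _)
    apply h3.mul_right
    exact hUU'.sub_left (Commute.one_left _)
  refine ⟨?_, ?_, ?_, ?_⟩
  · intro x y
    simp only [Matrix.sub_mulVec, sympForm_sub_left, sympForm_sub_right, hadj, hadj']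
    ring
  · rw [hτV, hcNV.mul_pow, hcard, hnil, zero_mul]
  · rw [hτV, Matrix.rank_mul_eq_left_of_isUnit_det _ _ ((Matrix.isUnit_iff_isUnit_det V).1 hVunit), hreg, hcard]
  · intro X
    constructor
    · intro hX
      apply hX.sub_right
      have : U' = (⟨U, U', h1, h1'⟩ : (MatS m F)ˣ)⁻¹.val := rfl
      rw [this]
      exact Commute.units_inv_right hX
    · intro hX
      have hc : Commute U (U - U') := (Commute.refl U).sub_right hUU'
      have hτreg : (U - U').rank = Fintype.card (Fin m ⊕ Fin m) - 1 := by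
        rw [hτV, Matrix.rank_mul_eq_left_of_isUnit_det _ _ ((Matrix.isUnit_iff_isUnit_det V).1 hVunit), hreg, hcard]
      have hτnil : (U - U') ^ Fintype.card (Fin m ⊕ Fin m) = 0 := by
        rw [hτV, hcNV.mul_pow, hcard, hnil, zero_mul]
      obtain ⟨b, hb⟩ := exists_polM_eq_of_commute hn hτnil hτreg U hc
      rw [hb]
      apply Commute.sum_right
      intro i _
      exact (hX.pow_right _).smul_right _

end symp

end Cfsg.Agent.H11
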