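import Mathlib
import Cfsg.Agent.Lib.H10.Singer

/-! Element orders in `GL_n` over a finite field: degrees of prime power orders, blocks. -/

set_option autoImplicit false
set_option linter.unusedSectionVars false
set_option linter.unusedVariables false

namespace Cfsg.Agent.H11.Spec

open Polynomial Matrix Module

section groups

variable {G : Type*} [Group G] [Finite G]

theorem exists_order_of_dvd (x : G) {d : ℕ} (h : d ∣ orderOf x) : ∃ y : G, orderOf y = d :=
  ⟨x ^ (orderOf x / d), orderOf_pow_orderOf_div (orderOf_pos x).ne' h⟩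

/-- a prime power dividing the order of a tuple divides the order of an entry -/
theorem pi_pow_dvd {ι : Type*} (f : ι → G) {p e : ℕ} (hp : p.Prime) (he : 1 ≤ e)
    (h : p ^ e ∣ orderOf f) (hpos : orderOf f ≠ 0) : ∃ i, p ^ e ∣ orderOf (f i) := by
  by_contra hcon
  push Not at hcon
  obtain ⟨w, m', hm', hm⟩ := Nat.exists_eq_pow_mul_and_not_dvd hpos p hp.ne_one
  have hwe : e ≤ w := by
    rw [hm] at h
    have : p ^ e ∣ p ^ w := (Nat.Coprime.dvd_of_dvd_mul_right
      (Nat.Coprime.pow_left e ((Nat.Prime.coprime_iff_not_dvd hp).2 hm')) h)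
    exact (Nat.pow_dvd_pow_iff_le_right hp.one_lt).1 this
  have key : f ^ (p ^ (e - 1) * m') = 1 := by
    funext i
    rw [Pi.pow_apply, Pi.one_apply, ← orderOf_dvd_iff_pow_eq_one]
    have h1 : orderOf (f i) ∣ orderOf f := by
      apply orderOf_dvd_of_pow_eq_one
      have := congrFun (pow_orderOf_eq_one f) i
      simpa using this
    rw [hm] at h1
    obtain ⟨a, b, ha, hb, hab⟩ := (Nat.dvd_mul).1 h1
    obtain ⟨c, hc, rfl⟩ := (Nat.dvd_prime_pow hp).1 ha
    have hce : c < e := by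
      by_contra hce
      push Not at hce
      apply hcon i
      rw [← hab]
      exact Dvd.dvd.mul_right (pow_dvd_pow p hce) b
    rw [← hab]
    exact Nat.mul_dvd_mul (pow_dvd_pow p (by omega)) hb
  have h2 := orderOf_dvd_of_pow_eq_one key
  rw [hm] at h2
  have hm0 : 0 < m' := Nat.pos_of_ne_zero (by
    rintro rfl
    exact hm' (dvd_zero p))
  have h3 : p ^ w ∣ p ^ (e - 1) := Nat.dvd_of_mul_dvd_mul_right hm0 h2
  have h4 := (Nat.pow_dvd_pow_iff_le_right hp.one_lt).1 h3
  omega

end groups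

section degree

variable {F : Type*} [Field F] [Fintype F]

/-- A prime power element order in `GL_n(q)`, prime to the characteristic, divides `q^d - 1`, `d ≤ n`. -/
theorem exists_degree {n : ℕ} (A : GL (Fin n) F) {r e : ℕ} (hr : r.Prime) (he : 1 ≤ e)
    (hrF : (r : F) ≠ 0) (h : r ^ e ∣ orderOf A) :
    ∃ d, 1 ≤ d ∧ d ≤ n ∧ r ^ e ∣ Fintype.card F ^ d - 1 := by
  classical
  haveI : Fact r.Prime := ⟨hr⟩
  obtain ⟨B, hB⟩ := exists_order_of_dvd A h
  let b : Matrix (Fin n) (Fin n) F := (B : Matrix (Fin n) (Fin n) F)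
  have hbpow : ∀ t : ℕ, b ^ t = ((B ^ t : GL (Fin n) F) : Matrix (Fin n) (Fin n) F) := fun t => by
    simp [b]
  have he' : e = (e - 1) + 1 := by omega
  set Q : F[X] := X ^ (r ^ (e - 1)) - 1 with hQ
  set Φ : F[X] := ∑ j ∈ Finset.range r, (X ^ (r ^ (e - 1))) ^ j with hΦ
  have hP : Φ * Q = X ^ (r ^ e) - 1 := by
    rw [hΦ, hQ, geom_sum_mul, ← pow_mul, ← pow_succ, ← he']
  have hrpow : ((r ^ e : ℕ) : F) ≠ 0 := by
    rw [Nat.cast_pow]
    exact pow_ne_zero _ hrF
  have hsep : (X ^ (r ^ e) - C (1 : F)).Separable := separable_X_pow_sub_C (1 : F) hrpow one_ne_zero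
  rw [C_1] at hsep
  have hcop : IsCoprime Φ Q := by
    rw [← hP] at hsep
    exact hsep.isCoprime
  set M := minpoly F b with hM
  have hint : IsIntegral F b := Algebra.IsIntegral.isIntegral b
  have hMdiv : M ∣ Φ * Q := by
    rw [hP]
    apply minpoly.dvd
    simp only [map_sub, map_pow, aeval_X, map_one]
    rw [hbpow, ← hB, pow_orderOf_eq_one]
    simp
  have hMQ : ¬ M ∣ Q := by
    intro hd
    have h0 : aeval b Q = 0 := by
      obtain ⟨c, hc⟩ := hd
      rw [hc, map_mul, minpoly.aeval, zero_mul]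
    have h1 : b ^ (r ^ (e - 1)) = 1 := by
      have : aeval b Q = b ^ (r ^ (e - 1)) - 1 := by
        simp [hQ]
      rw [this] at h0
      exact sub_eq_zero.1 h0
    have h2 : B ^ (r ^ (e - 1)) = 1 := by
      apply Units.ext
      rw [← hbpow]
      simpa using h1
    have h3 := orderOf_dvd_of_pow_eq_one h2
    rw [hB] at h3
    have := (Nat.pow_dvd_pow_iff_le_right hr.one_lt).1 h3
    omega
  have hnc : ¬ IsCoprime M Φ := by
    intro hc
    exact hMQ (hc.dvd_of_dvd_mul_left hMdiv)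
  -- an irreducible common factor
  have hM0 : M ≠ 0 := minpoly.ne_zero hint
  have hg : ¬ IsUnit (EuclideanDomain.gcd M Φ) := by
    intro hu
    apply hnc
    exact EuclideanDomain.gcd_isUnit_iff.1 hu
  have hg0 : EuclideanDomain.gcd M Φ ≠ 0 := by
    intro h0
    have := EuclideanDomain.gcd_eq_zero_iff.1 h0
    exact hM0 this.1
  obtain ⟨R, hRi, hRd⟩ := WfDvdMonoid.exists_irreducible_factor hg hg0
  have hRM : R ∣ M := hRd.trans (EuclideanDomain.gcd_dvd_left M Φ)
  have hRΦ : R ∣ Φ := hRd.trans (EuclideanDomain.gcd_dvd_right M Φ)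
  have hRQ : ¬ R ∣ Q := by
    intro hd
    exact hRi.not_isUnit (hcop.isUnit_of_dvd' hRΦ hd)
  have hRdeg : R.natDegree ≤ n := by
    have h1 : M ∣ b.charpoly := Matrix.minpoly_dvd_charpoly b
    have h2 : R ∣ b.charpoly := hRM.trans h1
    have h3 := natDegree_le_of_dvd h2 (Matrix.charpoly_monic b).ne_zero
    rwa [Matrix.charpoly_natDegree_eq_dim, Fintype.card_fin] at h3
  haveI : Fact (Irreducible R) := ⟨hRi⟩
  let K := AdjoinRoot R
  have hR0 : R ≠ 0 := hRi.ne_zero
  have hdeg0 : R.natDegree ≠ 0 := by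
    intro h0
    have := Polynomial.eq_C_of_natDegree_eq_zero h0
    have hu : IsUnit R := by
      rw [this]
      apply Polynomial.isUnit_C.2
      apply IsUnit.mk0
      intro hc
      apply hR0
      rw [this, hc, C_0]
    exact hRi.not_isUnit hu
  let pb := AdjoinRoot.powerBasis hR0
  haveI : Module.Finite F K := pb.finite
  have hfin : Module.finrank F K = R.natDegree := by
    rw [pb.finrank]
    exact AdjoinRoot.powerBasis_dim hR0
  haveI : Finite K := Module.finite_of_finite F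
  haveI : Fintype K := Fintype.ofFinite K
  have hcard : Fintype.card K = Fintype.card F ^ R.natDegree := by
    rw [← hfin]
    exact Module.card_eq_pow_finrank (K := F) (V := K)
  let x : K := AdjoinRoot.root R
  have hx : ∀ f : F[X], aeval x f = AdjoinRoot.mk R f := fun f => AdjoinRoot.aeval_eq f
  have hxΦ : aeval x Φ = 0 := by
    rw [hx]
    exact AdjoinRoot.mk_eq_zero.2 hRΦ
  have hxQ : aeval x Q ≠ 0 := by
    rw [hx]
    intro h0
    exact hRQ (AdjoinRoot.mk_eq_zero.1 h0)
  have hx1 : x ^ (r ^ e) = 1 := by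
    have : aeval x (Φ * Q) = 0 := by rw [map_mul, hxΦ, zero_mul]
    rw [hP] at this
    simp only [map_sub, map_pow, aeval_X, map_one] at this
    exact sub_eq_zero.1 this
  have hx2 : x ^ (r ^ (e - 1)) ≠ 1 := by
    intro h0
    apply hxQ
    simp only [hQ, map_sub, map_pow, aeval_X, map_one]
    rw [h0, sub_self]
  have hxo : orderOf x = r ^ e := by
    have := orderOf_eq_prime_pow (p := r) (n := e - 1) (x := x) hx2 (by rw [← he']; exact hx1)
    rw [this, ← he']
  have hx0 : x ≠ 0 := by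
    intro h0
    rw [h0, zero_pow (pow_ne_zero _ hr.ne_zero)] at hx1
    exact zero_ne_one hx1
  refine ⟨R.natDegree, Nat.pos_of_ne_zero hdeg0, hRdeg, ?_⟩
  rw [← hxo, ← hcard]
  exact orderOf_dvd_of_pow_eq_one (FiniteField.pow_card_sub_one_eq_one x hx0)

/-- a unit of an algebra of rank `n` gives a matrix unit of the same order -/
theorem exists_GL_of_unit {n : ℕ} {𝔸 : Type*} [Ring 𝔸] [Algebra F 𝔸] [Module.Free F 𝔸] [Module.Finite F 𝔸]
    (hn : Module.finrank F 𝔸 = n) (a : 𝔸ˣ) : ∃ A : GL (Fin n) F, orderOf A = orderOf a := by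
  let b := Module.finBasisOfFinrankEq F 𝔸 hn
  let φ := Algebra.leftMulMatrix b
  have hinj : Function.Injective φ := Algebra.leftMulMatrix_injective b
  refine ⟨Units.map (φ : 𝔸 →* Matrix (Fin n) (Fin n) F) a, ?_⟩
  apply orderOf_injective (Units.map (φ : 𝔸 →* Matrix (Fin n) (Fin n) F))
  intro x y hxy
  apply Units.ext
  apply hinj
  exact congrArg Units.val hxy

theorem exists_field_ext (d : ℕ) (hd : 1 ≤ d) :
    ∃ (E : Type) (_ : Field E) (_ : Fintype E) (_ : Algebra F E),
      Fintype.card E = Fintype.card F ^ d ∧ Module.finrank F E = d := by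
  obtain ⟨E, h1, h2, h3, h4, h5, -⟩ := Cfsg.Agent.H10.exists_field_matrix F d hd
  exact ⟨E, h1, h2, h3, h4, h5⟩

/-- Singer element -/
theorem exists_singer {n : ℕ} (hn : 1 ≤ n) : ∃ A : GL (Fin n) F, orderOf A = Fintype.card F ^ n - 1 := by
  classical
  obtain ⟨E, _, _, _, h4, h5⟩ := exists_field_ext (F := F) n hn
  haveI : Module.Finite F E := Module.finite_of_finrank_pos (by omega)
  obtain ⟨g, hg⟩ := IsCyclic.exists_generator (α := Eˣ)
  obtain ⟨A, hA⟩ := exists_GL_of_unit (F := F) h5 g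
  refine ⟨A, ?_⟩
  rw [hA, orderOf_eq_card_of_forall_mem_zpowers hg, Nat.card_eq_fintype_card, Fintype.card_units, h4]

/-- block Singer element -/
theorem exists_block {n d₁ d₂ : ℕ} (h1 : 1 ≤ d₁) (h2 : 1 ≤ d₂) (hn : d₁ + d₂ = n) :
    ∃ A : GL (Fin n) F, orderOf A = Nat.lcm (Fintype.card F ^ d₁ - 1) (Fintype.card F ^ d₂ - 1) := by
  classical
  obtain ⟨E₁, _, _, _, h14, h15⟩ := exists_field_ext (F := F) d₁ h1
  obtain ⟨E₂, _, _, _, h24, h25⟩ := exists_field_ext (F := F) d₂ h2
  haveI : Module.Finite F E₁ := Module.finite_of_finrank_pos (by omega)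
  haveI : Module.Finite F E₂ := Module.finite_of_finrank_pos (by omega)
  obtain ⟨g₁, hg₁⟩ := IsCyclic.exists_generator (α := E₁ˣ)
  obtain ⟨g₂, hg₂⟩ := IsCyclic.exists_generator (α := E₂ˣ)
  have hfr : Module.finrank F (E₁ × E₂) = n := by
    rw [Module.finrank_prod, h15, h25, hn]
  let u : (E₁ × E₂)ˣ := MulEquiv.prodUnits.symm (g₁, g₂)
  obtain ⟨A, hA⟩ := exists_GL_of_unit (F := F) hfr u
  refine ⟨A, ?_⟩
  rw [hA, MulEquiv.orderOf_eq, Prod.orderOf]
  simp only
  rw [orderOf_eq_card_of_forall_mem_zpowers hg₁, orderOf_eq_card_of_forall_mem_zpowers hg₂,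
    Nat.card_eq_fintype_card, Nat.card_eq_fintype_card, Fintype.card_units, Fintype.card_units, h14, h24]

end degree

end Cfsg.Agent.H11.Spec
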