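import Cfsg.Agent.Lib.H11.Spec9
import Cfsg.Agent.Lib.H11.PSpE

/-! Self-dual irreducibles; conjugating into the unitary group. -/

set_option autoImplicit false
set_option linter.unusedSectionVars false
set_option linter.unusedVariables false

namespace Cfsg.Agent.H11.Spec

open Polynomial Matrix Module Cfsg.Agent.H11.GUC

variable {F : Type*} [Field F] [Fintype F] {n q : ℕ}

/-- an involution of a finite field is a power of the Frobenius -/
theorem invol_eq_pow {E : Type*} [Field E] [Fintype E] {p : ℕ} [hpf : Fact p.Prime] [CharP E p] (σ : E →+* E) (hσ2 : ∀ x, σ (σ x) = x)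
    (hσ : ∃ e, σ e ≠ e) : ∃ J, Fintype.card E = (p ^ J) ^ 2 ∧ ∀ x, σ x = x ^ p ^ J := by
  classical
  haveI : Algebra (ZMod p) E := ZMod.algebra E p
  have hinj : Function.Bijective σ :=
    ⟨σ.injective, fun x => ⟨σ x, hσ2 x⟩⟩
  let σR : E ≃+* E := RingEquiv.ofBijective σ hinj
  let σA : E ≃ₐ[ZMod p] E := AlgEquiv.ofRingEquiv (f := σR) (by
    intro a
    have h1 : (σ.comp (algebraMap (ZMod p) E)) = algebraMap (ZMod p) E := Subsingleton.elim _ _
    exact congrArg (fun g : ZMod p →+* E => g a) h1)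
  have hσA : ∀ x, σA x = σ x := fun _ => rfl
  let Fr := FiniteField.frobeniusAlgEquivOfAlgebraic (ZMod p) E
  have hbij := FiniteField.bijective_frobeniusAlgEquivOfAlgebraic_pow (ZMod p) E
  obtain ⟨j, hj⟩ := hbij.2 σA
  obtain ⟨J, hJlt, hj'⟩ : ∃ J : ℕ, J < finrank (ZMod p) E ∧ Fr ^ J = σA := ⟨j.1, j.2, hj⟩
  have hfrob : ∀ (i : ℕ) (x : E), (Fr ^ i) x = x ^ p ^ i := by
    intro i x
    have := Cfsg.Agent.H11.PSpG.frob_pow (F := ZMod p) (E := E) i x
    rwa [ZMod.card] at this
  have hσp : ∀ x, σ x = x ^ p ^ J := by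
    intro x
    rw [← hfrob, hj']
    rfl
  have hcard : Fintype.card E = p ^ finrank (ZMod p) E := by
    have := Module.card_eq_pow_finrank (K := ZMod p) (V := E)
    rw [ZMod.card] at this
    exact this
  have hm1 : Fr ^ finrank (ZMod p) E = 1 := by
    ext x
    rw [hfrob, ← hcard, FiniteField.pow_card]
    rfl
  have hj0 : J ≠ 0 := by
    intro h
    obtain ⟨e, he⟩ := hσ
    apply he
    rw [hσp, h]
    simp
  have h2j : Fr ^ (2 * J) = 1 := by
    ext x
    rw [hfrob, two_mul, pow_add, pow_mul, ← hσp, ← hσp, hσ2]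
    rfl
  have hinjF := hbij.1
  have hm_eq : 2 * J = finrank (ZMod p) E := by
    by_contra hne
    rcases lt_or_gt_of_ne hne with hlt | hgt
    · have : (⟨2 * J, hlt⟩ : Fin (finrank (ZMod p) E)) = ⟨0, by omega⟩ := by
        apply hinjF
        change Fr ^ (2 * J) = Fr ^ 0
        rw [h2j, pow_zero]
      have h5 : 2 * J = 0 := congrArg Fin.val this
      omega
    · have hsub : 2 * J - finrank (ZMod p) E < finrank (ZMod p) E := by omega
      have h3 : Fr ^ (2 * J - finrank (ZMod p) E) = 1 := by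
        have h4 : Fr ^ (2 * J) = Fr ^ (2 * J - finrank (ZMod p) E) * Fr ^ finrank (ZMod p) E := by
          rw [← pow_add, Nat.sub_add_cancel hgt.le]
        rw [h2j, hm1, mul_one] at h4
        exact h4.symm
      have : (⟨2 * J - finrank (ZMod p) E, hsub⟩ : Fin (finrank (ZMod p) E)) = ⟨0, by omega⟩ := by
        apply hinjF
        change Fr ^ (2 * J - finrank (ZMod p) E) = Fr ^ 0
        rw [h3, pow_zero]
      have h5 : 2 * J - finrank (ZMod p) E = 0 := congrArg Fin.val this
      omega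
  refine ⟨J, ?_, hσp⟩
  rw [hcard, ← pow_mul, mul_comm J, hm_eq]

section selfdual

variable {ρ : F →+* F}

/-- a self-dual irreducible polynomial: the root has order dividing `q^d + 1`, and `d` is odd -/
theorem selfdual_facts (hρq : ∀ x, ρ x = x ^ q) (hρ : ∀ x, ρ (ρ x) = x) (hne : ∃ c, ρ c ≠ c) (hF : Fintype.card F = q ^ 2)
    {p a : ℕ} [hpf : Fact p.Prime] [CharP F p] (hq : q = p ^ a) (ha : 1 ≤ a)
    {P : F[X]} (hP : Irreducible P) (hg : GoodP P) (hd : dag ρ P = P) :
    Odd P.natDegree ∧ P ∣ X ^ (q ^ P.natDegree + 1) - 1 := by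
  classical
  haveI : Fact (Irreducible P) := ⟨hP⟩
  let pb := AdjoinRoot.powerBasis hP.ne_zero
  haveI : Module.Finite F (AdjoinRoot P) := pb.finite
  have hfin : Module.finrank F (AdjoinRoot P) = P.natDegree := by
    rw [pb.finrank]
    exact AdjoinRoot.powerBasis_dim hP.ne_zero
  haveI : Finite (AdjoinRoot P) := Module.finite_of_finite F
  letI : Fintype (AdjoinRoot P) := Fintype.ofFinite _
  have hcard : Fintype.card (AdjoinRoot P) = (q ^ P.natDegree) ^ 2 := by
    have := Module.card_eq_pow_finrank (K := F) (V := AdjoinRoot P)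
    rw [hfin, hF] at this
    rw [this]
    ring
  haveI : CharP (AdjoinRoot P) p := charP_of_injective_algebraMap (algebraMap F (AdjoinRoot P)).injective p
  set θ := AdjoinRoot.root P with hθ
  have hθ0 : θ ≠ 0 := by
    intro h
    have h1 : AdjoinRoot.mk P X = 0 := h
    rw [AdjoinRoot.mk_eq_zero] at h1
    exact hg.2 (Polynomial.X_dvd_iff.1 ((hP.dvd_symm irreducible_X h1)))
  let i₀ : F →+* AdjoinRoot P := (AdjoinRoot.of P).comp ρ
  have hroot : eval₂ i₀ θ⁻¹ P = 0 := by
    -- from self-duality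
    have h1 : aeval θ (dag ρ P) = 0 := by
      rw [hd]
      exact AdjoinRoot.aeval_eq P ▸ (by simp [θ])
    unfold dag at h1
    rw [map_mul, aeval_C, aeval_reverse θ θ⁻¹ (mul_inv_cancel₀ hθ0) (inv_mul_cancel₀ hθ0)] at h1
    have h2 : algebraMap F (AdjoinRoot P) (ρ (P.coeff 0))⁻¹ ≠ 0 := by
      rw [_root_.map_ne_zero]
      exact inv_ne_zero ((_root_.map_ne_zero ρ).2 hg.2)
    have h3 := (mul_eq_zero.1 h1).resolve_left h2
    have h4 := (mul_eq_zero.1 h3).resolve_left (pow_ne_zero _ hθ0)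
    rw [aeval_def, eval₂_map] at h4
    exact h4
  let ι : AdjoinRoot P →+* AdjoinRoot P := AdjoinRoot.lift i₀ θ⁻¹ hroot
  have hιroot : ι θ = θ⁻¹ := AdjoinRoot.lift_root hroot
  have hιof : ∀ c : F, ι (AdjoinRoot.of P c) = AdjoinRoot.of P (ρ c) := fun c => AdjoinRoot.lift_of hroot
  have hι2 : ∀ x, ι (ι x) = x := by
    have h1 : ι.comp ι = RingHom.id _ := by
      apply Ideal.Quotient.ringHom_ext
      apply Polynomial.ringHom_ext
      · intro c
        change ι (ι (AdjoinRoot.of P c)) = AdjoinRoot.of P c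
        rw [hιof, hιof, hρ]
      · change ι (ι θ) = θ
        rw [hιroot, map_inv₀, hιroot, inv_inv]
    intro x
    exact congrArg (fun f : AdjoinRoot P →+* AdjoinRoot P => f x) h1
  have hιne : ∃ e, ι e ≠ e := by
    obtain ⟨c, hc⟩ := hne
    refine ⟨AdjoinRoot.of P c, ?_⟩
    rw [hιof]
    intro h
    exact hc ((AdjoinRoot.of P).injective h)
  obtain ⟨J, hJ1, hJ2⟩ := invol_eq_pow (p := p) ι hι2 hιne
  have hJq : p ^ J = q ^ P.natDegree := by
    have h1 : (p ^ J) ^ 2 = (q ^ P.natDegree) ^ 2 := by rw [← hJ1, hcard]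
    exact Nat.pow_left_injective (n := 2) (by norm_num) h1
  have hι : ∀ x, ι x = x ^ q ^ P.natDegree := fun x => by rw [hJ2, hJq]
  have hq1 : ∀ c : F, c ^ q ^ 2 = c := by
    intro c
    rw [← hF]
    exact FiniteField.pow_card c
  constructor
  · by_contra hodd
    have heven : Even P.natDegree := Nat.not_odd_iff_even.1 hodd
    obtain ⟨k, hk⟩ := heven
    obtain ⟨c, hc⟩ := hne
    apply hc
    have h1 := hιof c
    rw [hι, ← map_pow] at h1
    have h2 := (AdjoinRoot.of P).injective h1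
    rw [h2.symm]
    rw [hk, ← two_mul, pow_mul]
    have : ∀ j : ℕ, c ^ (q ^ 2) ^ j = c := by
      intro j
      induction j with
      | zero => simp
      | succ j ih => rw [pow_succ, pow_mul, ih, hq1]
    rw [this]
  · have h1 : θ ^ (q ^ P.natDegree + 1) = 1 := by
      rw [pow_succ, ← hι, hιroot, inv_mul_cancel₀ hθ0]
    rw [← AdjoinRoot.mk_eq_zero]
    simp only [map_sub, map_pow, AdjoinRoot.mk_X, map_one]
    rw [h1, sub_self]

end selfdual

/-- the dual of the characteristic polynomial -/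
theorem charpoly_dag (ρ : F →+* F) (hρ : ∀ x, ρ (ρ x) = x) (X₀ : Matrix (Fin n) (Fin n) F) (hu : IsUnit X₀) :
    ((dg ρ X₀)⁻¹).charpoly = dag ρ X₀.charpoly := by
  have hX : (dg ρ X₀).charpoly = X₀.charpoly.map ρ := by
    unfold dg
    rw [Matrix.charpoly_transpose, Matrix.charpoly_map]
  have hdgu : IsUnit (dg ρ X₀) := by
    obtain ⟨u, hu⟩ := hu
    refine IsUnit.of_mul_eq_one (dg ρ (u⁻¹ : (Matrix (Fin n) (Fin n) F)ˣ).1) ?_
    rw [← dg_mul, ← hu, ← Units.val_mul, inv_mul_cancel, Units.val_one, dg_one]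
  have h3 := Matrix.charpoly_inv (dg ρ X₀) hdgu
  rw [h3, ← Matrix.reverse_charpoly, hX, Ring.inverse_eq_inv', Fintype.card_fin]
  unfold dag
  have hc : ρ (X₀.charpoly.coeff 0) = (dg ρ X₀).charpoly.coeff 0 := by
    rw [hX, coeff_map]
  rw [hc, Matrix.det_eq_sign_charpoly_coeff (dg ρ X₀), Fintype.card_fin]
  have hdet0 : (dg ρ X₀).charpoly.coeff 0 ≠ 0 := by
    intro h0
    have h4 := Matrix.det_eq_sign_charpoly_coeff (dg ρ X₀)
    rw [h0, mul_zero] at h4
    exact ((Matrix.isUnit_iff_isUnit_det _).1 hdgu).ne_zero h4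
  congr 1
  have hs : ((-1 : F) ^ n) * ((-1 : F) ^ n) = 1 := by
    rw [← mul_pow]
    simp
  have hs0 : ((-1 : F) ^ n) ≠ 0 := pow_ne_zero _ (by simp)
  have hs2 : ((-1 : F[X]) ^ n) = C ((-1 : F) ^ n) := by
    simp
  rw [hs2, ← C_mul, mul_inv, ← mul_assoc, mul_inv_cancel₀ hs0, one_mul]

/-- charpoly of a matrix whose minimal polynomial is irreducible -/
theorem charpoly_of_irr (A : Matrix (Fin n) (Fin n) F) (hP : Irreducible (minpoly F A)) :
    ∃ k, A.charpoly = (minpoly F A) ^ k := by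
  apply charpoly_eq_pow _ _ hP
  have e : ∀ B : Matrix (Fin n) (Fin n) F, Matrix.toLin' B = (Matrix.toLinAlgEquiv' (R := F) (n := Fin n)) B :=
    fun B => LinearMap.ext fun v => by rw [Matrix.toLinAlgEquiv'_apply, Matrix.toLin'_apply]
  apply Module.End.isSemisimple_of_squarefree_aeval_eq_zero hP.squarefree
  rw [e]
  have := Polynomial.aeval_algHom_apply (Matrix.toLinAlgEquiv' (R := F) (n := Fin n)).toAlgHom A (minpoly F A)
  rw [minpoly.aeval, map_zero] at this
  exact this

/-- an irreducible factor of the characteristic polynomial of a semisimple matrix divides the minimal polynomial -/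
theorem irr_dvd_minpoly (A : Matrix (Fin n) (Fin n) F) (hss : Module.End.IsSemisimple (Matrix.toLin' A))
    {R : F[X]} (hR : Irreducible R) (hRd : R ∣ A.charpoly) : R ∣ minpoly F A := by
  classical
  rw [← Cfsg.Agent.H10.charpoly_toLin'_eq] at hRd
  obtain ⟨v, hv, hv0⟩ := Cfsg.Agent.H10.exists_ker_of_dvd_charpoly n (Fin n → F) (Matrix.toLin' A) (by simp) hss R hR hRd
  by_contra hnd
  have hco : IsCoprime R (minpoly F A) := (hR.coprime_iff_not_dvd).2 hnd
  obtain ⟨a, b, hab⟩ := hco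
  have hal : ∀ f : F[X], aeval (Matrix.toLin' A) f = Matrix.toLin' (aeval A f) := by
    intro f
    have e : ∀ B : Matrix (Fin n) (Fin n) F, Matrix.toLin' B = (Matrix.toLinAlgEquiv' (R := F) (n := Fin n)) B :=
      fun B => LinearMap.ext fun v => by rw [Matrix.toLinAlgEquiv'_apply, Matrix.toLin'_apply]
    rw [e, e]
    exact Polynomial.aeval_algHom_apply (Matrix.toLinAlgEquiv' (R := F) (n := Fin n)).toAlgHom A f
  apply hv
  have h1 : aeval (Matrix.toLin' A) (a * R + b * minpoly F A) v = v := by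
    rw [hab, map_one]
    rfl
  rw [← h1, map_add, map_mul, map_mul, LinearMap.add_apply]
  have h2 : aeval (Matrix.toLin' A) (minpoly F A) = 0 := by
    rw [hal, minpoly.aeval, map_zero]
  rw [h2, mul_zero, LinearMap.zero_apply, add_zero, Module.End.mul_apply, hv0, map_zero]

theorem dag_one (ρ : F →+* F) : dag ρ (1 : F[X]) = 1 := by
  have e : (reverse (1 : F[X])) = 1 := by rw [← C_1, reverse_C]
  unfold dag
  simp [e]

theorem dag_pow (ρ : F →+* F) (f : F[X]) (k : ℕ) : dag ρ (f ^ k) = (dag ρ f) ^ k := by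
  induction k with
  | zero => simp [dag_one]
  | succ k ih => rw [pow_succ, dag_mul, ih, pow_succ]

/-- the minimal polynomial of the inverse conjugate is the dual polynomial -/
theorem minpoly_dag {K : Type*} [Field K] [Algebra F K] [FiniteDimensional F K] {ρ : F →+* F} (hρ : ∀ x, ρ (ρ x) = x)
    (ι : K →+* K) (hι : ∀ c : F, ι (algebraMap F K c) = algebraMap F K (ρ c)) (x : K) (hx : x ≠ 0) :
    GoodP (minpoly F x) ∧ minpoly F (ι x)⁻¹ = dag ρ (minpoly F x) := by
  have hint : IsIntegral F x := Algebra.IsIntegral.isIntegral x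
  have hg : GoodP (minpoly F x) := ⟨minpoly.monic hint, minpoly.coeff_zero_ne_zero hint hx⟩
  refine ⟨hg, ?_⟩
  have hP : Irreducible (minpoly F x) := minpoly.irreducible hint
  symm
  apply minpoly.eq_of_irreducible_of_monic (dag_irreducible hρ hP hg) _ (dag_monic hg)
  have hy : ι x ≠ 0 := (_root_.map_ne_zero ι).2 hx
  unfold dag
  rw [map_mul, aeval_reverse (ι x)⁻¹ (ι x) (inv_mul_cancel₀ hy) (mul_inv_cancel₀ hy)]
  have h0 : aeval (ι x) ((minpoly F x).map ρ) = 0 := by
    rw [aeval_def, eval₂_map]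
    have e : (algebraMap F K).comp ρ = ι.comp (algebraMap F K) := by
      ext c
      exact (hι c).symm
    rw [e, ← Polynomial.hom_eval₂]
    have := minpoly.aeval F x
    rw [aeval_def] at this
    rw [this, map_zero]
  rw [h0, mul_zero, mul_zero]

/-- a monic polynomial all of whose irreducible factors are `P`, `Q` -/
theorem two_factor {P Q : F[X]} (hP : Irreducible P) (hPm : P.Monic) (hQ : Irreducible Q) (hQm : Q.Monic) :
    ∀ (d : ℕ) (f : F[X]), f.Monic → f.natDegree = d → (∀ R, Irreducible R → R ∣ f → P ∣ R ∨ Q ∣ R) → ∃ a b, f = P ^ a * Q ^ b := by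
  intro d
  induction d using Nat.strong_induction_on with
  | _ d ih =>
    intro f hf hd hall
    by_cases hu : IsUnit f
    · exact ⟨0, 0, by rw [pow_zero, pow_zero, one_mul]; exact hf.eq_one_of_isUnit hu⟩
    · obtain ⟨R, hR, hRd⟩ := WfDvdMonoid.exists_irreducible_factor hu hf.ne_zero
      rcases hall R hR hRd with h1 | h1
      · obtain ⟨g, rfl⟩ := h1.trans hRd
        have hg : g.Monic := hPm.of_mul_monic_left hf
        have hdeg : (P * g).natDegree = P.natDegree + g.natDegree := hPm.natDegree_mul hg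
        have hPdeg : 0 < P.natDegree := hP.natDegree_pos
        obtain ⟨a, b, hk⟩ := ih g.natDegree (by omega) g hg rfl (fun R hR hRd => hall R hR (hRd.trans (Dvd.intro_left _ rfl)))
        exact ⟨a + 1, b, by rw [hk]; ring⟩
      · obtain ⟨g, rfl⟩ := h1.trans hRd
        have hg : g.Monic := hQm.of_mul_monic_left hf
        have hdeg : (Q * g).natDegree = Q.natDegree + g.natDegree := hQm.natDegree_mul hg
        have hQdeg : 0 < Q.natDegree := hQ.natDegree_pos
        obtain ⟨a, b, hk⟩ := ih g.natDegree (by omega) g hg rfl (fun R hR hRd => hall R hR (hRd.trans (Dvd.intro_left _ rfl)))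
        exact ⟨a, b + 1, by rw [hk]; ring⟩

theorem exp_eq {P Q : F[X]} (hP : Irreducible P) (hPm : P.Monic) (hQ : Irreducible Q) (hQm : Q.Monic) (hne : P ≠ Q)
    {a b : ℕ} (h : P ^ a * Q ^ b = Q ^ a * P ^ b) : a = b := by
  have key : ∀ {a b : ℕ}, a < b → P ^ a * Q ^ b = Q ^ a * P ^ b → False := by
    intro a b hab h
    obtain ⟨c, rfl⟩ := Nat.exists_eq_add_of_lt hab
    have hP0 : P ^ a ≠ 0 := pow_ne_zero _ hP.ne_zero
    have hQ0 : Q ^ a ≠ 0 := pow_ne_zero _ hQ.ne_zero
    have h1 : Q ^ (c + 1) = P ^ (c + 1) := by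
      apply mul_left_cancel₀ (mul_ne_zero hP0 hQ0)
      calc P ^ a * Q ^ a * Q ^ (c + 1) = P ^ a * Q ^ (a + c + 1) := by ring
        _ = Q ^ a * P ^ (a + c + 1) := h
        _ = P ^ a * Q ^ a * P ^ (c + 1) := by ring
    have h2 : P ∣ Q ^ (c + 1) := by
      rw [h1]
      exact dvd_pow_self _ (by omega)
    have h3 : P ∣ Q := hP.prime.dvd_of_dvd_pow h2
    exact hne (eq_of_monic_of_associated hPm hQm (hP.associated_of_dvd hQ h3))
  rcases lt_trichotomy a b with h1 | h1 | h1
  · exact (key h1 h).elim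
  · exact h1
  · exact (key h1 (by rw [mul_comm, ← h, mul_comm])).elim

/-- a unitary matrix has a dual-stable characteristic polynomial -/
theorem charpoly_dag_of_unitary (ρ : F →+* F) (hρ : ∀ x, ρ (ρ x) = x) (σ : Matrix (Fin n) (Fin n) F) (hσ : dg ρ σ * σ = 1) :
    dag ρ σ.charpoly = σ.charpoly := by
  have hu : IsUnit σ := IsUnit.of_mul_eq_one (dg ρ σ) (by rw [mul_eq_one_comm]; exact hσ)
  rw [← charpoly_dag ρ hρ σ hu, Matrix.inv_eq_right_inv hσ]

/-- the characteristic polynomial in the pair case -/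
theorem charpoly_pair (ρ : F →+* F) (hρ : ∀ x, ρ (ρ x) = x) (σ : Matrix (Fin n) (Fin n) F) (hσ : dg ρ σ * σ = 1)
    (hss : Module.End.IsSemisimple (Matrix.toLin' σ)) {P : F[X]} (hP : Irreducible P) (hg : GoodP P) (hne : dag ρ P ≠ P)
    (hM : minpoly F σ = P * dag ρ P) : ∃ a, σ.charpoly = (P * dag ρ P) ^ a := by
  classical
  have hQ : Irreducible (dag ρ P) := dag_irreducible hρ hP hg
  have hQm : (dag ρ P).Monic := dag_monic hg
  obtain ⟨a, b, hab⟩ := two_factor hP hg.1 hQ hQm _ σ.charpoly (Matrix.charpoly_monic σ) rfl (by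
    intro R hR hRd
    have h1 := irr_dvd_minpoly σ hss hR hRd
    rw [hM] at h1
    rcases hR.prime.2.2 _ _ h1 with h2 | h2
    · left
      exact hR.dvd_symm hP h2
    · right
      exact hR.dvd_symm hQ h2)
  have h1 := charpoly_dag_of_unitary ρ hρ σ hσ
  rw [hab, dag_mul, dag_pow, dag_pow, dag_dag hρ hg] at h1
  have h2 : a = b := by
    apply exp_eq hP hg.1 hQ hQm (Ne.symm hne)
    rw [← h1]
  refine ⟨a, ?_⟩
  rw [hab, h2, mul_pow]

/-- roots in extensions -/
theorem exists_root_ext {K : Type*} [Field K] [Finite K] [Algebra F K] {P : F[X]} (hP : Irreducible P)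
    (hd : P.natDegree ∣ finrank F K) : ∃ t : K, aeval t P = 0 := by
  classical
  haveI : Fact (Irreducible P) := ⟨hP⟩
  let pb := AdjoinRoot.powerBasis hP.ne_zero
  haveI : Module.Finite F (AdjoinRoot P) := pb.finite
  have hfin : Module.finrank F (AdjoinRoot P) = P.natDegree := by
    rw [pb.finrank]
    exact AdjoinRoot.powerBasis_dim hP.ne_zero
  haveI : Finite (AdjoinRoot P) := Module.finite_of_finite F
  obtain ⟨φ₀⟩ := FiniteField.nonempty_algHom_of_finrank_dvd (F := F) (K := AdjoinRoot P) (L := K) (by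
    rw [hfin]
    exact hd)
  refine ⟨φ₀ (AdjoinRoot.root P), ?_⟩
  have := Polynomial.aeval_algHom_apply φ₀ (AdjoinRoot.root P) P
  rw [AdjoinRoot.aeval_eq, AdjoinRoot.mk_self, map_zero] at this
  exact this

theorem coprime_of_pow_eq_one {M : Type*} [Monoid M] {p : ℕ} (hp : p.Prime) (x : M) (N : ℕ) (hN : x ^ N = 1) (h : ¬ p ∣ N) :
    (orderOf x).Coprime p := by
  apply Nat.Coprime.symm
  apply (Nat.Prime.coprime_iff_not_dvd hp).2
  exact fun hd => h (hd.trans (orderOf_dvd_of_pow_eq_one hN))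

theorem not_dvd_card_sub_one {K : Type*} [Field K] [Fintype K] {p : ℕ} (hp : p.Prime) [CharP K p] : ¬ p ∣ Fintype.card K - 1 := by
  intro hd
  have h3 : p ∣ Fintype.card K := (CharP.cast_eq_zero_iff K p (Fintype.card K)).1 (Nat.cast_card_eq_zero K)
  have h5 : 1 ≤ Fintype.card K := Fintype.card_pos
  have h6 : p ∣ 1 := by
    have := Nat.dvd_sub h3 hd
    rwa [Nat.sub_sub_self h5] at this
  exact hp.one_lt.ne' (Nat.dvd_one.1 h6)

end Cfsg.Agent.H11.Spec
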