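import Cfsg.Agent.Lib.H11.Spec10

/-! The maximal tori of `GU_n` used for the order spectrum of `PSU_n`. -/

set_option autoImplicit false
set_option linter.unusedSectionVars false
set_option linter.unusedVariables false

namespace Cfsg.Agent.H11.Spec

open Polynomial Matrix Module Cfsg.Agent.H11.GUC

variable {F : Type*} [Field F] [Fintype F] {n q : ℕ}

/-- the data of a torus -/
structure TorusD (ρ : F →+* F) (p : ℕ) (D₀ : GL (Fin n) F) : Prop where
  cop : (orderOf D₀).Coprime p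
  dag_cp : dag ρ (D₀ : Matrix (Fin n) (Fin n) F).charpoly = (D₀ : Matrix (Fin n) (Fin n) F).charpoly
  conj : ∀ G : GL (Fin n) F, (orderOf G).Coprime p → dg ρ (G : Matrix (Fin n) (Fin n) F) * (G : Matrix (Fin n) (Fin n) F) = 1 →
    ((∃ P : F[X], Irreducible P ∧ GoodP P ∧ dag ρ P = P ∧ minpoly F (G : Matrix (Fin n) (Fin n) F) = P) ∨
     (∃ P : F[X], Irreducible P ∧ GoodP P ∧ dag ρ P ≠ P ∧ minpoly F (G : Matrix (Fin n) (Fin n) F) = P * dag ρ P)) →
    ∃ k : ℕ, IsConj G (D₀ ^ k)

theorem pow_odd_rho {ρ : F →+* F} (hρq : ∀ x, ρ x = x ^ q) (hF : Fintype.card F = q ^ 2) (hn : Odd n) (c : F) :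
    c ^ q ^ n = ρ c := by
  obtain ⟨j, rfl⟩ := hn
  have h1 : c ^ (q ^ 2) ^ j = c := by
    rw [← hF]
    exact FiniteField.pow_card_pow j c
  have h2 : q ^ (2 * j + 1) = (q ^ 2) ^ j * q := by ring
  rw [h2, pow_mul, h1, hρq]

theorem cop_pow {M : Type*} [Monoid M] {p : ℕ} (x : M) (k : ℕ) (h : (orderOf x).Coprime p) : (orderOf (x ^ k)).Coprime p := by
  have h1 : (x ^ k) ^ orderOf x = 1 := by
    rw [← pow_mul, mul_comm, pow_mul, pow_orderOf_eq_one, one_pow]
  exact Nat.Coprime.coprime_dvd_left (orderOf_dvd_of_pow_eq_one h1) h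

/-- the lift of Frobenius to an extension -/
theorem exists_frob_ext {K : Type*} [Field K] {p a : ℕ} [hpf : Fact p.Prime] [CharP K p] (N : ℕ) :
    ∃ ι : K →+* K, ∀ x, ι x = x ^ (p ^ a) ^ N := by
  refine ⟨iterateFrobenius K p (a * N), ?_⟩
  intro x
  rw [iterateFrobenius_def, pow_mul]

/-- the torus when `n` is odd -/
theorem torus_odd {p a : ℕ} [hpf : Fact p.Prime] [CharP F p] {ρ : F →+* F} (hρq : ∀ x, ρ x = x ^ q) (hρ : ∀ x, ρ (ρ x) = x)
    (hne : ∃ c, ρ c ≠ c) (hF : Fintype.card F = q ^ 2) (hq : q = p ^ a) (ha : 1 ≤ a) (hn : Odd n) :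
    ∃ D₀ : GL (Fin n) F, TorusD ρ p D₀ := by
  classical
  have hn1 : 1 ≤ n := hn.pos
  have hp : p.Prime := Fact.out
  obtain ⟨K, _, _, _, hKc, hKf⟩ := exists_field_ext (F := F) n hn1
  haveI : Module.Finite F K := Module.finite_of_finrank_pos (by omega)
  haveI : CharP K p := charP_of_injective_algebraMap (algebraMap F K).injective p
  let b := Module.finBasisOfFinrankEq F K hKf
  let φ : K →ₐ[F] Matrix (Fin n) (Fin n) F := Algebra.leftMulMatrix b
  have hφ : Function.Injective φ := Algebra.leftMulMatrix_injective b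
  obtain ⟨ι, hιx⟩ := exists_frob_ext (K := K) (p := p) (a := a) n
  rw [← hq] at hιx
  have hιF : ∀ c : F, ι (algebraMap F K c) = algebraMap F K (ρ c) := by
    intro c
    rw [hιx, ← map_pow, pow_odd_rho hρq hF hn]
  let U : Subgroup Kˣ := (powMonoidHom (q ^ n + 1) : Kˣ →* Kˣ).ker
  have hU : ∀ t : Kˣ, t ∈ U ↔ (t : K) ^ (q ^ n + 1) = 1 := by
    intro t
    rw [MonoidHom.mem_ker, Units.ext_iff]
    simp
  obtain ⟨γ, hγ⟩ := IsCyclic.exists_generator (α := U)
  let γ₀ : K := ((γ : Kˣ) : K)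
  have hγ0 : γ₀ ≠ 0 := Units.ne_zero _
  have hγ1 : γ₀ ^ (q ^ n + 1) = 1 := (hU _).1 γ.2
  have hγι : (ι γ₀)⁻¹ = γ₀ := by
    rw [hιx]
    apply inv_eq_of_mul_eq_one_right
    rw [← pow_succ]
    exact hγ1
  obtain ⟨hgγ, hdγ⟩ := minpoly_dag (F := F) hρ ι hιF γ₀ hγ0
  rw [hγι] at hdγ
  let D₀ : GL (Fin n) F := Units.map (φ : K →* Matrix (Fin n) (Fin n) F) (γ : Kˣ)
  have hD₀v : (D₀ : Matrix (Fin n) (Fin n) F) = φ γ₀ := rfl
  have hcop : ∀ t : Kˣ, (orderOf (Units.map (φ : K →* Matrix (Fin n) (Fin n) F) t)).Coprime p := by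
    intro t
    apply coprime_of_pow_eq_one hp _ (Fintype.card K - 1) _ (not_dvd_card_sub_one hp)
    have : t ^ (Fintype.card K - 1) = 1 := by
      apply Units.ext
      simp only [Units.val_pow_eq_pow_val, Units.val_one]
      exact FiniteField.pow_card_sub_one_eq_one _ (Units.ne_zero t)
    rw [← map_pow, this, map_one]
  have hminφ : ∀ x : K, minpoly F (φ x) = minpoly F x := fun x => minpoly.algHom_eq φ hφ x
  have hcpφ : ∀ t : K, ∃ k, (φ t).charpoly = (minpoly F t) ^ k := fun t => by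
    have := charpoly_of_irr (φ t) (by rw [hminφ]; exact minpoly.irreducible (Algebra.IsIntegral.isIntegral t))
    rwa [hminφ] at this
  refine ⟨D₀, hcop γ, ?_, ?_⟩
  · obtain ⟨k, hk⟩ := hcpφ γ₀
    rw [hD₀v, hk, dag_pow, ← hdγ]
  · intro G hGo hG hcase
    rcases hcase with ⟨P, hP, hg, hd, hM⟩ | ⟨P, hP, hg, hd, hM⟩
    · obtain ⟨hodd, hdvd⟩ := selfdual_facts hρq hρ hne hF hq ha hP hg hd
      obtain ⟨m, hm⟩ := charpoly_of_irr (G : Matrix (Fin n) (Fin n) F) (by rw [hM]; exact hP)
      rw [hM] at hm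
      have hPd : 0 < P.natDegree := hP.natDegree_pos
      have hdeg : n = m * P.natDegree := by
        have h1 := Matrix.charpoly_natDegree_eq_dim (G : Matrix (Fin n) (Fin n) F)
        rw [hm, natDegree_pow, Fintype.card_fin] at h1
        exact h1.symm
      obtain ⟨t₀, ht₀⟩ := exists_root_ext (K := K) hP (by rw [hKf, hdeg]; exact Dvd.intro_left m rfl)
      have ht0 : t₀ ≠ 0 := by
        rintro rfl
        apply hg.2
        have := Polynomial.coeff_zero_eq_aeval_zero' (A := K) P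
        rw [ht₀] at this
        exact (map_eq_zero _).1 this
      have hmin : minpoly F t₀ = P := (minpoly.eq_of_irreducible_of_monic hP ht₀ hg.1).symm
      have hmodd : Odd m := by
        rw [hdeg] at hn
        exact (Nat.odd_mul.1 hn).1
      have ht1 : t₀ ^ (q ^ n + 1) = 1 := by
        have h1 : t₀ ^ (q ^ P.natDegree + 1) = 1 := by
          obtain ⟨f, hf⟩ := hdvd
          have := congrArg (aeval t₀) hf
          rw [map_mul, ht₀, zero_mul, map_sub, map_pow, aeval_X, map_one, sub_eq_zero] at this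
          exact this
        have h2 : q ^ P.natDegree + 1 ∣ q ^ n + 1 := by
          have := Odd.nat_add_dvd_pow_add_pow (q ^ P.natDegree) 1 hmodd
          rwa [one_pow, ← pow_mul, mul_comm, ← hdeg] at this
        obtain ⟨j, hj⟩ := h2
        rw [hj, pow_mul, h1, one_pow]
      let t : Kˣ := Units.mk0 t₀ ht0
      have htU : t ∈ U := (hU t).2 ht1
      have hmem : (⟨t, htU⟩ : U) ∈ Submonoid.powers γ := mem_powers_iff_mem_zpowers.2 (hγ _)
      obtain ⟨k, hk⟩ := hmem
      have hk₂ : t₀ = γ₀ ^ k := by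
        have h1 := congrArg (fun u : U => (((u : Kˣ)) : K)) hk
        simp only [Subgroup.coe_pow, Units.val_pow_eq_pow_val] at h1
        exact h1.symm
      refine ⟨k, ?_⟩
      have hDk : ((D₀ ^ k : GL (Fin n) F) : Matrix (Fin n) (Fin n) F) = φ t₀ := by
        rw [Units.val_pow_eq_pow_val, hD₀v, hk₂, map_pow]
      apply Cfsg.Agent.H10.isConj_of_charpoly_eq p G (D₀ ^ k) hGo (cop_pow _ _ (hcop γ))
      rw [hDk, hm]
      obtain ⟨m', hm'⟩ := hcpφ t₀
      rw [hmin] at hm'
      have hdeg' : n = m' * P.natDegree := by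
        have h1 := Matrix.charpoly_natDegree_eq_dim (φ t₀)
        rw [hm', natDegree_pow, Fintype.card_fin] at h1
        exact h1.symm
      have hmm : m = m' := Nat.eq_of_mul_eq_mul_right hPd (by omega)
      rw [hm', hmm]
    · exfalso
      have hss := Cfsg.Agent.H10.isSemisimple_of_coprime p G hGo
      obtain ⟨c, hc⟩ := charpoly_pair ρ hρ (G : Matrix (Fin n) (Fin n) F) hG hss hP hg hd hM
      have h1 := Matrix.charpoly_natDegree_eq_dim (G : Matrix (Fin n) (Fin n) F)
      rw [hc, natDegree_pow, hg.1.natDegree_mul (dag_monic hg), dag_natDegree hg, Fintype.card_fin] at h1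
      have h2 : Even n := by
        rw [← h1]
        exact Even.mul_left ⟨_, rfl⟩ _
      exact (Nat.not_even_iff_odd.2 hn) h2

/-- the characteristic polynomial of a multiplication map -/
theorem lmul_charpoly {K : Type*} [Field K] [Algebra F K] [Module.Finite F K] (x : K) :
    ∃ k, (LinearMap.mulLeft F x).charpoly = (minpoly F x) ^ k ∧ k * (minpoly F x).natDegree = finrank F K := by
  classical
  let b := Module.finBasisOfFinrankEq F K rfl
  let φ : K →ₐ[F] Matrix (Fin (finrank F K)) (Fin (finrank F K)) F := Algebra.leftMulMatrix b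
  have hφ : Function.Injective φ := Algebra.leftMulMatrix_injective b
  have hminφ : minpoly F (φ x) = minpoly F x := minpoly.algHom_eq φ hφ x
  obtain ⟨k, hk⟩ := charpoly_of_irr (φ x) (by rw [hminφ]; exact minpoly.irreducible (Algebra.IsIntegral.isIntegral x))
  rw [hminφ] at hk
  have h1 : (φ x).charpoly = (LinearMap.mulLeft F x).charpoly := by
    change (Algebra.leftMulMatrix b x).charpoly = _
    rw [Algebra.leftMulMatrix_apply, LinearMap.charpoly_toMatrix]
    rfl
  refine ⟨k, by rw [← h1, hk], ?_⟩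
  have h2 := Matrix.charpoly_natDegree_eq_dim (φ x)
  rw [hk, natDegree_pow, Fintype.card_fin] at h2
  exact h2

/-- the torus when `n` is even -/
theorem torus_even {p a l : ℕ} [hpf : Fact p.Prime] [CharP F p] {ρ : F →+* F} (hρq : ∀ x, ρ x = x ^ q) (hρ : ∀ x, ρ (ρ x) = x)
    (hne : ∃ c, ρ c ≠ c) (hF : Fintype.card F = q ^ 2) (hq : q = p ^ a) (ha : 1 ≤ a) (hl : 1 ≤ l) (hn : n = 2 * l) :
    ∃ D₀ : GL (Fin n) F, TorusD ρ p D₀ := by
  classical
  have hp : p.Prime := Fact.out
  obtain ⟨L, _, _, _, hLc, hLf⟩ := exists_field_ext (F := F) l hl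
  haveI : Module.Finite F L := Module.finite_of_finrank_pos (by omega)
  haveI : CharP L p := charP_of_injective_algebraMap (algebraMap F L).injective p
  obtain ⟨ι, hιx⟩ := exists_frob_ext (K := L) (p := p) (a := a) 1
  rw [← hq, pow_one] at hιx
  have hιF : ∀ c : F, ι (algebraMap F L c) = algebraMap F L (ρ c) := by
    intro c
    rw [hιx, ← map_pow, hρq]
  have hfin : finrank F (L × L) = n := by
    rw [Module.finrank_prod, hLf, hn]
    ring
  let b := Module.finBasisOfFinrankEq F (L × L) hfin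
  let φ : L × L →ₐ[F] Matrix (Fin n) (Fin n) F := Algebra.leftMulMatrix b
  let τ : Lˣ →* (L × L)ˣ := (MulEquiv.prodUnits.symm.toMonoidHom).comp
    ((MonoidHom.id _).prod ((invMonoidHom).comp (Units.map (ι : L →* L))))
  have hτv : ∀ u : Lˣ, ((τ u : (L × L)ˣ) : L × L) = ((u : L), (ι (u : L))⁻¹) := by
    intro u
    change (((u : L), (((Units.map (ι : L →* L) u)⁻¹ : Lˣ) : L)) : L × L) = _
    rw [Units.val_inv_eq_inv_val]
    rfl
  obtain ⟨g, hg⟩ := IsCyclic.exists_generator (α := Lˣ)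
  let D₀ : GL (Fin n) F := Units.map (φ : L × L →* Matrix (Fin n) (Fin n) F) (τ g)
  have hDk : ∀ k : ℕ, ((D₀ ^ k : GL (Fin n) F) : Matrix (Fin n) (Fin n) F) = φ (((g ^ k : Lˣ) : L), (ι ((g ^ k : Lˣ) : L))⁻¹) := by
    intro k
    have h1 : D₀ ^ k = Units.map (φ : L × L →* Matrix (Fin n) (Fin n) F) (τ (g ^ k)) := by
      simp only [D₀]
      rw [map_pow, map_pow]
    rw [h1]
    change φ ((τ (g ^ k) : (L × L)ˣ) : L × L) = _
    rw [hτv]
  have hcop : (orderOf D₀).Coprime p := by
    apply coprime_of_pow_eq_one hp _ (Fintype.card L - 1) _ (not_dvd_card_sub_one hp)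
    have : g ^ (Fintype.card L - 1) = 1 := by
      apply Units.ext
      simp only [Units.val_pow_eq_pow_val, Units.val_one]
      exact FiniteField.pow_card_sub_one_eq_one _ (Units.ne_zero g)
    simp only [D₀]
    rw [← map_pow, ← map_pow, this, map_one, map_one]
  have hcp : ∀ u c : L, (φ (u, c)).charpoly = (LinearMap.mulLeft F u).charpoly * (LinearMap.mulLeft F c).charpoly := by
    intro u c
    change (Algebra.leftMulMatrix b (u, c)).charpoly = _
    rw [Algebra.leftMulMatrix_apply, LinearMap.charpoly_toMatrix, ← LinearMap.charpoly_prodMap]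
    congr 1
  have hcp2 : ∀ u : L, u ≠ 0 → GoodP (minpoly F u) ∧ ∃ k, k * (minpoly F u).natDegree = l ∧
      (φ (u, (ι u)⁻¹)).charpoly = (minpoly F u) ^ k * (dag ρ (minpoly F u)) ^ k := by
    intro u hu
    obtain ⟨hgu, hd⟩ := minpoly_dag (F := F) hρ ι hιF u hu
    refine ⟨hgu, ?_⟩
    obtain ⟨k₁, hk₁, hk₁'⟩ := lmul_charpoly (F := F) u
    obtain ⟨k₂, hk₂, hk₂'⟩ := lmul_charpoly (F := F) (ι u)⁻¹
    rw [hd] at hk₂ hk₂'
    rw [dag_natDegree hgu] at hk₂'
    rw [hLf] at hk₁' hk₂'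
    have hPd : 0 < (minpoly F u).natDegree := (minpoly.irreducible (Algebra.IsIntegral.isIntegral u)).natDegree_pos
    have hkk : k₁ = k₂ := Nat.eq_of_mul_eq_mul_right hPd (by omega)
    refine ⟨k₁, hk₁', ?_⟩
    rw [hcp, hk₁, hk₂, hkk]
  refine ⟨D₀, hcop, ?_, ?_⟩
  · have h1 := hDk 1
    rw [pow_one, Units.val_pow_eq_pow_val, pow_one] at h1
    obtain ⟨hgg, k, -, hk⟩ := hcp2 (g : L) (Units.ne_zero g)
    rw [h1, hk, dag_mul, dag_pow, dag_pow, dag_dag hρ hgg, mul_comm]
  · intro G hGo hG hcase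
    have hss := Cfsg.Agent.H10.isSemisimple_of_coprime p G hGo
    obtain ⟨P, c, hP, hgP, hcG, hcl⟩ : ∃ (P : F[X]) (c : ℕ), Irreducible P ∧ GoodP P ∧
        (G : Matrix (Fin n) (Fin n) F).charpoly = (P * dag ρ P) ^ c ∧ c * P.natDegree = l := by
      rcases hcase with ⟨P, hP, hg', hd, hM⟩ | ⟨P, hP, hg', hd, hM⟩
      · obtain ⟨hodd, hdvd⟩ := selfdual_facts hρq hρ hne hF hq ha hP hg' hd
        obtain ⟨m, hm⟩ := charpoly_of_irr (G : Matrix (Fin n) (Fin n) F) (by rw [hM]; exact hP)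
        rw [hM] at hm
        have hdeg : n = m * P.natDegree := by
          have h1 := Matrix.charpoly_natDegree_eq_dim (G : Matrix (Fin n) (Fin n) F)
          rw [hm, natDegree_pow, Fintype.card_fin] at h1
          exact h1.symm
        have hme : Even m := by
          have h1 : Even (m * P.natDegree) := by
            rw [← hdeg, hn]
            exact even_two_mul l
          rcases Nat.even_mul.1 h1 with h2 | h2
          · exact h2
          · exact ((Nat.not_even_iff_odd.2 hodd) h2).elim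
        obtain ⟨c, hc⟩ := hme
        refine ⟨P, c, hP, hg', ?_, ?_⟩
        · rw [hm, hd, hc, ← sq, ← pow_mul, two_mul]
        · have : 2 * (c * P.natDegree) = 2 * l := by
            rw [← hn, hdeg, hc]
            ring
          omega
      · obtain ⟨c, hc⟩ := charpoly_pair ρ hρ (G : Matrix (Fin n) (Fin n) F) hG hss hP hg' hd hM
        refine ⟨P, c, hP, hg', hc, ?_⟩
        have h1 := Matrix.charpoly_natDegree_eq_dim (G : Matrix (Fin n) (Fin n) F)
        rw [hc, natDegree_pow, hg'.1.natDegree_mul (dag_monic hg'), dag_natDegree hg', Fintype.card_fin, hn] at h1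
        have : 2 * (c * P.natDegree) = 2 * l := by
          rw [← h1]
          ring
        omega
    have hPd : 0 < P.natDegree := hP.natDegree_pos
    obtain ⟨u, hu⟩ := exists_root_ext (K := L) hP (by rw [hLf, ← hcl]; exact Dvd.intro_left c rfl)
    have hu0 : u ≠ 0 := by
      rintro rfl
      apply hgP.2
      have := Polynomial.coeff_zero_eq_aeval_zero' (A := L) P
      rw [hu] at this
      exact (map_eq_zero _).1 this
    have hmin : minpoly F u = P := (minpoly.eq_of_irreducible_of_monic hP hu hgP.1).symm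
    let t : Lˣ := Units.mk0 u hu0
    have hmem : t ∈ Submonoid.powers g := mem_powers_iff_mem_zpowers.2 (hg _)
    obtain ⟨k, hk⟩ := hmem
    have hk₂ : ((g ^ k : Lˣ) : L) = u := congrArg Units.val hk
    refine ⟨k, ?_⟩
    apply Cfsg.Agent.H10.isConj_of_charpoly_eq p G (D₀ ^ k) hGo (cop_pow _ _ hcop)
    rw [hDk, hk₂, hcG]
    obtain ⟨-, k', hk'l, hk'⟩ := hcp2 u hu0
    rw [hmin] at hk'l hk'
    have hkc : c = k' := Nat.eq_of_mul_eq_mul_right hPd (by omega)
    rw [hk', hkc, mul_pow]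

end Cfsg.Agent.H11.Spec
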