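import Cfsg.Agent.Lib.H11.Spec11

/-! The dichotomy and the order spectrum statement for `PSU_n`. -/

set_option autoImplicit false
set_option linter.unusedSectionVars false
set_option linter.unusedVariables false

namespace Cfsg.Agent.H11.Spec

open Polynomial Matrix Module Cfsg.Agent.H11.GUC

variable {F : Type*} [Field F] [Fintype F] {n q : ℕ}

theorem exists_torus {p a : ℕ} [hpf : Fact p.Prime] [CharP F p] {ρ : F →+* F} (hρq : ∀ x, ρ x = x ^ q) (hρ : ∀ x, ρ (ρ x) = x)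
    (hne : ∃ c, ρ c ≠ c) (hF : Fintype.card F = q ^ 2) (hq : q = p ^ a) (ha : 1 ≤ a) (hn : 1 ≤ n) :
    ∃ D₀ : GL (Fin n) F, TorusD ρ p D₀ := by
  rcases Nat.even_or_odd n with ⟨l, hl⟩ | h
  · exact torus_even hρq hρ hne hF hq ha (l := l) (by omega) (by omega)
  · exact torus_odd hρq hρ hne hF hq ha h

/-- conjugating into the unitary group -/
theorem conj_into_gu {p : ℕ} [hpf : Fact p.Prime] [CharP F p] (ρ : F →+* F) (hρq : ∀ x, ρ x = x ^ q) (hρ : ∀ x, ρ (ρ x) = x)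
    (hF : Fintype.card F = q ^ 2) (A : GL (Fin n) F) (hA : (orderOf A).Coprime p)
    (hd : dag ρ (A : Matrix (Fin n) (Fin n) F).charpoly = (A : Matrix (Fin n) (Fin n) F).charpoly) :
    ∃ B : ↥(Cfsg.GU n F q), IsConj A (B : GL (Fin n) F) := by
  classical
  rw [gu_similar_iff hF A]
  have hX : (((A : Matrix (Fin n) (Fin n) F).map (fun x : F => x ^ q)).transpose) = dg ρ (A : Matrix (Fin n) (Fin n) F) := by
    unfold dg
    congr 1
    ext i j
    simp [hρq]
  rw [hX]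
  let Bd : GL (Fin n) F := ⟨dg ρ (A : Matrix (Fin n) (Fin n) F), dg ρ ((A⁻¹ : GL (Fin n) F) : Matrix (Fin n) (Fin n) F),
    by rw [← dg_mul, ← Units.val_mul, inv_mul_cancel, Units.val_one, dg_one],
    by rw [← dg_mul, ← Units.val_mul, mul_inv_cancel, Units.val_one, dg_one]⟩
  let A' : GL (Fin n) F := Bd⁻¹
  have hA'v : (A' : Matrix (Fin n) (Fin n) F) = (dg ρ (A : Matrix (Fin n) (Fin n) F))⁻¹ := Matrix.coe_units_inv Bd
  have hA'o : (orderOf A').Coprime p := by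
    have h1 : Bd ^ orderOf A = 1 := by
      apply Units.ext
      rw [Units.val_pow_eq_pow_val]
      change (dg ρ (A : Matrix (Fin n) (Fin n) F)) ^ orderOf A = 1
      rw [← dg_pow, ← Units.val_pow_eq_pow_val, pow_orderOf_eq_one, Units.val_one, dg_one]
    simp only [A', orderOf_inv]
    exact Nat.Coprime.coprime_dvd_left (orderOf_dvd_of_pow_eq_one h1) hA
  have hcc : (A : Matrix (Fin n) (Fin n) F).charpoly = (A' : Matrix (Fin n) (Fin n) F).charpoly := by
    rw [hA'v, charpoly_dag ρ hρ _ A.isUnit, hd]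
  have hc := Cfsg.Agent.H10.isConj_of_charpoly_eq p A A' hA hA'o hcc
  rw [← hA'v]
  exact (Units.coeHom _).map_isConj hc

/-- the torus in `SU_n` -/
theorem torus_su {p : ℕ} [hpf : Fact p.Prime] [CharP F p] (ρ : F →+* F) (hρq : ∀ x, ρ x = x ^ q) (hρ : ∀ x, ρ (ρ x) = x)
    (hF : Fintype.card F = q ^ 2) (hn : 2 ≤ n) (D₀ : GL (Fin n) F) (hT : TorusD ρ p D₀) :
    ∃ w₀ : Cfsg.SU n F q, ∀ s : Cfsg.SU n F q,
      (orderOf (Matrix.SpecialLinearGroup.toGL s.1)).Coprime p →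
      ((∃ P : F[X], Irreducible P ∧ GoodP P ∧ dag ρ P = P ∧ minpoly F (matS s) = P) ∨
       (∃ P : F[X], Irreducible P ∧ GoodP P ∧ dag ρ P ≠ P ∧ minpoly F (matS s) = P * dag ρ P)) →
      piU n F q s ^ orderOf (piU n F q w₀) = 1 := by
  classical
  obtain ⟨B, hB⟩ := conj_into_gu ρ hρq hρ hF D₀ hT.cop hT.dag_cp
  let B₀ : GL (Fin n) F := B
  have hdetc : ∀ (X Y : GL (Fin n) F), IsConj X Y → (X : Matrix (Fin n) (Fin n) F).det = (Y : Matrix (Fin n) (Fin n) F).det := by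
    intro X Y hXY
    obtain ⟨c, rfl⟩ := isConj_iff.1 hXY
    rw [Units.val_mul, Units.val_mul, Matrix.det_units_conj]
  let δ : Fˣ := Matrix.GeneralLinearGroup.det D₀
  have hδ : (δ : F) = (D₀ : Matrix (Fin n) (Fin n) F).det := rfl
  set e := orderOf δ with he
  have hBdet : (B₀ : Matrix (Fin n) (Fin n) F).det = δ := (hdetc _ _ hB).symm
  let y : Matrix (Fin n) (Fin n) F := (B₀ : Matrix (Fin n) (Fin n) F) ^ e
  have hydet : y.det = 1 := by
    simp only [y]
    rw [Matrix.det_pow, hBdet, ← Units.val_pow_eq_pow_val, he, pow_orderOf_eq_one, Units.val_one]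
  have hydg : dg ρ y * y = 1 := by
    have h1 := (mem_gu_iff ρ hρq hρ ((B ^ e : ↥(Cfsg.GU n F q)) : GL (Fin n) F)).1 (B ^ e).2
    rw [Subgroup.coe_pow, Units.val_pow_eq_pow_val] at h1
    exact h1
  obtain ⟨w₀, hw₀⟩ := su_of_mat ρ hρq hρ y hydet hydg
  refine ⟨w₀, ?_⟩
  intro s hso hcase
  obtain ⟨k, hk⟩ := hT.conj (Matrix.SpecialLinearGroup.toGL s.1) hso (su_dg ρ hρq hρ s) hcase
  have h1 : (δ : F) ^ k = 1 := by
    have h2 := hdetc _ _ hk
    rw [Units.val_pow_eq_pow_val, Matrix.det_pow, ← hδ] at h2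
    rw [← h2]
    exact s.1.2
  have h2 : δ ^ k = 1 := by
    apply Units.ext
    rw [Units.val_pow_eq_pow_val, h1, Units.val_one]
  obtain ⟨k', rfl⟩ := orderOf_dvd_of_pow_eq_one h2
  have hconj : IsConj (Matrix.SpecialLinearGroup.toGL s.1) (B₀ ^ (orderOf δ * k')) := hk.trans (IsConj.pow _ hB)
  obtain ⟨c, hc⟩ := isConj_iff.1 hconj
  set N := orderOf (piU n F q w₀) with hN
  have h3 : piU n F q (w₀ ^ N) = 1 := by
    rw [map_pow, hN, pow_orderOf_eq_one]
  obtain ⟨d, hd⟩ := (piU_eq_one_iff hF hn _).1 h3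
  rw [matS_pow, hw₀] at hd
  rw [← map_pow, piU_eq_one_iff hF hn, matS_pow]
  refine ⟨d ^ k', ?_⟩
  have hs : Matrix.SpecialLinearGroup.toGL s.1 = c⁻¹ * (B₀ ^ (orderOf δ * k')) * c := by
    rw [← hc]
    group
  have h4 : matS s = (Matrix.SpecialLinearGroup.toGL s.1 : GL (Fin n) F).1 := rfl
  rw [h4, ← Units.val_pow_eq_pow_val, hs]
  have h5 : (c⁻¹ * B₀ ^ (orderOf δ * k') * c) ^ N = c⁻¹ * (B₀ ^ (orderOf δ * k')) ^ N * c := by
    have := conj_pow (a := c⁻¹) (b := B₀ ^ (orderOf δ * k')) (i := N)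
    rwa [inv_inv] at this
  rw [h5]
  have h6 : (((B₀ ^ (orderOf δ * k')) ^ N : GL (Fin n) F) : Matrix (Fin n) (Fin n) F) = (d ^ k') • 1 := by
    rw [Units.val_pow_eq_pow_val, Units.val_pow_eq_pow_val, pow_mul, ← pow_mul, mul_comm k' N, pow_mul]
    change ((y) ^ N) ^ k' = _
    rw [hd, _root_.smul_pow, one_pow]
  rw [Units.val_mul, Units.val_mul, h6, mul_smul_comm, mul_one, smul_mul_assoc, ← Units.val_mul, inv_mul_cancel, Units.val_one]

/-- dichotomy for `PSU_n` -/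
theorem psu_dich {p a r : ℕ} (hp : p.Prime) [CharP F p] {ρ : F →+* F} (hρq : ∀ x, ρ x = x ^ q) (hρ : ∀ x, ρ (ρ x) = x)
    (hne : ∃ c, ρ c ≠ c) (hF : Fintype.card F = q ^ 2) (hq : q = p ^ a) (ha : 1 ≤ a) (hn : 2 ≤ n)
    (hr : r.Prime) (hrq : r ∣ q + 1) (hrn : ¬ r ∣ n) :
    ∃ w : Cfsg.PSU n F q, ∀ x : Cfsg.PSU n F q, ¬ r ∣ orderOf x →
      (∃ x' : Cfsg.PSU n F q, orderOf x' = orderOf x * r) ∨ BadO (Cfsg.PSU n F q) p (orderOf w) (orderOf x) := by
  classical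
  haveI : Fact p.Prime := ⟨hp⟩
  have hn1 : 1 ≤ n := by omega
  haveI : Nonempty (Fin n) := ⟨⟨0, by omega⟩⟩
  obtain ⟨D₀, hT⟩ := exists_torus hρq hρ hne hF hq ha hn1
  obtain ⟨w₀, hw₀⟩ := torus_su ρ hρq hρ hF hn D₀ hT
  refine ⟨piU n F q w₀, ?_⟩
  intro x hx
  obtain ⟨g, rfl⟩ := QuotientGroup.mk'_surjective _ x
  change ¬ r ∣ orderOf (piU n F q g) at hx
  change (∃ x' : Cfsg.PSU n F q, orderOf x' = orderOf (piU n F q g) * r) ∨ BadO (Cfsg.PSU n F q) p (orderOf (piU n F q w₀)) (orderOf (piU n F q g))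
  set o := orderOf g with ho
  have ho0 : o ≠ 0 := (orderOf_pos g).ne'
  obtain ⟨l, o', ho', hoo⟩ := Nat.exists_eq_pow_mul_and_not_dvd ho0 p hp.ne_one
  have hcop : Nat.Coprime (p ^ l) o' := Nat.Coprime.pow_left l ((Nat.Prime.coprime_iff_not_dvd hp).2 ho')
  obtain ⟨α, hα₁, hα₂⟩ := Nat.chineseRemainder hcop 0 1
  have hαp : p ^ l ∣ α := (Nat.modEq_zero_iff_dvd).1 hα₁
  have hαo : Nat.Coprime α o' := by
    have h1 := Nat.ModEq.gcd_eq hα₂
    rw [Nat.Coprime]
    rw [h1]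
    simp
  let s : Cfsg.SU n F q := g ^ α
  let σ : Matrix (Fin n) (Fin n) F := matS s
  have hσv : σ = matS g ^ α := matS_pow g α
  have hσg : Commute (matS g) σ := by
    rw [hσv]
    exact (Commute.refl _).pow_right α
  have hso : s ^ o' = 1 := by
    change (g ^ α) ^ o' = 1
    rw [← pow_mul, ← orderOf_dvd_iff_pow_eq_one, ← ho, hoo]
    exact Nat.mul_dvd_mul hαp dvd_rfl
  have hσo : σ ^ o' = 1 := by
    have := matS_pow s o'
    rw [hso] at this
    rw [← this]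
    rfl
  have ho'0 : ((o' : ℕ) : F) ≠ 0 := by
    intro h0
    exact ho' ((CharP.cast_eq_zero_iff F p o').1 h0)
  have hsep : (X ^ o' - C (1 : F)).Separable := separable_X_pow_sub_C (1 : F) ho'0 one_ne_zero
  rw [C_1] at hsep
  have hMd : minpoly F σ ∣ X ^ o' - 1 := by
    apply minpoly.dvd
    simp [hσo]
  have hMsep : (minpoly F σ).Separable := hsep.of_dvd hMd
  have hdg : dg ρ σ * σ = 1 := su_dg ρ hρq hρ s
  have hbad : (((∃ P : F[X], Irreducible P ∧ GoodP P ∧ dag ρ P = P ∧ minpoly F (matS s) = P) ∨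
       (∃ P : F[X], Irreducible P ∧ GoodP P ∧ dag ρ P ≠ P ∧ minpoly F (matS s) = P * dag ρ P))) →
       BadO (Cfsg.PSU n F q) p (orderOf (piU n F q w₀)) (orderOf (piU n F q g)) := by
    intro hcase
    set A := orderOf (piU n F q g) with hA
    have hA0 : A ≠ 0 := (orderOf_pos _).ne'
    obtain ⟨a', b, hb, hAb⟩ := Nat.exists_eq_pow_mul_and_not_dvd hA0 p hp.ne_one
    refine ⟨a', b, hAb, hb, ?_, ?_⟩
    · have hGo : (orderOf (Matrix.SpecialLinearGroup.toGL s.1)).Coprime p := by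
        apply coprime_of_pow_eq_one hp _ o' _ ho'
        rw [← map_pow]
        have : (s.1) ^ o' = 1 := congrArg Subtype.val hso
        rw [this, map_one]
      have h2 := hw₀ s hGo hcase
      set N := orderOf (piU n F q w₀) with hN
      have h3 : piU n F q g ^ (α * N) = 1 := by
        rw [pow_mul, ← map_pow]
        exact h2
      have h4 : A ∣ α * N := orderOf_dvd_of_pow_eq_one h3
      have h5 : b ∣ α * N := (Dvd.intro_left _ hAb.symm).trans h4
      have h6 : b ∣ o' := by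
        have h7 : A ∣ o := by
          apply orderOf_dvd_of_pow_eq_one
          rw [← map_pow, ho, pow_orderOf_eq_one, map_one]
        have h8 : b ∣ p ^ l * o' := by
          rw [← hoo]
          exact (Dvd.intro_left _ hAb.symm).trans h7
        exact (Nat.Coprime.pow_right l (Nat.Coprime.symm ((Nat.Prime.coprime_iff_not_dvd hp).2 hb))).dvd_of_dvd_mul_left h8
      have h7 : Nat.Coprime b α := Nat.Coprime.symm (Nat.Coprime.coprime_dvd_right h6 hαo)
      exact h7.dvd_of_dvd_mul_left h5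
    · exact exists_order_of_dvd _ (Dvd.intro _ hAb.symm)
  rcases unitary_dich hρ hn1 σ hdg hMsep with ⟨e₁, e₂, he, hee, h1, h2, hd1, hd2, hc⟩ | hcase | hcase
  · left
    exact mul_r_su ρ hρq hρ hF hn hr hrq hrn g e₁ e₂ he hee h1 h2 hd1 hd2 (hc _ hσg) hx
  · right
    exact hbad (Or.inl hcase)
  · right
    exact hbad (Or.inr hcase)

/-- the statement for `PSU_n` -/
theorem psu_spec {p a r m : ℕ} (hp : p.Prime) (ha : 1 ≤ a) (hq : q = p ^ a) (hF : Fintype.card F = q ^ 2)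
    (hn : 2 ≤ n) (hr : r.Prime) (hrq : r ∣ q + 1) (hrn : ¬ r ∣ n) :
    Set.range (orderOf : Cfsg.PSU n F q × Cfsg.PSU n F q × Cfsg.PSU n F q × Multiplicative (Fin m → ZMod r) → ℕ) =
      Set.range (orderOf : Cfsg.PSU n F q × Cfsg.PSU n F q × Cfsg.PSU n F q → ℕ) ∧
    ((¬ ∃ j : ℕ, n - 1 = p ^ j) →
      Set.range (orderOf : Cfsg.PSU n F q × Cfsg.PSU n F q × Multiplicative (Fin m → ZMod r) → ℕ) =
        Set.range (orderOf : Cfsg.PSU n F q × Cfsg.PSU n F q → ℕ)) := by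
  classical
  haveI : CharP F p := charP_of_card hp (a := a * 2) (by omega) (by rw [hF, hq, pow_mul])
  obtain ⟨ρ, hρq, hρ, hne⟩ := Cfsg.Agent.H11.GUC.setup (q := q) hF
  have hrp : r ≠ p := by
    rintro rfl
    have h1 : r ∣ q := by
      rw [hq]
      exact dvd_pow_self _ (by omega)
    have h6 : r ∣ 1 := (Nat.dvd_add_right h1).1 hrq
    exact hr.one_lt.ne' (Nat.dvd_one.1 h6)
  obtain ⟨w, hw⟩ := psu_dich hp hρq hρ hne hF hq ha hn hr hrq hrn
  have hz := exists_order_r_su (n := n) ρ hρq hρ hF hn hr hrq hrn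
  constructor
  · exact spec_three_of_core hr mult_zmod_pow (core_three hp hr hrp.symm w hz hw)
  · intro hj
    refine spec_two_of_core hr mult_zmod_pow (core_two hp hr hrp.symm w hz hw ?_)
    intro t ht ⟨x, hx⟩
    have h1 := p_lt_su hp hF hn ht x hx
    have h2 : p ^ (t - 1) + 1 ≠ n := by
      intro h3
      exact hj ⟨t - 1, by omega⟩
    exact exists_pr_su ρ hρq hρ hF hp hn ht (by omega) hr hrq hrn hrp

end Cfsg.Agent.H11.Spec
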