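import Cfsg.Agent.Lib.H11.Spec12

/-! An abstract version of the dichotomy for an element of an algebra with an anti-involution. -/

set_option autoImplicit false
set_option linter.unusedSectionVars false
set_option linter.unusedVariables false

namespace Cfsg.Agent.H11.Spec

open Polynomial Matrix Module Cfsg.Agent.H11.GUC

variable {F : Type*} [Field F] [Fintype F]

/-- an `F`-linear anti-involution -/
structure AdjOp (F : Type*) [Field F] {A : Type*} [Ring A] [Algebra F A] (st : A → A) : Prop where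
  mul : ∀ a b, st (a * b) = st b * st a
  one : st 1 = 1
  add : ∀ a b, st (a + b) = st a + st b
  smul : ∀ (c : F) (a : A), st (c • a) = c • st a
  invol : ∀ a, st (st a) = a

section abs

variable {A : Type*} [Ring A] [Algebra F A] {st : A → A}

noncomputable abbrev dg0 (f : F[X]) : F[X] := dag (RingHom.id F) f

theorem AdjOp.zero (h : AdjOp F st) : st 0 = 0 := by
  have := h.smul (0 : F) 0
  simpa using this

theorem AdjOp.pow (h : AdjOp F st) (a : A) (k : ℕ) : st (a ^ k) = (st a) ^ k := by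
  induction k with
  | zero => simp [h.one]
  | succ k ih => rw [pow_succ, h.mul, ih, pow_succ']

theorem AdjOp.aeval (h : AdjOp F st) (c : A) (f : F[X]) : st (aeval c f) = aeval (st c) f := by
  induction f using Polynomial.induction_on' with
  | add p q hp hq => rw [map_add, h.add, hp, hq, map_add]
  | monomial k a =>
    rw [Polynomial.aeval_monomial, Polynomial.aeval_monomial, Algebra.algebraMap_eq_smul_one, smul_mul_assoc, one_mul,
      h.smul, h.pow, smul_mul_assoc, one_mul]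

theorem dag0_expr (h : AdjOp F st) (σ : A) (hσ : st σ * σ = 1) (hσ' : σ * st σ = 1) (f : F[X]) :
    aeval σ (dg0 f) = (f.coeff 0)⁻¹ • (σ ^ f.natDegree * st (aeval σ f)) := by
  unfold dg0 dag
  rw [Polynomial.map_id, map_mul, aeval_C, Algebra.algebraMap_eq_smul_one, smul_mul_assoc, one_mul, aeval_reverse σ (st σ) hσ' hσ, h.aeval]
  rfl

theorem aeval_dag0 (h : AdjOp F st) (σ : A) (hσ : st σ * σ = 1) (hσ' : σ * st σ = 1) {f : F[X]} (hf : aeval σ f = 0) :
    aeval σ (dg0 f) = 0 := by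
  rw [dag0_expr h σ hσ hσ', hf, h.zero, mul_zero, smul_zero]

variable [Module.Finite F A] [Nontrivial A]

/-- the self-adjoint idempotents attached to a coprime self-dual factorisation -/
theorem idem_of_factor0 (h : AdjOp F st) (σ : A) (hσ : st σ * σ = 1) (hσ' : σ * st σ = 1) (f₁ f₂ : F[X]) (h₁ : GoodP f₁) (h₂ : GoodP f₂)
    (hd₁ : dg0 f₁ = f₁) (hd₂ : dg0 f₂ = f₂) (hM : minpoly F σ = f₁ * f₂) (hco : IsCoprime f₁ f₂)
    (hu₁ : ¬ IsUnit f₁) (hu₂ : ¬ IsUnit f₂) :
    ∃ e₁ e₂ : A, e₁ + e₂ = 1 ∧ e₁ * e₂ = 0 ∧ e₁ ≠ 0 ∧ e₂ ≠ 0 ∧ st e₁ = e₁ ∧ st e₂ = e₂ ∧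
      ∀ g : A, Commute g σ → Commute g e₁ := by
  classical
  obtain ⟨u, v, huv⟩ := hco
  have hint : IsIntegral F σ := Algebra.IsIntegral.isIntegral σ
  have hMa : aeval σ (f₁ * f₂) = 0 := by
    rw [← hM]
    exact minpoly.aeval F σ
  have hM0 : f₁ * f₂ ≠ 0 := by
    rw [← hM]
    exact minpoly.ne_zero hint
  let e₁ : A := aeval σ (v * f₂)
  let e₂ : A := aeval σ (u * f₁)
  have he : e₁ + e₂ = 1 := by
    simp only [e₁, e₂]
    rw [← map_add, add_comm, huv, map_one]
  have hee : e₁ * e₂ = 0 := by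
    simp only [e₁, e₂]
    rw [← map_mul]
    have : v * f₂ * (u * f₁) = (v * u) * (f₁ * f₂) := by ring
    rw [this, map_mul, hMa, mul_zero]
  have h10 : e₁ ≠ 0 := by
    intro h0
    have h1 : minpoly F σ ∣ v * f₂ := minpoly.dvd F _ h0
    rw [hM] at h1
    have hf20 : f₂ ≠ 0 := h₂.1.ne_zero
    have h2 : f₁ ∣ v := by
      rw [mul_comm v f₂, mul_comm f₁ f₂] at h1
      exact (mul_dvd_mul_iff_left hf20).1 h1
    have h3 : f₁ ∣ 1 := by
      rw [← huv]
      exact dvd_add (Dvd.intro_left _ rfl) (h2.mul_right _)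
    exact hu₁ (isUnit_of_dvd_one h3)
  have h20 : e₂ ≠ 0 := by
    intro h0
    have h1 : minpoly F σ ∣ u * f₁ := minpoly.dvd F _ h0
    rw [hM] at h1
    have hf10 : f₁ ≠ 0 := h₁.1.ne_zero
    have h2 : f₂ ∣ u := by
      rw [mul_comm u f₁] at h1
      exact (mul_dvd_mul_iff_left hf10).1 h1
    have h3 : f₂ ∣ 1 := by
      rw [← huv]
      exact dvd_add (h2.mul_right _) (Dvd.intro_left _ rfl)
    exact hu₂ (isUnit_of_dvd_one h3)
  have hEE : st e₁ + st e₂ = 1 := by
    rw [← h.add, he, h.one]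
  have key2 : ∀ f : F[X], dg0 f = f → ∀ X : A, X * aeval σ f = 0 → aeval σ f * st X = 0 := by
    intro f hf X hX
    have h1 : aeval σ f = (f.coeff 0)⁻¹ • (σ ^ f.natDegree * st (aeval σ f)) := by
      conv_lhs => rw [← hf]
      exact dag0_expr h σ hσ hσ' f
    have h2 : st (aeval σ f) * st X = 0 := by
      rw [← h.mul, hX, h.zero]
    rw [h1, smul_mul_assoc, mul_assoc, h2, mul_zero, smul_zero]
  have hf₁E₁ : aeval σ f₁ * st e₁ = 0 := by
    apply key2 f₁ hd₁
    simp only [e₁]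
    rw [← map_mul]
    have : v * f₂ * f₁ = v * (f₁ * f₂) := by ring
    rw [this, map_mul, hMa, mul_zero]
  have hf₂E₂ : aeval σ f₂ * st e₂ = 0 := by
    apply key2 f₂ hd₂
    simp only [e₂]
    rw [← map_mul]
    have : u * f₁ * f₂ = u * (f₁ * f₂) := by ring
    rw [this, map_mul, hMa, mul_zero]
  have h1 : e₁ * st e₂ = 0 := by
    simp only [e₁]
    rw [map_mul, mul_assoc, hf₂E₂, mul_zero]
  have h2 : e₂ * st e₁ = 0 := by
    simp only [e₂]
    rw [map_mul, mul_assoc, hf₁E₁, mul_zero]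
  have hE₁ : st e₁ = e₁ := by
    calc st e₁ = (e₁ + e₂) * st e₁ := by rw [he, one_mul]
      _ = e₁ * st e₁ := by rw [add_mul, h2, add_zero]
      _ = e₁ * (st e₁ + st e₂) := by rw [mul_add, h1, add_zero]
      _ = e₁ := by rw [hEE, mul_one]
  have hE₂ : st e₂ = e₂ := by
    calc st e₂ = (e₁ + e₂) * st e₂ := by rw [he, one_mul]
      _ = e₂ * st e₂ := by rw [add_mul, h1, zero_add]
      _ = e₂ * (st e₁ + st e₂) := by rw [mul_add, h2, zero_add]
      _ = e₂ := by rw [hEE, mul_one]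
  refine ⟨e₁, e₂, he, hee, h10, h20, hE₁, hE₂, ?_⟩
  intro g hg
  exact aeval_commute_of hg _

/-- dichotomy for a semisimple unitary element -/
theorem abs_dich (h : AdjOp F st) (σ : A) (hσ : st σ * σ = 1) (hσ' : σ * st σ = 1) (hsep : (minpoly F σ).Separable) :
    (∃ e₁ e₂ : A, e₁ + e₂ = 1 ∧ e₁ * e₂ = 0 ∧ e₁ ≠ 0 ∧ e₂ ≠ 0 ∧ st e₁ = e₁ ∧ st e₂ = e₂ ∧
      ∀ g : A, Commute g σ → Commute g e₁) ∨
    (∃ P : F[X], Irreducible P ∧ GoodP P ∧ dg0 P = P ∧ minpoly F σ = P) ∨
    (∃ P : F[X], Irreducible P ∧ GoodP P ∧ dg0 P ≠ P ∧ minpoly F σ = P * dg0 P) := by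
  classical
  have hρ : ∀ x : F, (RingHom.id F) ((RingHom.id F) x) = x := fun x => rfl
  have hint : IsIntegral F σ := Algebra.IsIntegral.isIntegral σ
  set M := minpoly F σ with hMdef
  have hMm : M.Monic := minpoly.monic hint
  have hMa : aeval σ M = 0 := minpoly.aeval F σ
  have hM0 : M.coeff 0 ≠ 0 := by
    intro h0
    obtain ⟨g, hg⟩ := Polynomial.X_dvd_iff.2 h0
    have hg0 : g ≠ 0 := by
      rintro rfl
      rw [mul_zero] at hg
      exact hMm.ne_zero hg
    have h3 : aeval σ g = 0 := by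
      rw [hg, map_mul, aeval_X] at hMa
      have := congrArg (fun m => st σ * m) hMa
      simpa only [← mul_assoc, hσ, one_mul, mul_zero] using this
    have h4 : M ∣ g := minpoly.dvd F _ h3
    have h5 := natDegree_le_of_dvd h4 hg0
    rw [hg, natDegree_X_mul hg0] at h5
    omega
  have hMg : GoodP M := ⟨hMm, hM0⟩
  have hdM : dg0 M = M := by
    have h1 : M ∣ dg0 M := minpoly.dvd F _ (aeval_dag0 h σ hσ hσ' hMa)
    exact (eq_of_monic_of_dvd_of_natDegree_le hMm (dag_monic hMg) h1 (dag_natDegree hMg).le)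
  have hMu : ¬ IsUnit M := minpoly.not_isUnit F σ
  obtain ⟨P, hPm, hPi, hPd⟩ := Cfsg.Agent.H10.exists_monic_irreducible_dvd hMm.ne_zero (minpoly.natDegree_pos hint).ne'
  obtain ⟨Q, hQ⟩ := hPd
  have hQm : Q.Monic := hPm.of_mul_monic_left (hQ ▸ hMm)
  have hPg : GoodP P := good_of_dvd hMg hPm (Dvd.intro _ hQ.symm)
  have hQg : GoodP Q := good_of_dvd hMg hQm (Dvd.intro_left _ hQ.symm)
  have hdMf : dg0 P * dg0 Q = P * Q := by
    rw [dg0, dg0, ← dag_mul, ← hQ]
    exact hdM
  by_cases hPP : dg0 P = P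
  · have hdQ : dg0 Q = Q := by
      rw [hPP] at hdMf
      exact mul_left_cancel₀ hPm.ne_zero hdMf
    by_cases hQu : IsUnit Q
    · right
      left
      have hQ1 : Q = 1 := hQm.eq_one_of_isUnit hQu
      exact ⟨P, hPi, hPg, hPP, by rw [hQ, hQ1, mul_one]⟩
    · left
      have hco : IsCoprime P Q := by
        rw [hQ] at hsep
        exact hsep.isCoprime
      exact idem_of_factor0 h σ hσ hσ' P Q hPg hQg hPP hdQ hQ hco hPi.not_isUnit hQu
  · have hPi' : Irreducible (dg0 P) := dag_irreducible hρ hPi hPg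
    have hPm' : (dg0 P).Monic := dag_monic hPg
    have hnd : ¬ P ∣ dg0 P := by
      intro hd
      have h1 : Associated P (dg0 P) := hPi.associated_of_dvd hPi' hd
      exact hPP (eq_of_monic_of_associated hPm hPm' h1).symm
    have hco : IsCoprime P (dg0 P) := (hPi.coprime_iff_not_dvd).2 hnd
    have hd2 : dg0 P ∣ M := by
      rw [hQ, ← hdMf]
      exact Dvd.intro _ rfl
    obtain ⟨R, hR⟩ := hco.mul_dvd (Dvd.intro _ hQ.symm) hd2
    have hRm : R.Monic := (hPm.mul hPm').of_mul_monic_left (hR ▸ hMm)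
    have hfg : GoodP (P * dg0 P) := good_mul hPg (dag_good hPg)
    have hRg : GoodP R := good_of_dvd hMg hRm (Dvd.intro_left _ hR.symm)
    have hdf : dg0 (P * dg0 P) = P * dg0 P := by
      rw [dg0, dag_mul, dag_dag hρ hPg, mul_comm]
    have hdR : dg0 R = R := by
      have h1 : dg0 (P * dg0 P * R) = P * dg0 P * R := by
        rw [← hR, hdM]
      rw [dg0, dag_mul] at h1
      change dg0 (P * dg0 P) * dg0 R = P * dg0 P * R at h1
      rw [hdf] at h1
      exact mul_left_cancel₀ (hPm.mul hPm').ne_zero h1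
    by_cases hRu : IsUnit R
    · right
      right
      have hR1 : R = 1 := hRm.eq_one_of_isUnit hRu
      exact ⟨P, hPi, hPg, hPP, by rw [hR, hR1, mul_one]⟩
    · left
      have hco2 : IsCoprime (P * dg0 P) R := by
        rw [hR] at hsep
        exact hsep.isCoprime
      have hfu : ¬ IsUnit (P * dg0 P) := fun h => hPi.not_isUnit (isUnit_of_mul_isUnit_left h)
      exact idem_of_factor0 h σ hσ hσ' _ R hfg hRg hdf hdR hR hco2 hfu hRu

/-- the idempotents in the pair case -/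
theorem pair_idem (h : AdjOp F st) (σ : A) (hσ : st σ * σ = 1) (hσ' : σ * st σ = 1) (P : F[X]) (hPi : Irreducible P) (hg : GoodP P)
    (hd : dg0 P ≠ P) (hM : minpoly F σ = P * dg0 P) :
    ∃ e₁ e₂ : A, e₁ + e₂ = 1 ∧ e₁ * e₂ = 0 ∧ st e₁ = e₂ ∧ aeval σ P * e₁ = 0 ∧ aeval σ (dg0 P) * e₂ = 0 ∧ e₁ ≠ 0 ∧
      ∀ g : A, Commute g σ → Commute g e₁ := by
  classical
  have hρ : ∀ x : F, (RingHom.id F) ((RingHom.id F) x) = x := fun x => rfl
  have hPi' : Irreducible (dg0 P) := dag_irreducible hρ hPi hg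
  have hPm' : (dg0 P).Monic := dag_monic hg
  have hnd : ¬ P ∣ dg0 P := by
    intro hd'
    have h1 : Associated P (dg0 P) := hPi.associated_of_dvd hPi' hd'
    exact hd (eq_of_monic_of_associated hg.1 hPm' h1).symm
  have hco : IsCoprime P (dg0 P) := (hPi.coprime_iff_not_dvd).2 hnd
  obtain ⟨u, v, huv⟩ := hco
  have hMa : aeval σ (P * dg0 P) = 0 := by
    rw [← hM]
    exact minpoly.aeval F σ
  have hint : IsIntegral F σ := Algebra.IsIntegral.isIntegral σ
  let e₁ : A := aeval σ (v * dg0 P)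
  let e₂ : A := aeval σ (u * P)
  have he : e₁ + e₂ = 1 := by
    simp only [e₁, e₂]
    rw [← map_add, add_comm, huv, map_one]
  have hee : e₁ * e₂ = 0 := by
    simp only [e₁, e₂]
    rw [← map_mul]
    have : v * dg0 P * (u * P) = (v * u) * (P * dg0 P) := by ring
    rw [this, map_mul, hMa, mul_zero]
  have h10 : e₁ ≠ 0 := by
    intro h0
    have h1 : minpoly F σ ∣ v * dg0 P := minpoly.dvd F _ h0
    rw [hM] at h1
    have h2 : P ∣ v := by
      rw [mul_comm v (dg0 P), mul_comm P (dg0 P)] at h1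
      exact (mul_dvd_mul_iff_left hPm'.ne_zero).1 h1
    have h3 : P ∣ 1 := by
      rw [← huv]
      exact dvd_add (Dvd.intro_left _ rfl) (h2.mul_right _)
    exact hPi.not_isUnit (isUnit_of_dvd_one h3)
  have h1P : aeval σ P * e₁ = 0 := by
    simp only [e₁]
    rw [← map_mul]
    have : P * (v * dg0 P) = v * (P * dg0 P) := by ring
    rw [this, map_mul, hMa, mul_zero]
  have h2P : aeval σ (dg0 P) * e₂ = 0 := by
    simp only [e₂]
    rw [← map_mul]
    have : dg0 P * (u * P) = u * (P * dg0 P) := by ring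
    rw [this, map_mul, hMa, mul_zero]
  have hEE : st e₁ + st e₂ = 1 := by
    rw [← h.add, he, h.one]
  -- duality
  have key : ∀ f : F[X], ∀ X : A, X * aeval σ f = 0 → aeval σ (dg0 f) * st X = 0 := by
    intro f X hX
    have h2 : st (aeval σ f) * st X = 0 := by
      rw [← h.mul, hX, h.zero]
    rw [dag0_expr h σ hσ hσ', smul_mul_assoc, mul_assoc, h2, mul_zero, smul_zero]
  have hPdd : dg0 (dg0 P) = P := dag_dag hρ hg
  have h1 : e₁ * st e₁ = 0 := by
    have h3 : aeval σ (dg0 P) * st e₁ = 0 := by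
      apply key
      simp only [e₁]
      rw [← map_mul]
      have : v * dg0 P * P = v * (P * dg0 P) := by ring
      rw [this, map_mul, hMa, mul_zero]
    change aeval σ (v * dg0 P) * st e₁ = 0
    rw [map_mul, mul_assoc, h3, mul_zero]
  have h2 : e₂ * st e₂ = 0 := by
    have h3 : aeval σ P * st e₂ = 0 := by
      have h4 : e₂ * aeval σ (dg0 P) = 0 := by
        simp only [e₂]
        rw [← map_mul]
        have : u * P * dg0 P = u * (P * dg0 P) := by ring
        rw [this, map_mul, hMa, mul_zero]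
      have := key (dg0 P) e₂ h4
      rwa [hPdd] at this
    change aeval σ (u * P) * st e₂ = 0
    rw [map_mul, mul_assoc, h3, mul_zero]
  have hst : st e₁ = e₂ := by
    calc st e₁ = (e₁ + e₂) * st e₁ := by rw [he, one_mul]
      _ = e₂ * st e₁ := by rw [add_mul, h1, zero_add]
      _ = e₂ * (st e₁ + st e₂) := by rw [mul_add, h2, add_zero]
      _ = e₂ := by rw [hEE, mul_one]
  refine ⟨e₁, e₂, he, hee, hst, h1P, h2P, h10, ?_⟩
  intro g hg
  exact aeval_commute_of hg _

end abs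

end Cfsg.Agent.H11.Spec
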