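import Cfsg.Agent.Lib.H11.Spec13

/-! The symplectic adjoint, self-dual polynomials over a finite field, rank bounds. -/

set_option autoImplicit false
set_option linter.unusedSectionVars false
set_option linter.unusedVariables false

namespace Cfsg.Agent.H11.Spec

open Polynomial Matrix Module Cfsg.Agent.H11.GUC

variable {F : Type*} [Field F] [Fintype F]

/-- an involution of a finite extension is a power of the relative Frobenius -/
theorem invol_frob {E : Type*} [Field E] [Fintype E] [Algebra F E] (σ : E →+* E) (hσF : ∀ c : F, σ (algebraMap F E c) = algebraMap F E c)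
    (hσ2 : ∀ x, σ (σ x) = x) (hσ : ∃ e, σ e ≠ e) :
    ∃ J, finrank F E = 2 * J ∧ ∀ x, σ x = x ^ (Fintype.card F) ^ J := by
  classical
  have hinj : Function.Bijective σ :=
    ⟨σ.injective, fun x => ⟨σ x, hσ2 x⟩⟩
  let σR : E ≃+* E := RingEquiv.ofBijective σ hinj
  let σA : E ≃ₐ[F] E := AlgEquiv.ofRingEquiv (f := σR) hσF
  have hσA : ∀ x, σA x = σ x := fun _ => rfl
  let Fr := FiniteField.frobeniusAlgEquivOfAlgebraic F E
  have hbij := FiniteField.bijective_frobeniusAlgEquivOfAlgebraic_pow F E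
  obtain ⟨j, hj⟩ := hbij.2 σA
  obtain ⟨J, hJlt, hj'⟩ : ∃ J : ℕ, J < finrank F E ∧ Fr ^ J = σA := ⟨j.1, j.2, hj⟩
  have hfrob : ∀ (i : ℕ) (x : E), (Fr ^ i) x = x ^ (Fintype.card F) ^ i := fun i x => Cfsg.Agent.H11.PSpG.frob_pow (F := F) (E := E) i x
  have hσp : ∀ x, σ x = x ^ (Fintype.card F) ^ J := by
    intro x
    rw [← hfrob, hj']
    rfl
  have hcard : Fintype.card E = (Fintype.card F) ^ finrank F E := Module.card_eq_pow_finrank (K := F) (V := E)
  have hm1 : Fr ^ finrank F E = 1 := by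
    ext x
    rw [hfrob, ← hcard, FiniteField.pow_card]
    rfl
  have hj0 : J ≠ 0 := by
    intro h
    obtain ⟨e, he⟩ := hσ
    apply he
    rw [hσp, h]
    simp
  have h2j : Fr ^ (2 * J) = 1 := by
    ext x
    rw [hfrob, two_mul, pow_add, pow_mul, ← hσp, ← hσp, hσ2]
    rfl
  have hinjF := hbij.1
  have hm_eq : 2 * J = finrank F E := by
    by_contra hne
    rcases lt_or_gt_of_ne hne with hlt | hgt
    · have : (⟨2 * J, hlt⟩ : Fin (finrank F E)) = ⟨0, by omega⟩ := by
        apply hinjF
        change Fr ^ (2 * J) = Fr ^ 0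
        rw [h2j, pow_zero]
      have h5 : 2 * J = 0 := congrArg Fin.val this
      omega
    · have hsub : 2 * J - finrank F E < finrank F E := by omega
      have h3 : Fr ^ (2 * J - finrank F E) = 1 := by
        have h4 : Fr ^ (2 * J) = Fr ^ (2 * J - finrank F E) * Fr ^ finrank F E := by
          rw [← pow_add, Nat.sub_add_cancel hgt.le]
        rw [h2j, hm1, mul_one] at h4
        exact h4.symm
      have : (⟨2 * J - finrank F E, hsub⟩ : Fin (finrank F E)) = ⟨0, by omega⟩ := by
        apply hinjF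
        change Fr ^ (2 * J - finrank F E) = Fr ^ 0
        rw [h3, pow_zero]
      have h5 : 2 * J - finrank F E = 0 := congrArg Fin.val this
      omega
  exact ⟨J, hm_eq.symm, hσp⟩

/-- self-dual irreducible polynomials over a finite field -/
theorem selfdual_sp {P : F[X]} (hP : Irreducible P) (hg : GoodP P) (hd : dg0 P = P) (h1 : P ≠ X - 1) (h2 : P ≠ X + 1) :
    ∃ d, 1 ≤ d ∧ P.natDegree = 2 * d ∧ P ∣ X ^ (Fintype.card F ^ d + 1) - 1 := by
  classical
  haveI : Fact (Irreducible P) := ⟨hP⟩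
  let pb := AdjoinRoot.powerBasis hP.ne_zero
  haveI : Module.Finite F (AdjoinRoot P) := pb.finite
  have hfin : Module.finrank F (AdjoinRoot P) = P.natDegree := by
    rw [pb.finrank]
    exact AdjoinRoot.powerBasis_dim hP.ne_zero
  haveI : Finite (AdjoinRoot P) := Module.finite_of_finite F
  letI : Fintype (AdjoinRoot P) := Fintype.ofFinite _
  set θ := AdjoinRoot.root P with hθ
  have hθ0 : θ ≠ 0 := by
    intro h
    have h1 : AdjoinRoot.mk P X = 0 := h
    rw [AdjoinRoot.mk_eq_zero] at h1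
    exact hg.2 (Polynomial.X_dvd_iff.1 ((hP.dvd_symm irreducible_X h1)))
  have hroot : eval₂ (AdjoinRoot.of P) θ⁻¹ P = 0 := by
    have h1 : aeval θ (dg0 P) = 0 := by
      rw [hd]
      exact AdjoinRoot.aeval_eq P ▸ (by simp [θ])
    unfold dg0 dag at h1
    rw [Polynomial.map_id, map_mul, aeval_C, aeval_reverse θ θ⁻¹ (mul_inv_cancel₀ hθ0) (inv_mul_cancel₀ hθ0)] at h1
    have h2 : algebraMap F (AdjoinRoot P) ((RingHom.id F) (P.coeff 0))⁻¹ ≠ 0 := by
      rw [_root_.map_ne_zero]
      exact inv_ne_zero hg.2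
    have h3 := (mul_eq_zero.1 h1).resolve_left h2
    have h4 := (mul_eq_zero.1 h3).resolve_left (pow_ne_zero _ hθ0)
    exact h4
  let ι : AdjoinRoot P →+* AdjoinRoot P := AdjoinRoot.lift (AdjoinRoot.of P) θ⁻¹ hroot
  have hιroot : ι θ = θ⁻¹ := AdjoinRoot.lift_root hroot
  have hιof : ∀ c : F, ι (AdjoinRoot.of P c) = AdjoinRoot.of P c := fun c => AdjoinRoot.lift_of hroot
  have hι2 : ∀ x, ι (ι x) = x := by
    have h1 : ι.comp ι = RingHom.id _ := by
      apply Ideal.Quotient.ringHom_ext
      apply Polynomial.ringHom_ext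
      · intro c
        change ι (ι (AdjoinRoot.of P c)) = AdjoinRoot.of P c
        rw [hιof, hιof]
      · change ι (ι θ) = θ
        rw [hιroot, map_inv₀, hιroot, inv_inv]
    intro x
    exact congrArg (fun f : AdjoinRoot P →+* AdjoinRoot P => f x) h1
  have hθ2 : θ ^ 2 ≠ 1 := by
    intro h
    have h3 : P ∣ (X - 1) * (X + 1) := by
      rw [← AdjoinRoot.mk_eq_zero, map_mul, map_sub, map_add, map_one, AdjoinRoot.mk_X]
      have : (θ - 1) * (θ + 1) = θ ^ 2 - 1 := by ring
      change (θ - 1) * (θ + 1) = 0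
      rw [this, h, sub_self]
    have hX1 : Irreducible (X - 1 : F[X]) := by
      have := irreducible_X_sub_C (1 : F)
      simpa using this
    have hX2 : Irreducible (X + 1 : F[X]) := by
      have := irreducible_X_sub_C (-1 : F)
      simpa using this
    rcases hP.prime.2.2 _ _ h3 with h4 | h4
    · exact h1 (eq_of_monic_of_associated hg.1 (by simpa using monic_X_sub_C (1 : F)) (hP.associated_of_dvd hX1 h4))
    · exact h2 (eq_of_monic_of_associated hg.1 (by simpa using monic_X_add_C (1 : F)) (hP.associated_of_dvd hX2 h4))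
  have hιne : ∃ e, ι e ≠ e := by
    refine ⟨θ, ?_⟩
    rw [hιroot]
    intro h
    apply hθ2
    have h4 := inv_mul_cancel₀ hθ0
    rw [h] at h4
    rw [sq]
    exact h4
  obtain ⟨J, hJ1, hJ2⟩ := invol_frob (F := F) ι hιof hι2 hιne
  rw [hfin] at hJ1
  refine ⟨J, ?_, hJ1, ?_⟩
  · have := hP.natDegree_pos
    omega
  · rw [← AdjoinRoot.mk_eq_zero]
    simp only [map_sub, map_pow, AdjoinRoot.mk_X, map_one]
    change θ ^ (Fintype.card F ^ J + 1) - 1 = 0
    rw [pow_succ, ← hJ2, hιroot, inv_mul_cancel₀ hθ0, sub_self]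

/-- irreducible polynomials divide `X^(q^d - 1) - 1` -/
theorem irr_dvd_pow {P : F[X]} (hP : Irreducible P) (hg : GoodP P) : P ∣ X ^ (Fintype.card F ^ P.natDegree - 1) - 1 := by
  classical
  haveI : Fact (Irreducible P) := ⟨hP⟩
  let pb := AdjoinRoot.powerBasis hP.ne_zero
  haveI : Module.Finite F (AdjoinRoot P) := pb.finite
  have hfin : Module.finrank F (AdjoinRoot P) = P.natDegree := by
    rw [pb.finrank]
    exact AdjoinRoot.powerBasis_dim hP.ne_zero
  haveI : Finite (AdjoinRoot P) := Module.finite_of_finite F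
  letI : Fintype (AdjoinRoot P) := Fintype.ofFinite _
  set θ := AdjoinRoot.root P with hθ
  have hθ0 : θ ≠ 0 := by
    intro h
    have h1 : AdjoinRoot.mk P X = 0 := h
    rw [AdjoinRoot.mk_eq_zero] at h1
    exact hg.2 (Polynomial.X_dvd_iff.1 ((hP.dvd_symm irreducible_X h1)))
  have hcard : Fintype.card (AdjoinRoot P) = Fintype.card F ^ P.natDegree := by
    rw [Module.card_eq_pow_finrank (K := F) (V := AdjoinRoot P), hfin]
  rw [← AdjoinRoot.mk_eq_zero]
  simp only [map_sub, map_pow, AdjoinRoot.mk_X, map_one]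
  change θ ^ (Fintype.card F ^ P.natDegree - 1) - 1 = 0
  rw [← hcard, FiniteField.pow_card_sub_one_eq_one θ hθ0, sub_self]

/-- the rank bound -/
theorem rank_bound {V : Type*} [AddCommGroup V] [Module F V] [FiniteDimensional F V] (T N : V →ₗ[F] V) (hTN : Commute T N)
    {P : F[X]} (hP : Irreducible P) (hann : aeval T P = 0) (k : ℕ) (hnil : IsNilpotent N) (hk : N ^ k ≠ 0) :
    (k + 1) * P.natDegree ≤ finrank F V ∧ P.natDegree ∣ finrank F V := by
  classical
  haveI : Fact (Irreducible P) := ⟨hP⟩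
  let pb := AdjoinRoot.powerBasis hP.ne_zero
  haveI : Module.Finite F (AdjoinRoot P) := pb.finite
  have hfin : Module.finrank F (AdjoinRoot P) = P.natDegree := by
    rw [pb.finrank]
    exact AdjoinRoot.powerBasis_dim hP.ne_zero
  let φ : AdjoinRoot P →+* (V →ₗ[F] V) := Ideal.Quotient.lift (Ideal.span {P}) (aeval T : F[X] →ₐ[F] (V →ₗ[F] V)).toRingHom (by
    intro a ha
    obtain ⟨c, rfl⟩ := Ideal.mem_span_singleton.1 ha
    change aeval T (P * c) = 0
    rw [map_mul, hann, zero_mul])
  have hφmk : ∀ f : F[X], φ (AdjoinRoot.mk P f) = aeval T f := by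
    intro f
    exact Ideal.Quotient.lift_mk _ _ _
  letI : Module (AdjoinRoot P) V := Module.compHom V φ
  have hsmul : ∀ (e : AdjoinRoot P) (v : V), e • v = φ e v := fun _ _ => rfl
  haveI : IsScalarTower F (AdjoinRoot P) V := ⟨by
    intro c e v
    obtain ⟨f, rfl⟩ := AdjoinRoot.mk_surjective e
    have h1 : c • AdjoinRoot.mk P f = AdjoinRoot.mk P (c • f) := (_root_.map_smul (AdjoinRoot.mkₐ P) c f).symm
    rw [hsmul, hsmul, h1, hφmk, hφmk, map_smul]
    rfl⟩
  have hcomm : ∀ (e : AdjoinRoot P) (v : V), N (φ e v) = φ e (N v) := by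
    intro e v
    obtain ⟨f, rfl⟩ := AdjoinRoot.mk_surjective e
    rw [hφmk]
    have h1 : Commute N (aeval T f) := aeval_commute_of hTN.symm f
    exact congrArg (fun g : V →ₗ[F] V => g v) h1.eq
  let N' : V →ₗ[AdjoinRoot P] V :=
    { toFun := N
      map_add' := map_add N
      map_smul' := by
        intro e v
        exact hcomm e v }
  have hN' : ∀ (j : ℕ) (v : V), (N' ^ j) v = (N ^ j) v := by
    intro j
    induction j with
    | zero => intro v; rfl
    | succ j ih =>
      intro v
      rw [pow_succ, pow_succ, Module.End.mul_apply, Module.End.mul_apply, ih]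
      rfl
  obtain ⟨m, hm⟩ := hnil
  have hnil' : IsNilpotent N' := by
    refine ⟨m, ?_⟩
    apply LinearMap.ext
    intro v
    rw [hN', hm]
    rfl
  haveI : Module.Finite (AdjoinRoot P) V := Module.Finite.of_restrictScalars_finite F _ V
  have h0 := Cfsg.Agent.H11.pow_finrank_eq_zero_of_nilpotent N' hnil'
  have hmul : finrank F (AdjoinRoot P) * finrank (AdjoinRoot P) V = finrank F V := Module.finrank_mul_finrank F _ V
  rw [hfin] at hmul
  have hlt : k < finrank (AdjoinRoot P) V := by
    by_contra hcon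
    push Not at hcon
    apply hk
    apply LinearMap.ext
    intro v
    obtain ⟨c, rfl⟩ := Nat.exists_eq_add_of_le hcon
    rw [← hN'] 
    simp only [pow_add, h0, zero_mul]
    rfl
  constructor
  · rw [← hmul, mul_comm]
    exact Nat.mul_le_mul_left _ hlt
  · exact Dvd.intro _ hmul

end Cfsg.Agent.H11.Spec
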