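import Cfsg.Agent.Lib.H11.Spec14
import Cfsg.Agent.Lib.H11.PSpF
import Cfsg.Agent.Lib.H11.RegSp1

/-! Elements of prescribed order in symplectic groups, with control over the centre. -/

set_option autoImplicit false
set_option linter.unusedSectionVars false
set_option linter.unusedVariables false

namespace Cfsg.Agent.H11.PSpG

open Module Matrix Cfsg.Agent.H29

variable {F : Type*} [Field F] [Fintype F]

/-- from an isometry -/
theorem blk_of_form2 {V : Type*} [AddCommGroup V] [Module F V] [FiniteDimensional F V] (ω : V →ₗ[F] V →ₗ[F] F)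
    (halt : ∀ v, ω v v = 0) (hnd : NondegOn ω ⊤) (d : ℕ) (hd : finrank F V = 2 * d) (τ : V →ₗ[F] V)
    (hiso : ∀ x y, ω (τ x) (τ y) = ω x y) (N : ℕ) (hN : ∀ m : ℕ, τ ^ m = 1 ↔ N ∣ m) :
    ∃ g : symplecticGroup (Fin d) F, (∀ m : ℕ, g ^ m = 1 ↔ N ∣ m) ∧
      ∀ M, ((g ^ M : symplecticGroup (Fin d) F) : Matrix (Fin d ⊕ Fin d) (Fin d ⊕ Fin d) F) = -1 ↔ τ ^ M = -1 := by
  classical
  obtain ⟨Λ, hΛ⟩ := darboux ω halt hnd d hd
  let A : Matrix (Fin d ⊕ Fin d) (Fin d ⊕ Fin d) F :=
    LinearMap.toMatrix' (Λ.symm.toLinearMap ∘ₗ τ ∘ₗ Λ.toLinearMap)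
  have hA : ∀ u, A *ᵥ u = Λ.symm (τ (Λ u)) := by
    intro u
    rw [← Matrix.toLin'_apply, Matrix.toLin'_toMatrix']
    simp
  have hmem : A ∈ symplecticGroup (Fin d) F := by
    apply mem_of_form
    intro u v
    rw [hA, hA, ← hΛ, ← hΛ u v]
    simp [hiso]
  have hpow : ∀ (m : ℕ) (u : Fin d ⊕ Fin d → F), A ^ m *ᵥ u = Λ.symm ((τ ^ m) (Λ u)) := by
    intro m
    induction m with
    | zero => intro u; simp
    | succ m ih =>
      intro u
      rw [pow_succ, ← Matrix.mulVec_mulVec, hA, ih, pow_succ, Module.End.mul_apply]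
      simp
  have hval : ∀ M : ℕ, (((⟨A, hmem⟩ : symplecticGroup (Fin d) F) ^ M : symplecticGroup (Fin d) F) : Matrix (Fin d ⊕ Fin d) (Fin d ⊕ Fin d) F) = A ^ M := by
    intro M
    rfl
  refine ⟨⟨A, hmem⟩, fun m => ?_, fun M => ?_⟩
  · rw [← hN]
    constructor
    · intro h
      have h1 : A ^ m = 1 := by
        have := congrArg Subtype.val h
        simpa using this
      apply LinearMap.ext
      intro v
      have h2 := hpow m (Λ.symm v)
      rw [h1, Matrix.one_mulVec, LinearEquiv.apply_symm_apply] at h2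
      have h3 := congrArg Λ h2
      simp only [LinearEquiv.apply_symm_apply] at h3
      exact h3.symm
    · intro h
      apply Subtype.ext
      have h1 : A ^ m = 1 := by
        apply Cfsg.Agent.Lead.mat_ext_mulVec
        intro u
        rw [hpow, h]
        simp
      simpa using h1
  · rw [hval]
    constructor
    · intro h
      apply LinearMap.ext
      intro v
      have h2 := hpow M (Λ.symm v)
      rw [h, Matrix.neg_mulVec, Matrix.one_mulVec, LinearEquiv.apply_symm_apply] at h2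
      have h3 := congrArg Λ h2
      simp only [LinearEquiv.apply_symm_apply, map_neg] at h3
      change (τ ^ M) v = -v
      exact h3.symm
    · intro h
      apply Cfsg.Agent.Lead.mat_ext_mulVec
      intro u
      rw [hpow, h, Matrix.neg_mulVec, Matrix.one_mulVec]
      simp

theorem elt_neg {E : Type*} [Field E] (z : E) {N : ℕ} (hz : ∀ m : ℕ, z ^ m = 1 ↔ N ∣ m) (N' : ℕ) (hN0 : N' ≠ 0) (hN' : N' = N) (M : ℕ) (hM : 2 * M = N') : z ^ M = -1 := by
  subst hN'
  have h1 : z ^ M * z ^ M = 1 := by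
    rw [← pow_add, ← two_mul, hM]
    exact (hz N').2 dvd_rfl
  rcases mul_self_eq_one_iff.1 h1 with h2 | h2
  · exfalso
    have h3 := (hz M).1 h2
    have h4 := Nat.le_of_dvd (by omega) h3
    omega
  · exact h2

/-- `N ∣ q^e - 1` -/
theorem blk_sub2 (e : ℕ) (he : 1 ≤ e) (N : ℕ) (hN : N ∣ Fintype.card F ^ e - 1) :
    ∃ g : symplecticGroup (Fin e) F, (∀ m : ℕ, g ^ m = 1 ↔ N ∣ m) ∧
      ∀ M, 2 * M = N → ((g ^ M : symplecticGroup (Fin e) F) : Matrix (Fin e ⊕ Fin e) (Fin e ⊕ Fin e) F) = -1 := by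
  classical
  obtain ⟨E, _, _, _, hcard, hfr, -⟩ := Cfsg.Agent.H10.exists_field_matrix F e he
  obtain ⟨z, hz⟩ := exists_elt_order (E := E) N (by rwa [hcard])
  haveI : FiniteDimensional F E := Module.Finite.of_finite
  have hz0 : z ≠ 0 := by
    rintro rfl
    have h1 := (hz N).2 dvd_rfl
    have hN0 : N ≠ 0 := by
      rintro rfl
      have h2 : Fintype.card F ^ e - 1 = 0 := by simpa using hN
      have h3 : 2 ≤ Fintype.card F := Fintype.one_lt_card
      have h4 : 2 ^ 1 ≤ Fintype.card F ^ e := (Nat.pow_le_pow_left h3 1).trans (Nat.pow_le_pow_right (by omega) he)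
      omega
    rw [zero_pow hN0] at h1
    exact zero_ne_one h1
  let Tr := Algebra.trace F E
  let ω : (E × E) →ₗ[F] (E × E) →ₗ[F] F :=
    LinearMap.mk₂ F (fun x y => Tr (x.1 * y.2 - x.2 * y.1))
      (fun a b c => by
        simp only [Prod.fst_add, Prod.snd_add, ← map_add]
        congr 1
        ring)
      (fun c a b => by
        rw [← map_smul Tr]
        congr 1
        simp only [Prod.smul_fst, Prod.smul_snd, smul_sub, smul_mul_assoc])
      (fun a b c => by
        simp only [Prod.fst_add, Prod.snd_add, ← map_add]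
        congr 1
        ring)
      (fun c a b => by
        rw [← map_smul Tr]
        congr 1
        simp only [Prod.smul_fst, Prod.smul_snd, smul_sub, mul_smul_comm])
  have hω : ∀ x y, ω x y = Tr (x.1 * y.2 - x.2 * y.1) := fun _ _ => rfl
  let τ : (E × E) →ₗ[F] (E × E) := (LinearMap.mulLeft F z).prodMap (LinearMap.mulLeft F z⁻¹)
  have hτ : ∀ x, τ x = (z * x.1, z⁻¹ * x.2) := fun _ => rfl
  have hpow : ∀ (m : ℕ) (x : E × E), (τ ^ m) x = (z ^ m * x.1, z⁻¹ ^ m * x.2) := by
    intro m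
    induction m with
    | zero => intro x; simp
    | succ m ih =>
      intro x
      rw [pow_succ, Module.End.mul_apply, ih, hτ, pow_succ, pow_succ]
      ext <;> simp <;> ring
  have htr : ∀ a : E, a ≠ 0 → ∃ b : E, Tr (a * b) ≠ 0 := by
    intro a ha
    by_contra hcon
    push Not at hcon
    apply ha
    apply (traceForm_nondegenerate F E).1 a
    intro b
    simpa [Algebra.traceForm_apply] using hcon b
  have hN0 : N ≠ 0 := by
    rintro rfl
    have h2 : Fintype.card F ^ e - 1 = 0 := by simpa using hN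
    have h3 : 2 ≤ Fintype.card F := Fintype.one_lt_card
    have h4 : 2 ^ 1 ≤ Fintype.card F ^ e := (Nat.pow_le_pow_left h3 1).trans (Nat.pow_le_pow_right (by omega) he)
    omega
  have hneg : ∀ M, 2 * M = N → τ ^ M = -1 := by
    intro M hM
    have hzM := elt_neg z hz N hN0 rfl M hM
    apply LinearMap.ext
    intro x
    rw [hpow, hzM, inv_pow, hzM]
    ext <;> simp
  suffices h : ∃ g : symplecticGroup (Fin e) F, (∀ m : ℕ, g ^ m = 1 ↔ N ∣ m) ∧
      ∀ M, ((g ^ M : symplecticGroup (Fin e) F) : Matrix (Fin e ⊕ Fin e) (Fin e ⊕ Fin e) F) = -1 ↔ τ ^ M = -1 by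
    obtain ⟨g, hg1, hg2⟩ := h
    exact ⟨g, hg1, fun M hM => (hg2 M).2 (hneg M hM)⟩
  refine blk_of_form2 ω ?_ ?_ e ?_ τ ?_ N ?_
  · intro v
    rw [hω, mul_comm, sub_self, map_zero]
  · rintro ⟨x₁, x₂⟩ _ hx
    by_cases h1 : x₁ = 0
    · have h2 : x₂ ≠ 0 := by
        rintro rfl
        exact hx (by rw [h1]; rfl)
      obtain ⟨b, hb⟩ := htr x₂ h2
      refine ⟨(-b, 0), Submodule.mem_top, ?_⟩
      rw [hω]
      simpa [h1] using hb
    · obtain ⟨b, hb⟩ := htr x₁ h1
      refine ⟨(0, b), Submodule.mem_top, ?_⟩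
      rw [hω]
      simpa using hb
  · rw [Module.finrank_prod, hfr]
    ring
  · intro x y
    rw [hτ, hτ, hω, hω]
    congr 1
    simp only
    field_simp
  · intro m
    rw [← hz]
    constructor
    · intro h
      have h1 := LinearMap.congr_fun h (1, 0)
      rw [hpow] at h1
      have h2 := congrArg Prod.fst h1
      simpa using h2
    · intro h
      apply LinearMap.ext
      intro x
      rw [hpow, h, inv_pow, h]
      simp

/-- `N ∣ q^e + 1` -/
theorem blk_add2 (e : ℕ) (he : 1 ≤ e) (N : ℕ) (hN : N ∣ Fintype.card F ^ e + 1) :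
    ∃ g : symplecticGroup (Fin e) F, (∀ m : ℕ, g ^ m = 1 ↔ N ∣ m) ∧
      ∀ M, 2 * M = N → ((g ^ M : symplecticGroup (Fin e) F) : Matrix (Fin e ⊕ Fin e) (Fin e ⊕ Fin e) F) = -1 := by
  classical
  obtain ⟨E, _, _, _, hcard, hfr, -⟩ := Cfsg.Agent.H10.exists_field_matrix F (2 * e) (by omega)
  set q := Fintype.card F with hq
  have hq2 : 2 ≤ q := Fintype.one_lt_card
  set Q := q ^ e with hQ
  have hQ2 : 2 ≤ Q := by
    have h4 : 2 ^ 1 ≤ q ^ e := (Nat.pow_le_pow_left hq2 1).trans (Nat.pow_le_pow_right (by omega) he)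
    simpa using h4
  have hcardE : Fintype.card E = Q ^ 2 := by
    rw [hcard, hQ, ← pow_mul, mul_comm]
  have hdvd : N ∣ Fintype.card E - 1 := by
    rw [hcardE]
    exact hN.trans (nat_aux_Q Q hQ2)
  obtain ⟨z, hz⟩ := exists_elt_order (E := E) N hdvd
  haveI : FiniteDimensional F E := Module.Finite.of_finite
  have hN0 : N ≠ 0 := by
    rintro rfl
    have := Nat.eq_zero_of_zero_dvd hN
    omega
  have hz1 : z ^ (Q + 1) = 1 := (hz _).2 hN
  have hz0 : z ≠ 0 := by
    rintro rfl
    rw [zero_pow (by omega)] at hz1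
    exact zero_ne_one hz1
  let Fr := FiniteField.frobeniusAlgEquivOfAlgebraic F E
  have hfrob : ∀ (j : ℕ) (x : E), (Fr ^ j) x = x ^ Fintype.card F ^ j := fun j x => frob_pow j x
  let φ : E ≃ₐ[F] E := Fr ^ e
  have hφ : ∀ x, φ x = x ^ Q := fun x => hfrob e x
  have hφφ : ∀ x, φ (φ x) = x := by
    intro x
    rw [hφ, hφ, ← pow_mul, ← pow_two, ← hcardE, FiniteField.pow_card]
  -- a skew element
  have hne : φ ≠ 1 := by
    intro h
    have hinj := (FiniteField.bijective_frobeniusAlgEquivOfAlgebraic_pow F E).1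
    have h1 : (⟨e, by rw [hfr]; omega⟩ : Fin (finrank F E)) = ⟨0, by rw [hfr]; omega⟩ := by
      apply hinj
      change Fr ^ e = Fr ^ 0
      rw [pow_zero]
      exact h
    have h2 : e = 0 := congrArg Fin.val h1
    omega
  obtain ⟨w, hw⟩ : ∃ w, φ w ≠ w := by
    by_contra hcon
    push Not at hcon
    exact hne (AlgEquiv.ext hcon)
  set δ := φ w - w with hδ
  have hδ0 : δ ≠ 0 := sub_ne_zero.2 hw
  have hφδ : φ δ = -δ := by
    rw [hδ, map_sub, hφφ]
    ring
  let Tr := Algebra.trace F E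
  let ω : E →ₗ[F] E →ₗ[F] F :=
    LinearMap.mk₂ F (fun x y => Tr (δ * x * φ y))
      (fun a b c => by
        simp only [← map_add]
        congr 1
        ring)
      (fun c a b => by
        rw [← map_smul Tr]
        congr 1
        simp only [mul_smul_comm, smul_mul_assoc])
      (fun a b c => by
        rw [map_add φ, ← map_add Tr]
        congr 1
        ring)
      (fun c a b => by
        rw [← map_smul Tr, map_smul φ]
        congr 1
        simp only [mul_smul_comm])
  have hω : ∀ x y, ω x y = Tr (δ * x * φ y) := fun _ _ => rfl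
  let τ : E →ₗ[F] E := LinearMap.mulLeft F z
  have hτ : ∀ x, τ x = z * x := fun _ => rfl
  have hpow : ∀ (m : ℕ) (x : E), (τ ^ m) x = z ^ m * x := by
    intro m
    induction m with
    | zero => intro x; simp
    | succ m ih =>
      intro x
      rw [pow_succ, Module.End.mul_apply, ih, hτ, pow_succ]
      ring
  have htr : ∀ a : E, a ≠ 0 → ∃ b : E, Tr (a * b) ≠ 0 := by
    intro a ha
    by_contra hcon
    push Not at hcon
    apply ha
    apply (traceForm_nondegenerate F E).1 a
    intro b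
    simpa [Algebra.traceForm_apply] using hcon b
  have hneg : ∀ M, 2 * M = N → τ ^ M = -1 := by
    intro M hM
    have hzM := elt_neg z hz N hN0 rfl M hM
    apply LinearMap.ext
    intro x
    rw [hpow, hzM]
    simp
  suffices h : ∃ g : symplecticGroup (Fin e) F, (∀ m : ℕ, g ^ m = 1 ↔ N ∣ m) ∧
      ∀ M, ((g ^ M : symplecticGroup (Fin e) F) : Matrix (Fin e ⊕ Fin e) (Fin e ⊕ Fin e) F) = -1 ↔ τ ^ M = -1 by
    obtain ⟨g, hg1, hg2⟩ := h
    exact ⟨g, hg1, fun M hM => (hg2 M).2 (hneg M hM)⟩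
  refine blk_of_form2 ω ?_ ?_ e hfr τ ?_ N ?_
  · intro v
    rw [hω]
    apply trace_skew e hfr
    have h1 : (δ * v * φ v) ^ q ^ e = φ (δ * v * φ v) := (hφ _).symm
    rw [h1, map_mul, map_mul, hφδ, hφφ]
    ring
  · intro x _ hx
    obtain ⟨b, hb⟩ := htr (δ * x) (mul_ne_zero hδ0 hx)
    refine ⟨φ.symm b, Submodule.mem_top, ?_⟩
    rw [hω, AlgEquiv.apply_symm_apply]
    exact hb
  · intro x y
    rw [hτ, hτ, hω, hω, map_mul φ, hφ z]
    congr 1
    have h1 : z * z ^ Q = 1 := by
      rw [← pow_succ', hz1]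
    calc δ * (z * x) * (z ^ Q * φ y) = (z * z ^ Q) * (δ * x * φ y) := by ring
      _ = δ * x * φ y := by rw [h1, one_mul]
  · intro m
    rw [← hz]
    constructor
    · intro h
      have h1 := LinearMap.congr_fun h 1
      rw [hpow] at h1
      simpa using h1
    · intro h
      apply LinearMap.ext
      intro x
      rw [hpow, h]
      simp


end Cfsg.Agent.H11.PSpG
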