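import Cfsg.Agent.Lib.H11.Spec15

/-! Elements of order `2 * N` in the projective symplectic group. -/

set_option autoImplicit false
set_option linter.unusedSectionVars false
set_option linter.unusedVariables false

namespace Cfsg.Agent.H11.PSpG

open Module Matrix Cfsg.Agent.H29

variable {F : Type*} [Field F] [Fintype F]

theorem no_neg {V : Type*} [AddCommGroup V] [Module F V] [Nontrivial V] (h2 : (2 : F) ≠ 0) (L : V →ₗ[F] V) (N : ℕ) (hN : Odd N)
    (h : L ^ N = 1) (M : ℕ) (hM : L ^ M = -1) : False := by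
  have h3 : (L ^ M) ^ N = 1 := by
    rw [← pow_mul, mul_comm, pow_mul, h, one_pow]
  rw [hM, hN.neg_one_pow] at h3
  obtain ⟨v, hv⟩ := exists_ne (0 : V)
  have h4 := LinearMap.congr_fun h3 v
  have h5 : -v = v := h4
  have h6 : (2 : F) • v = 0 := by
    rw [two_smul]
    nth_rewrite 1 [← h5]
    simp
  exact hv (((smul_eq_zero.1 h6).resolve_left h2))

theorem blk_two {d₁ d₂ N₁ N₂ : ℕ} (h2 : (2 : F) ≠ 0) (h₁ : Blk F d₁ N₁) (h₂ : Blk F d₂ N₂) (hd₁ : 1 ≤ d₁) (hd₂ : 1 ≤ d₂)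
    (hN₁ : Odd N₁) (hN₂ : Odd N₂) (hco : Nat.Coprime N₁ N₂) :
    ∃ x : Cfsg.PSp (d₁ + d₂) F, orderOf x = 2 * (N₁ * N₂) := by
  classical
  obtain ⟨g₁, hg₁⟩ := h₁
  obtain ⟨g₂, hg₂⟩ := h₂
  haveI : Nonempty (Fin d₁) := ⟨⟨0, hd₁⟩⟩
  haveI : Nonempty (Fin d₂) := ⟨⟨0, hd₂⟩⟩
  let V₁ := Fin d₁ ⊕ Fin d₁ → F
  let V₂ := Fin d₂ ⊕ Fin d₂ → F
  haveI : Nontrivial V₁ := inferInstanceAs (Nontrivial (Fin d₁ ⊕ Fin d₁ → F))
  haveI : Nontrivial V₂ := inferInstanceAs (Nontrivial (Fin d₂ ⊕ Fin d₂ → F))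
  let L₁ : V₁ →ₗ[F] V₁ := Matrix.toLin' (g₁ : Matrix (Fin d₁ ⊕ Fin d₁) (Fin d₁ ⊕ Fin d₁) F)
  let L₂ : V₂ →ₗ[F] V₂ := Matrix.toLin' (g₂ : Matrix (Fin d₂ ⊕ Fin d₂) (Fin d₂ ⊕ Fin d₂) F)
  have hL₁ : ∀ m, L₁ ^ m = 1 ↔ N₁ ∣ m := fun m => by
    rw [← hg₁]
    exact toLin_pow_eq_one g₁ m
  have hL₂ : ∀ m, L₂ ^ m = 1 ↔ N₂ ∣ m := fun m => by
    rw [← hg₂]
    exact toLin_pow_eq_one g₂ m
  have hN₁1 : L₁ ^ N₁ = 1 := (hL₁ N₁).2 dvd_rfl
  have hN₂1 : L₂ ^ N₂ = 1 := (hL₂ N₂).2 dvd_rfl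
  let ω : (V₁ × V₂) →ₗ[F] (V₁ × V₂) →ₗ[F] F :=
    LinearMap.mk₂ F (fun x y => lsf d₁ F x.1 y.1 + lsf d₂ F x.2 y.2)
      (fun a b c => by simp only [Prod.fst_add, Prod.snd_add, map_add, LinearMap.add_apply]; ring)
      (fun c a b => by simp only [Prod.smul_fst, Prod.smul_snd, map_smul, LinearMap.smul_apply, smul_eq_mul]; ring)
      (fun a b c => by simp only [Prod.fst_add, Prod.snd_add, map_add]; ring)
      (fun c a b => by simp only [Prod.smul_fst, Prod.smul_snd, map_smul, smul_eq_mul]; ring)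
  have hω : ∀ x y, ω x y = lsf d₁ F x.1 y.1 + lsf d₂ F x.2 y.2 := fun _ _ => rfl
  let τ : (V₁ × V₂) →ₗ[F] (V₁ × V₂) := L₁.prodMap (-L₂)
  have hτ : ∀ x, τ x = (L₁ x.1, (-L₂) x.2) := fun _ => rfl
  have hpow : ∀ (m : ℕ) (x : V₁ × V₂), (τ ^ m) x = ((L₁ ^ m) x.1, ((-L₂) ^ m) x.2) := by
    intro m
    induction m with
    | zero => intro x; simp
    | succ m ih =>
      intro x
      rw [pow_succ, Module.End.mul_apply, ih, hτ, pow_succ, pow_succ]
      rfl
  have hneg2 : ∀ m, (-L₂) ^ m = 1 ↔ 2 * N₂ ∣ m := by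
    intro m
    constructor
    · intro h
      rcases Nat.even_or_odd m with hm | hm
      · have h3 := (hL₂ m).1 ((hm.neg_pow L₂).symm.trans h)
        exact Nat.Coprime.mul_dvd_of_dvd_of_dvd (Nat.coprime_two_left.2 hN₂) hm.two_dvd h3
      · exfalso
        have h' : -(L₂ ^ m) = 1 := (hm.neg_pow L₂).symm.trans h
        have h3 : L₂ ^ m = -1 := by
          rw [← h', neg_neg]
        exact no_neg h2 L₂ N₂ hN₂ hN₂1 m h3
    · rintro ⟨c, rfl⟩
      have hev : Even (2 * N₂ * c) := by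
        rw [mul_assoc]
        exact even_two_mul _
      exact (hev.neg_pow L₂).trans ((hL₂ _).2 ⟨2 * c, by ring⟩)
  have hτ1 : ∀ m, τ ^ m = 1 ↔ 2 * (N₁ * N₂) ∣ m := by
    intro m
    constructor
    · intro h
      have h3 : L₁ ^ m = 1 := by
        apply LinearMap.ext
        intro v
        have h4 := LinearMap.congr_fun h (v, 0)
        rw [hpow] at h4
        exact congrArg Prod.fst h4
      have h5 : (-L₂) ^ m = 1 := by
        apply LinearMap.ext
        intro v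
        have h4 := LinearMap.congr_fun h (0, v)
        rw [hpow] at h4
        exact congrArg Prod.snd h4
      have h6 := (hL₁ m).1 h3
      have h7 := (hneg2 m).1 h5
      have hco2 : Nat.Coprime N₁ (2 * N₂) := Nat.Coprime.mul_right (Nat.coprime_two_right.2 hN₁) hco
      have h8 := hco2.mul_dvd_of_dvd_of_dvd h6 h7
      have e : N₁ * (2 * N₂) = 2 * (N₁ * N₂) := by ring
      rwa [e] at h8
    · intro h
      have h3 : N₁ ∣ m := Dvd.dvd.trans ⟨2 * N₂, by ring⟩ h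
      have h5 : 2 * N₂ ∣ m := (Dvd.intro N₁ (by ring : 2 * N₂ * N₁ = 2 * (N₁ * N₂))).trans h
      apply LinearMap.ext
      intro x
      rw [hpow, (hL₁ m).2 h3, (hneg2 m).2 h5]
      rfl
  obtain ⟨g, hg1, hg2⟩ := blk_of_form2 (V := V₁ × V₂) ω (by
      intro v
      rw [hω, lsf_alt, lsf_alt, add_zero]) (by
      rintro ⟨x₁, x₂⟩ _ hx
      by_cases h1 : x₁ = 0
      · have h2 : x₂ ≠ 0 := by
          rintro rfl
          exact hx (by rw [h1]; rfl)
        obtain ⟨z, -, hz⟩ := lsf_nd d₂ (F := F) x₂ Submodule.mem_top h2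
        refine ⟨(0, z), Submodule.mem_top, ?_⟩
        rw [hω]
        simpa [h1] using hz
      · obtain ⟨z, -, hz⟩ := lsf_nd d₁ (F := F) x₁ Submodule.mem_top h1
        refine ⟨(z, 0), Submodule.mem_top, ?_⟩
        rw [hω]
        change lsf d₁ F x₁ z + lsf d₂ F x₂ 0 ≠ 0
        rw [map_zero, add_zero]
        exact hz) (d₁ + d₂) (by
      rw [Module.finrank_prod, finrank_std, finrank_std]
      ring) τ (by
      intro x y
      rw [hτ, hτ, hω, hω]
      simp only [LinearMap.neg_apply, map_neg, neg_neg]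
      exact congrArg₂ (· + ·) (toLin_iso g₁ _ _) (toLin_iso g₂ _ _)) (2 * (N₁ * N₂)) hτ1
  refine ⟨QuotientGroup.mk g, ?_⟩
  apply Nat.dvd_antisymm
  · apply orderOf_dvd_of_pow_eq_one
    rw [← QuotientGroup.mk_pow, (hg1 _).2 dvd_rfl]
    rfl
  · set m := orderOf (QuotientGroup.mk g : Cfsg.PSp (d₁ + d₂) F) with hm
    have h1 : (QuotientGroup.mk g : Cfsg.PSp (d₁ + d₂) F) ^ m = 1 := pow_orderOf_eq_one _
    rw [← QuotientGroup.mk_pow, QuotientGroup.eq_one_iff] at h1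
    obtain ⟨c, hc1, hc2⟩ := center_sq (by omega) _ h1
    have hc : c = 1 ∨ c = -1 := by
      apply mul_self_eq_one_iff.1
      rw [← sq, hc1]
    rcases hc with rfl | rfl
    · rw [← hg1]
      apply Subtype.ext
      rw [hc2, one_smul]
      rfl
    · exfalso
      have h3 : τ ^ m = -1 := by
        apply (hg2 m).1
        rw [hc2]
        simp
      have h4 : L₁ ^ m = -1 := by
        apply LinearMap.ext
        intro v
        have h5 := LinearMap.congr_fun h3 (v, 0)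
        rw [hpow] at h5
        exact congrArg Prod.fst h5
      exact no_neg h2 L₁ N₁ hN₁ hN₁1 m h4

/-- the order of an element whose power is `-1` -/
theorem psp_order_half {n : ℕ} (hn : 1 ≤ n) (g : symplecticGroup (Fin n) F) (N M : ℕ) (hg : ∀ m : ℕ, g ^ m = 1 ↔ N ∣ m)
    (hM : 2 * M = N) (hneg : ((g ^ M : symplecticGroup (Fin n) F) : Matrix (Fin n ⊕ Fin n) (Fin n ⊕ Fin n) F) = -1) :
    orderOf (QuotientGroup.mk g : Cfsg.PSp n F) = M := by
  apply Nat.dvd_antisymm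
  · apply orderOf_dvd_of_pow_eq_one
    rw [← QuotientGroup.mk_pow, QuotientGroup.eq_one_iff]
    rw [Subgroup.mem_center_iff]
    intro h
    apply Subtype.ext
    change (h : Matrix (Fin n ⊕ Fin n) (Fin n ⊕ Fin n) F) * ((g ^ M : symplecticGroup (Fin n) F) : Matrix (Fin n ⊕ Fin n) (Fin n ⊕ Fin n) F) = ((g ^ M : symplecticGroup (Fin n) F) : Matrix (Fin n ⊕ Fin n) (Fin n ⊕ Fin n) F) * h
    rw [hneg]
    simp
  · set m := orderOf (QuotientGroup.mk g : Cfsg.PSp n F) with hm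
    have h1 : (QuotientGroup.mk g : Cfsg.PSp n F) ^ m = 1 := pow_orderOf_eq_one _
    rw [← QuotientGroup.mk_pow, QuotientGroup.eq_one_iff] at h1
    have h2 := center_sq_eq hn _ h1
    rw [← pow_mul, hg, ← hM, mul_comm m 2] at h2
    exact Nat.dvd_of_mul_dvd_mul_left (by norm_num) h2

/-- unipotent elements -/
theorem blk_unip {p : ℕ} [hpf : Fact p.Prime] [CharP F p] (hp2 : p ≠ 2) (t : ℕ) (ht : 1 ≤ t) : Blk F ((p ^ (t - 1) + 1) / 2) (p ^ t) := by
  classical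
  have hp : p.Prime := Fact.out
  have h2 : (2 : F) ≠ 0 := by
    intro h0
    have h3 : ((2 : ℕ) : F) = 0 := by exact_mod_cast h0
    have h4 := (CharP.cast_eq_zero_iff F p 2).1 h3
    exact hp2 ((Nat.prime_dvd_prime_iff_eq hp Nat.prime_two).1 h4)
  have hodd : Odd (p ^ (t - 1)) := (hp.odd_of_ne_two hp2).pow
  obtain ⟨c, hc⟩ := hodd
  have hD : (p ^ (t - 1) + 1) / 2 = c + 1 := by omega
  rw [hD]
  obtain ⟨u, hu1, hu2⟩ := Cfsg.Agent.H11.RegSp.exists_reg (k := c) (F := F) h2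
  set U : Matrix (Fin (c + 1) ⊕ Fin (c + 1)) (Fin (c + 1) ⊕ Fin (c + 1)) F := (u : Matrix (Fin (c + 1) ⊕ Fin (c + 1)) (Fin (c + 1) ⊕ Fin (c + 1)) F) with hU
  set N := U - 1 with hN
  have hcard : Fintype.card (Fin (c + 1) ⊕ Fin (c + 1)) = 2 * (c + 1) := by
    simp
    ring
  have hUpow : ∀ k : ℕ, U ^ p ^ k = 1 + N ^ p ^ k := by
    intro k
    have := sub_pow_char_pow_of_commute (p := p) (n := k) (x := U) (y := 1) (Commute.one_right U)
    rw [one_pow] at this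
    rw [hN, this]
    abel
  have hpt : p ^ t = p * p ^ (t - 1) := by
    rw [← pow_succ']
    congr 1
    omega
  have hle : 2 * (c + 1) ≤ p ^ t := by
    rw [hpt]
    have := hp.two_le
    nlinarith
  have hN0 : N ^ p ^ t = 0 := by
    obtain ⟨j, hj⟩ := Nat.exists_eq_add_of_le hle
    rw [hj, pow_add, hu1, zero_mul]
  have hNs : N ^ p ^ (t - 1) ≠ 0 := by
    intro h0
    have hnil : (N.mulVecLin : Module.End F _) ^ (2 * (c + 1)) = 0 := by
      rw [← Cfsg.Agent.H11.mulVecLin_pow', hu1]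
      apply LinearMap.ext
      intro v
      simp
    have hker := Cfsg.Agent.H11.finrank_ker_le_one_of_rank N (by rw [hu2, hcard])
    obtain ⟨v, hv⟩ := Cfsg.Agent.H11.exists_cyclic_vector (T := (N.mulVecLin : Module.End F _)) (by
      rw [finrank_fintype_fun_eq_card, hcard]) (by omega) hnil hker
    apply hv
    have e : 2 * (c + 1) - 1 = p ^ (t - 1) := by omega
    rw [e, ← Cfsg.Agent.H11.mulVecLin_pow', h0]
    simp
  have hu3 : u ^ p ^ t = 1 := by
    apply Subtype.ext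
    have : ((u ^ p ^ t : symplecticGroup (Fin (c + 1)) F) : Matrix (Fin (c + 1) ⊕ Fin (c + 1)) (Fin (c + 1) ⊕ Fin (c + 1)) F) = U ^ p ^ t := rfl
    rw [this, hUpow, hN0, add_zero]
    rfl
  have hu4 : u ^ p ^ (t - 1) ≠ 1 := by
    intro h0
    apply hNs
    have h1 := congrArg Subtype.val h0
    have : ((u ^ p ^ (t - 1) : symplecticGroup (Fin (c + 1)) F) : Matrix (Fin (c + 1) ⊕ Fin (c + 1)) (Fin (c + 1) ⊕ Fin (c + 1)) F) = U ^ p ^ (t - 1) := rfl
    rw [this, hUpow] at h1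
    have h3 : 1 + N ^ p ^ (t - 1) = 1 := h1
    simpa using h3
  have ht' : t = (t - 1) + 1 := by omega
  have hord : orderOf u = p ^ t := by
    have := orderOf_eq_prime_pow (p := p) (n := t - 1) hu4 (by rw [← ht']; exact hu3)
    rw [this, ← ht']
  refine ⟨u, fun m => ?_⟩
  rw [← hord, orderOf_dvd_iff_pow_eq_one]

end Cfsg.Agent.H11.PSpG
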