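import Cfsg.Agent.Lib.H11.Spec16

/-! The symplectic adjoint on matrices, rank bounds for idempotents, numerics for the tori of `PSp`. -/

set_option autoImplicit false
set_option linter.unusedSectionVars false
set_option linter.unusedVariables false

namespace Cfsg.Agent.H11.Spec

open Polynomial Matrix Module Cfsg.Agent.H11.GUC

variable {F : Type*} [Field F] [Fintype F] {n : ℕ}

abbrev MatP (n : ℕ) (F : Type*) [Field F] := Matrix (Fin n ⊕ Fin n) (Fin n ⊕ Fin n) F

/-- the symplectic adjoint -/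
noncomputable def stJ (X : MatP n F) : MatP n F := -(Matrix.J (Fin n) F * Xᵀ * Matrix.J (Fin n) F)

theorem adjJ : AdjOp F (stJ (n := n) (F := F)) where
  mul a b := by
    unfold stJ
    rw [Matrix.transpose_mul]
    have hJ := Matrix.J_squared (Fin n) F
    calc -(Matrix.J (Fin n) F * (bᵀ * aᵀ) * Matrix.J (Fin n) F)
        = (Matrix.J (Fin n) F * bᵀ) * (-1 : MatP n F) * (aᵀ * Matrix.J (Fin n) F) := by
          simp only [mul_neg, neg_mul, mul_one, mul_assoc]
      _ = (Matrix.J (Fin n) F * bᵀ) * (Matrix.J (Fin n) F * Matrix.J (Fin n) F) * (aᵀ * Matrix.J (Fin n) F) := by rw [hJ]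
      _ = -(Matrix.J (Fin n) F * bᵀ * Matrix.J (Fin n) F) * -(Matrix.J (Fin n) F * aᵀ * Matrix.J (Fin n) F) := by
          simp only [mul_neg, neg_mul, neg_neg, mul_assoc]
  one := by
    unfold stJ
    rw [Matrix.transpose_one, mul_one, Matrix.J_squared, neg_neg]
  add a b := by
    unfold stJ
    rw [Matrix.transpose_add, mul_add, add_mul, neg_add]
  smul c a := by
    unfold stJ
    rw [Matrix.transpose_smul, mul_smul_comm, smul_mul_assoc, smul_neg]
  invol a := by
    unfold stJ
    have hJ := Matrix.J_squared (Fin n) F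
    have hT := Matrix.J_transpose (Fin n) F
    rw [Matrix.transpose_neg, Matrix.transpose_mul, Matrix.transpose_mul, hT, Matrix.transpose_transpose]
    calc -(Matrix.J (Fin n) F * -(-Matrix.J (Fin n) F * (a * -Matrix.J (Fin n) F)) * Matrix.J (Fin n) F)
        = (Matrix.J (Fin n) F * Matrix.J (Fin n) F) * a * (Matrix.J (Fin n) F * Matrix.J (Fin n) F) := by
          simp only [mul_neg, neg_mul, neg_neg, mul_assoc]
      _ = a := by
          rw [hJ]
          simp

theorem sp_star (g : symplecticGroup (Fin n) F) : (g : MatP n F) * stJ (g : MatP n F) = 1 := by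
  have h1 := (SymplecticGroup.mem_iff).1 g.2
  unfold stJ
  have hJ := Matrix.J_squared (Fin n) F
  calc (g : MatP n F) * -(Matrix.J (Fin n) F * (g : MatP n F)ᵀ * Matrix.J (Fin n) F)
      = -(((g : MatP n F) * Matrix.J (Fin n) F * (g : MatP n F)ᵀ) * Matrix.J (Fin n) F) := by
        simp only [mul_neg, mul_assoc]
    _ = 1 := by rw [h1, hJ, neg_neg]

theorem mem_sp_of_star (y : MatP n F) (h : y * stJ y = 1) : y ∈ symplecticGroup (Fin n) F := by
  rw [SymplecticGroup.mem_iff]
  unfold stJ at h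
  have hJ := Matrix.J_squared (Fin n) F
  have h2 : y * Matrix.J (Fin n) F * yᵀ * Matrix.J (Fin n) F = -1 := by
    have := congrArg Neg.neg h
    simpa [mul_assoc, mul_neg] using this
  calc y * Matrix.J (Fin n) F * yᵀ = y * Matrix.J (Fin n) F * yᵀ * (-(Matrix.J (Fin n) F * Matrix.J (Fin n) F)) := by rw [hJ, neg_neg, mul_one]
    _ = -((y * Matrix.J (Fin n) F * yᵀ * Matrix.J (Fin n) F) * Matrix.J (Fin n) F) := by simp only [mul_neg, mul_assoc]
    _ = Matrix.J (Fin n) F := by rw [h2]; simp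

theorem stJ_sub (a b : MatP n F) : stJ (a - b) = stJ a - stJ b := by
  unfold stJ
  rw [Matrix.transpose_sub, mul_sub, sub_mul]
  abel

theorem aeval_mulVecLin {ι : Type*} [Fintype ι] [DecidableEq ι] (A : Matrix ι ι F) (f : F[X]) :
    aeval (A.mulVecLin) f = (aeval A f).mulVecLin := by
  have e : ∀ B : Matrix ι ι F, B.mulVecLin = (Matrix.toLinAlgEquiv' (R := F) (n := ι)) B :=
    fun B => LinearMap.ext fun v => by rw [Matrix.toLinAlgEquiv'_apply, Matrix.mulVecLin_apply]
  rw [e, e]
  exact Polynomial.aeval_algHom_apply (Matrix.toLinAlgEquiv' (R := F) (n := ι)).toAlgHom A f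

/-- the rank bound for an idempotent -/
theorem rank_bound_mat {ι : Type*} [Fintype ι] [DecidableEq ι] (σ N e : Matrix ι ι F) (hσe : Commute σ e) (hNe : Commute N e)
    (hσN : Commute σ N) {P : F[X]} (hP : Irreducible P) (hann : aeval σ P * e = 0) (k : ℕ) (hnil : IsNilpotent N)
    (hk : N ^ k * e ≠ 0) : (k + 1) * P.natDegree ≤ e.rank ∧ P.natDegree ∣ e.rank := by
  classical
  let W := LinearMap.range e.mulVecLin
  have hrank : finrank F W = e.rank := rfl
  rw [← hrank]
  have hinv : ∀ (X : Matrix ι ι F), Commute X e → ∀ v ∈ W, X.mulVecLin v ∈ W := by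
    rintro X hX _ ⟨x, rfl⟩
    refine ⟨X.mulVecLin x, ?_⟩
    simp only [Matrix.mulVecLin_apply, Matrix.mulVec_mulVec]
    rw [hX.eq]
  let T : W →ₗ[F] W := σ.mulVecLin.restrict (hinv σ hσe)
  let N' : W →ₗ[F] W := N.mulVecLin.restrict (hinv N hNe)
  have hT : ∀ v : W, (T v : ι → F) = σ.mulVecLin v := fun v => rfl
  have hN' : ∀ v : W, (N' v : ι → F) = N.mulVecLin v := fun v => rfl
  have hcomm : Commute T N' := by
    apply LinearMap.ext
    intro v
    apply Subtype.ext
    change σ.mulVecLin (N.mulVecLin v) = N.mulVecLin (σ.mulVecLin v)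
    simp only [Matrix.mulVecLin_apply, Matrix.mulVec_mulVec]
    rw [hσN.eq]
  have hann' : aeval T P = 0 := by
    apply LinearMap.ext
    intro v
    apply Subtype.ext
    rw [Cfsg.Agent.H11.PSpG.aeval_restr T σ.mulVecLin hT, aeval_mulVecLin]
    obtain ⟨x, hx⟩ := v.2
    rw [← hx]
    simp only [Matrix.mulVecLin_apply, Matrix.mulVec_mulVec]
    rw [hann]
    simp
  have hpow : ∀ (j : ℕ) (v : W), ((N' ^ j) v : ι → F) = (N ^ j) *ᵥ (v : ι → F) := by
    intro j v
    rw [Cfsg.Agent.H11.PSpG.pow_on N' N.mulVecLin hN', ← Cfsg.Agent.H11.mulVecLin_pow']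
    rfl
  obtain ⟨m, hm⟩ := hnil
  have hnil' : IsNilpotent N' := by
    refine ⟨m, ?_⟩
    apply LinearMap.ext
    intro v
    apply Subtype.ext
    rw [hpow, hm]
    simp
  have hk' : N' ^ k ≠ 0 := by
    intro h0
    apply hk
    apply Matrix.ext_of_mulVec_single
    intro i
    have h1 := hpow k ⟨e *ᵥ (Pi.single i 1), ⟨Pi.single i 1, rfl⟩⟩
    rw [h0] at h1
    have h2 : (N ^ k) *ᵥ (e *ᵥ (Pi.single i 1)) = 0 := h1.symm.trans rfl
    rw [Matrix.zero_mulVec, ← Matrix.mulVec_mulVec, h2]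
  exact rank_bound T N' hcomm hP hann' k hnil' hk'

/-- the rank in the pair case -/
theorem pair_rank (e₁ e₂ : MatP n F) (he : e₁ + e₂ = 1) (hee : e₁ * e₂ = 0) (hst : stJ e₁ = e₂) : e₁.rank = n := by
  classical
  have hJ := Matrix.J_squared (Fin n) F
  have hJu : IsUnit (Matrix.J (Fin n) F).det := (Matrix.isUnit_iff_isUnit_det _).1 (IsUnit.of_mul_eq_one (-Matrix.J (Fin n) F) (by
    rw [mul_neg, hJ, neg_neg]))
  have hJu' : IsUnit (-Matrix.J (Fin n) F).det := (Matrix.isUnit_iff_isUnit_det _).1 (IsUnit.of_mul_eq_one (Matrix.J (Fin n) F) (by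
    rw [neg_mul, hJ, neg_neg]))
  have h1 : e₂.rank = e₁.rank := by
    rw [← hst]
    unfold stJ
    have e : -(Matrix.J (Fin n) F * e₁ᵀ * Matrix.J (Fin n) F) = (-Matrix.J (Fin n) F) * e₁ᵀ * Matrix.J (Fin n) F := by
      simp only [neg_mul]
    rw [e, Matrix.rank_mul_eq_left_of_isUnit_det _ _ hJu, Matrix.rank_mul_eq_right_of_isUnit_det _ _ hJu', Matrix.rank_transpose]
  have h2 : LinearMap.ker e₁.mulVecLin = LinearMap.range e₂.mulVecLin := by
    ext v
    rw [LinearMap.mem_ker, LinearMap.mem_range]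
    constructor
    · intro hv
      refine ⟨v, ?_⟩
      have h3 : (e₁ + e₂) *ᵥ v = v := by rw [he, Matrix.one_mulVec]
      rw [Matrix.add_mulVec] at h3
      rw [Matrix.mulVecLin_apply] at hv ⊢
      rw [hv, zero_add] at h3
      exact h3
    · rintro ⟨x, rfl⟩
      simp only [Matrix.mulVecLin_apply, Matrix.mulVec_mulVec]
      rw [hee]
      simp
  have h3 := LinearMap.finrank_range_add_finrank_ker e₁.mulVecLin
  rw [h2, finrank_fintype_fun_eq_card] at h3
  have h4 : Fintype.card (Fin n ⊕ Fin n) = 2 * n := by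
    simp
    ring
  have h5 : finrank F (LinearMap.range e₁.mulVecLin) = e₁.rank := rfl
  have h6 : finrank F (LinearMap.range e₂.mulVecLin) = e₂.rank := rfl
  rw [h5, h6, h1, h4] at h3
  omega

end Cfsg.Agent.H11.Spec
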