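import Cfsg.Agent.Lib.H11.Spec17

/-! The dichotomy for `PSp_{2n}(q)`, `q` odd. -/

set_option autoImplicit false
set_option linter.unusedSectionVars false
set_option linter.unusedVariables false

namespace Cfsg.Agent.H11.Spec

open Polynomial Matrix Module Cfsg.Agent.H11.GUC Cfsg.Agent.H11.PSpG

variable {F : Type*} [Field F] [Fintype F] {n : ℕ}

/-- the two tori -/
theorem torus_num (hodd : Odd (Fintype.card F)) (hn : 1 ≤ n) :
    ∃ w : Cfsg.PSp n F, ∀ b, Odd b → (b ∣ Fintype.card F ^ n - 1 ∨ b ∣ Fintype.card F ^ n + 1) →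
      b ∣ orderOf w ∨ ∃ x : Cfsg.PSp n F, orderOf x = 2 * b := by
  classical
  set Q := Fintype.card F ^ n with hQdef
  have hQodd : Odd Q := hodd.pow
  have hcop4 : ∀ b, Odd b → Nat.Coprime 4 b := fun b hb => by
    have : Nat.Coprime (2 ^ 2) b := Nat.Coprime.pow_left 2 (Nat.coprime_two_left.2 hb)
    simpa using this
  obtain ⟨c, hc⟩ := hQodd
  have hmod : c % 2 = 0 ∨ c % 2 = 1 := by omega
  rcases hmod with h | h
  · -- `Q ≡ 1 mod 4`
    obtain ⟨N₀, hN₀⟩ : ∃ N₀, Q + 1 = 2 * N₀ := ⟨c + 1, by omega⟩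
    have hN₀odd : Odd N₀ := by
      rw [Nat.odd_iff]
      omega
    obtain ⟨g, hg⟩ := blk_add (F := F) n hn N₀ ⟨2, by rw [← hQdef]; omega⟩
    refine ⟨QuotientGroup.mk g, ?_⟩
    have hord := psp_order hn g N₀ hg (Or.inl hN₀odd)
    intro b hb hcase
    rw [hord]
    rcases hcase with h1 | h1
    · right
      have h4 : 4 ∣ Q - 1 := ⟨c / 2, by omega⟩
      have h5 : 4 * b ∣ Q - 1 := (hcop4 b hb).mul_dvd_of_dvd_of_dvd h4 h1
      obtain ⟨g', h1', h2'⟩ := blk_sub2 (F := F) n hn (4 * b) h5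
      exact ⟨QuotientGroup.mk g', psp_order_half hn g' (4 * b) (2 * b) h1' (by ring) (h2' (2 * b) (by ring))⟩
    · left
      rw [hN₀] at h1
      exact (Nat.coprime_two_right.2 hb).dvd_of_dvd_mul_left h1
  · -- `Q ≡ 3 mod 4`
    obtain ⟨N₀, hN₀⟩ : ∃ N₀, Q - 1 = 2 * N₀ := ⟨c, by omega⟩
    have hN₀odd : Odd N₀ := by
      rw [Nat.odd_iff]
      omega
    obtain ⟨g, hg⟩ := blk_sub (F := F) n hn N₀ ⟨2, by rw [← hQdef]; omega⟩
    refine ⟨QuotientGroup.mk g, ?_⟩
    have hord := psp_order hn g N₀ hg (Or.inl hN₀odd)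
    intro b hb hcase
    rw [hord]
    rcases hcase with h1 | h1
    · left
      rw [hN₀] at h1
      exact (Nat.coprime_two_right.2 hb).dvd_of_dvd_mul_left h1
    · right
      have h4 : 4 ∣ Q + 1 := ⟨(c + 1) / 2, by omega⟩
      have h5 : 4 * b ∣ Q + 1 := (hcop4 b hb).mul_dvd_of_dvd_of_dvd h4 h1
      obtain ⟨g', h1', h2'⟩ := blk_add2 (F := F) n hn (4 * b) h5
      exact ⟨QuotientGroup.mk g', psp_order_half hn g' (4 * b) (2 * b) h1' (by ring) (h2' (2 * b) (by ring))⟩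

theorem num_dvd {q d n b : ℕ} (hq : 2 ≤ q) (hd : d ∣ n) (hd1 : 1 ≤ d) (hb : b ∣ q ^ d + 1 ∨ b ∣ q ^ d - 1) :
    b ∣ q ^ n - 1 ∨ b ∣ q ^ n + 1 := by
  obtain ⟨m, rfl⟩ := hd
  have hQ2 : 2 ≤ q ^ d := by
    calc 2 ≤ q := hq
      _ = q ^ 1 := (pow_one q).symm
      _ ≤ q ^ d := Nat.pow_le_pow_right (by omega) hd1
  rcases hb with hb | hb
  · rcases Nat.even_or_odd m with hm | hm
    · left
      obtain ⟨c, rfl⟩ := hm
      have h1 : q ^ d + 1 ∣ (q ^ d) ^ 2 - 1 := nat_aux_Q _ hQ2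
      have h2 : (q ^ d) ^ 2 - 1 ∣ ((q ^ d) ^ 2) ^ c - 1 := by
        have := Nat.sub_dvd_pow_sub_pow ((q ^ d) ^ 2) 1 c
        rwa [one_pow] at this
      have e : q ^ (d * (c + c)) = ((q ^ d) ^ 2) ^ c := by
        rw [← pow_mul, ← pow_mul]
        congr 1
        ring
      rw [e]
      exact hb.trans (h1.trans h2)
    · right
      have h1 := Odd.nat_add_dvd_pow_add_pow (q ^ d) 1 hm
      rw [one_pow, ← pow_mul] at h1
      exact hb.trans h1
  · left
    have h1 := Nat.sub_dvd_pow_sub_pow (q ^ d) 1 m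
    rw [one_pow, ← pow_mul] at h1
    exact hb.trans h1

section cases

variable {p : ℕ} [hpf : Fact p.Prime] [CharP F p]

/-- the self-dual homogeneous case -/
theorem selfdual_case (hp2 : p ≠ 2) (hn : 1 ≤ n) (σ U : MatP n F) (hσU : Commute σ U) (t b : ℕ) (hUt : U ^ p ^ t = 1)
    (hUne : 1 ≤ t → U ^ p ^ (t - 1) ≠ 1) (hb : ∀ m, σ ^ m = 1 → b ∣ m) (hσb : σ ^ b = 1) (hbodd : Odd b) (hb1 : b ≠ 1)
    (P : F[X]) (hP : Irreducible P) (hg : GoodP P) (hd : dg0 P = P) (hM : minpoly F σ = P) :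
    ∃ d, 1 ≤ d ∧ d ∣ n ∧ (b ∣ Fintype.card F ^ d + 1 ∨ b ∣ Fintype.card F ^ d - 1) ∧ (1 ≤ t → (p ^ (t - 1) + 1) * d ≤ n) := by
  classical
  haveI : Nonempty (Fin n) := ⟨⟨0, hn⟩⟩
  have hp : p.Prime := Fact.out
  have h2 : (2 : F) ≠ 0 := by
    intro h0
    have h3 : ((2 : ℕ) : F) = 0 := by exact_mod_cast h0
    have h4 := (CharP.cast_eq_zero_iff F p 2).1 h3
    exact hp2 ((Nat.prime_dvd_prime_iff_eq hp Nat.prime_two).1 h4)
  have hann : aeval σ P = 0 := by
    rw [← hM]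
    exact minpoly.aeval F σ
  have hP1 : P ≠ X - 1 := by
    rintro rfl
    have h3 : σ = 1 := by
      have := hann
      simpa [sub_eq_zero] using this
    have h4 := hb 1 (by rw [h3, one_pow])
    exact hb1 (Nat.dvd_one.1 h4)
  have hP2 : P ≠ X + 1 := by
    rintro rfl
    have h3 : σ = -1 := by
      have := hann
      simp only [map_add, aeval_X, map_one] at this
      exact eq_neg_of_add_eq_zero_left this
    rw [h3, hbodd.neg_one_pow] at hσb
    obtain ⟨i⟩ : Nonempty (Fin n ⊕ Fin n) := inferInstance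
    have h4 := congrFun (congrFun hσb i) i
    simp only [Matrix.neg_apply, Matrix.one_apply_eq] at h4
    apply h2
    have h5 : (2 : F) = 1 - (-1) := by ring
    rw [h5, h4]
    ring
  obtain ⟨d, hd1, hdeg, hdvd⟩ := selfdual_sp hP hg hd hP1 hP2
  have hσq : σ ^ (Fintype.card F ^ d + 1) = 1 := by
    obtain ⟨R, hR⟩ := hdvd
    have h3 := congrArg (aeval σ) hR
    rw [map_mul, hann, zero_mul, map_sub, map_pow, aeval_X, map_one, sub_eq_zero] at h3
    exact h3
  have hbq := hb _ hσq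
  set NU := U - 1 with hNU
  have hNpow : ∀ k : ℕ, NU ^ p ^ k = U ^ p ^ k - 1 := by
    intro k
    have := sub_pow_char_pow_of_commute (p := p) (n := k) (x := U) (y := 1) (Commute.one_right U)
    rw [one_pow] at this
    exact this
  have hnil : IsNilpotent NU := ⟨p ^ t, by rw [hNpow, hUt, sub_self]⟩
  have hσN : Commute σ NU := hσU.sub_right (Commute.one_right σ)
  have hrank : (1 : MatP n F).rank = 2 * n := by
    rw [Matrix.rank_one]
    simp
    ring
  have h10 : (1 : MatP n F) ≠ 0 := one_ne_zero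
  have h3 := rank_bound_mat σ NU 1 (Commute.one_right σ) (Commute.one_right NU) hσN hP (by rw [mul_one]; exact hann) 0 hnil (by simpa using h10)
  rw [hrank, hdeg] at h3
  refine ⟨d, hd1, ?_, Or.inl hbq, ?_⟩
  · exact Nat.dvd_of_mul_dvd_mul_left (by norm_num) h3.2
  · intro ht
    have hne : NU ^ p ^ (t - 1) * 1 ≠ 0 := by
      rw [mul_one, hNpow]
      exact sub_ne_zero.2 (hUne ht)
    have h4 := (rank_bound_mat σ NU 1 (Commute.one_right σ) (Commute.one_right NU) hσN hP (by rw [mul_one]; exact hann) _ hnil hne).1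
    rw [hrank, hdeg] at h4
    nlinarith

/-- the pair homogeneous case -/
theorem pair_case (hn : 1 ≤ n) (σ : MatP n F) (u : symplecticGroup (Fin n) F) (hσU : Commute σ (u : MatP n F)) (t b : ℕ)
    (hσ₁ : stJ σ * σ = 1) (hσ₂ : σ * stJ σ = 1) (hUt : u ^ p ^ t = 1)
    (hUne : 1 ≤ t → u ^ p ^ (t - 1) ≠ 1) (hb : ∀ m, σ ^ m = 1 → b ∣ m)
    (P : F[X]) (hP : Irreducible P) (hg : GoodP P) (hd : dg0 P ≠ P) (hM : minpoly F σ = P * dg0 P) :
    ∃ d, 1 ≤ d ∧ d ∣ n ∧ (b ∣ Fintype.card F ^ d + 1 ∨ b ∣ Fintype.card F ^ d - 1) ∧ (1 ≤ t → (p ^ (t - 1) + 1) * d ≤ n) := by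
  classical
  haveI : Nonempty (Fin n) := ⟨⟨0, hn⟩⟩
  have hρ : ∀ x : F, (RingHom.id F) ((RingHom.id F) x) = x := fun x => rfl
  set U : MatP n F := (u : MatP n F) with hU
  obtain ⟨e₁, e₂, he, hee, hst, h1P, h2P, h10, hc⟩ := pair_idem adjJ σ hσ₁ hσ₂ P hP hg hd hM
  set d := P.natDegree with hddef
  have hd1 : 1 ≤ d := hP.natDegree_pos
  have hPi' : Irreducible (dg0 P) := dag_irreducible hρ hP hg
  have hdvd1 : P ∣ X ^ (Fintype.card F ^ d - 1) - 1 := irr_dvd_pow hP hg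
  have hdvd2 : dg0 P ∣ X ^ (Fintype.card F ^ d - 1) - 1 := by
    have := irr_dvd_pow hPi' (dag_good hg)
    rwa [dag_natDegree hg] at this
  have hnd : ¬ P ∣ dg0 P := by
    intro hd'
    have h1 : Associated P (dg0 P) := hP.associated_of_dvd hPi' hd'
    exact hd (eq_of_monic_of_associated hg.1 (dag_monic hg) h1).symm
  have hco : IsCoprime P (dg0 P) := (hP.coprime_iff_not_dvd).2 hnd
  have hσq : σ ^ (Fintype.card F ^ d - 1) = 1 := by
    obtain ⟨R, hR⟩ := hco.mul_dvd hdvd1 hdvd2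
    have h3 := congrArg (aeval σ) hR
    have hann : aeval σ (P * dg0 P) = 0 := by
      rw [← hM]
      exact minpoly.aeval F σ
    rw [map_mul (aeval σ) (P * dg0 P) R, hann, zero_mul, map_sub, map_pow, aeval_X, map_one, sub_eq_zero] at h3
    exact h3
  have hbq := hb _ hσq
  have hrank := pair_rank e₁ e₂ he hee hst
  set NU := U - 1 with hNU
  have hNpow : ∀ k : ℕ, NU ^ p ^ k = U ^ p ^ k - 1 := by
    intro k
    have := sub_pow_char_pow_of_commute (p := p) (n := k) (x := U) (y := 1) (Commute.one_right U)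
    rw [one_pow] at this
    exact this
  have hUp : ∀ k : ℕ, ((u ^ k : symplecticGroup (Fin n) F) : MatP n F) = U ^ k := fun k => rfl
  have hUt' : U ^ p ^ t = 1 := by
    rw [← hUp, hUt]
    rfl
  have hnil : IsNilpotent NU := ⟨p ^ t, by rw [hNpow, hUt', sub_self]⟩
  have hσN : Commute σ NU := hσU.sub_right (Commute.one_right σ)
  have hσe : Commute σ e₁ := hc σ (Commute.refl σ)
  have hUe : Commute U e₁ := hc U hσU.symm
  have hNe : Commute NU e₁ := hUe.sub_left (Commute.one_left e₁)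
  have h3 := rank_bound_mat σ NU e₁ hσe hNe hσN hP h1P 0 hnil (by simpa using h10)
  rw [hrank] at h3
  refine ⟨d, hd1, h3.2, Or.inr hbq, ?_⟩
  intro ht
  have hne : NU ^ p ^ (t - 1) * e₁ ≠ 0 := by
    rw [hNpow]
    intro h0
    apply hUne ht
    apply Subtype.ext
    set k := p ^ (t - 1) with hk
    rw [hUp]
    change U ^ k = 1
    have hUe₂ : Commute (U ^ k) e₂ := by
      have h5 : e₂ = 1 - e₁ := by rw [← he]; abel
      rw [h5]
      exact (Commute.one_right _).sub_right (hUe.pow_left k)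
    -- apply the adjoint
    have h6 : stJ ((U ^ k - 1) * e₁) = stJ 0 := by rw [h0]
    rw [adjJ.mul, stJ_sub, adjJ.one, adjJ.zero, hst] at h6
    have h7 : stJ (U ^ k) * U ^ k = 1 := by
      have := sp_star (u ^ k)
      rw [hUp] at this
      exact mul_eq_one_comm.1 this
    have h8 : e₂ * (1 - U ^ k) = 0 := by
      calc e₂ * (1 - U ^ k) = e₂ * ((stJ (U ^ k) - 1) * U ^ k) := by
            rw [sub_mul, h7, one_mul]
        _ = (e₂ * (stJ (U ^ k) - 1)) * U ^ k := by rw [mul_assoc]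
        _ = 0 := by rw [h6, zero_mul]
    have h9 : (U ^ k - 1) * e₂ = 0 := by
      have : (U ^ k - 1) * e₂ = - (e₂ * (1 - U ^ k)) := by
        rw [sub_mul, mul_sub, one_mul, mul_one, hUe₂.eq]
        abel
      rw [this, h8, neg_zero]
    have h11 : (U ^ k - 1) * (e₁ + e₂) = 0 := by
      rw [mul_add, h0, h9, add_zero]
    rw [he, mul_one] at h11
    exact sub_eq_zero.1 h11
  have h4 := (rank_bound_mat σ NU e₁ hσe hNe hσN hP h1P _ hnil hne).1
  rw [hrank] at h4
  exact h4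

/-- a decomposition gives an element of twice the order -/
theorem mul_two_of_idem (hn : 1 ≤ n) (h2 : (2 : F) ≠ 0) (g : symplecticGroup (Fin n) F) (e₁ e₂ : MatP n F) (he : e₁ + e₂ = 1) (hee : e₁ * e₂ = 0)
    (h1 : e₁ ≠ 0) (h20 : e₂ ≠ 0) (hd1 : stJ e₁ = e₁) (hd2 : stJ e₂ = e₂) (hc : Commute (g : MatP n F) e₁)
    (hx : Odd (orderOf (QuotientGroup.mk g : Cfsg.PSp n F))) :
    ∃ x' : Cfsg.PSp n F, orderOf x' = orderOf (QuotientGroup.mk g : Cfsg.PSp n F) * 2 := by
  classical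
  haveI : Nonempty (Fin n) := ⟨⟨0, hn⟩⟩
  have h5 : e₂ = 1 - e₁ := by rw [← he]; abel
  have h11 : e₁ * e₁ = e₁ := by
    have : e₁ * (e₁ + e₂) = e₁ := by rw [he, mul_one]
    rw [mul_add, hee, add_zero] at this
    exact this
  have h21 : e₂ * e₁ = 0 := by
    rw [h5, sub_mul, one_mul, h11, sub_self]
  have h22 : e₂ * e₂ = e₂ := by
    have : (e₁ + e₂) * e₂ = e₂ := by rw [he, one_mul]
    rw [add_mul, hee, zero_add] at this
    exact this
  let y : MatP n F := e₁ - e₂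
  have hyy : y * y = 1 := by
    simp only [y]
    rw [sub_mul, mul_sub, mul_sub, h11, hee, h21, h22, ← he]
    abel
  have hys : stJ y = y := by
    simp only [y]
    rw [stJ_sub, hd1, hd2]
  have hmem : y ∈ symplecticGroup (Fin n) F := mem_sp_of_star y (by rw [hys, hyy])
  let Y : symplecticGroup (Fin n) F := ⟨y, hmem⟩
  have hY2 : Y ^ 2 = 1 := by
    apply Subtype.ext
    change y ^ 2 = 1
    rw [sq, hyy]
  have hcY : Commute g Y := by
    apply Subtype.ext
    change (g : MatP n F) * y = y * (g : MatP n F)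
    simp only [y]
    have hc2 : Commute (g : MatP n F) e₂ := by
      rw [h5]
      exact (Commute.one_right _).sub_right hc
    rw [mul_sub, sub_mul, hc.eq, hc2.eq]
  have hYne : (QuotientGroup.mk Y : Cfsg.PSp n F) ≠ 1 := by
    intro h0
    rw [QuotientGroup.eq_one_iff] at h0
    obtain ⟨c, -, hc2⟩ := center_sq hn Y h0
    have h3 : y = c • 1 := hc2
    have h4 : e₁ - e₂ = c • (e₁ + e₂) := by
      rw [he]
      exact h3
    have h6 : e₁ = c • e₁ := by
      have := congrArg (fun m => m * e₁) h4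
      simp only [sub_mul, smul_mul_assoc, add_mul, h11, h21, sub_zero, add_zero] at this
      exact this
    have h7 : -e₂ = c • e₂ := by
      have := congrArg (fun m => m * e₂) h4
      simp only [sub_mul, smul_mul_assoc, add_mul, hee, h22, zero_sub, zero_add] at this
      exact this
    have h8 : (1 - c) • e₁ = 0 := by
      rw [sub_smul, one_smul, ← h6, sub_self]
    have h9 : (1 + c) • e₂ = 0 := by
      rw [add_smul, one_smul, ← h7, add_neg_cancel]
    have h10 : 1 - c = 0 := (smul_eq_zero.1 h8).resolve_right h1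
    have h12 : 1 + c = 0 := (smul_eq_zero.1 h9).resolve_right h20
    apply h2
    have : (2 : F) = (1 - c) + (1 + c) := by ring
    rw [this, h10, h12, add_zero]
  have hYo : orderOf (QuotientGroup.mk Y : Cfsg.PSp n F) = 2 := by
    apply orderOf_eq_prime
    · rw [← QuotientGroup.mk_pow, hY2]
      rfl
    · exact hYne
  refine ⟨(QuotientGroup.mk g : Cfsg.PSp n F) * QuotientGroup.mk Y, ?_⟩
  have hcomm : Commute (QuotientGroup.mk g : Cfsg.PSp n F) (QuotientGroup.mk Y) := by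
    change (QuotientGroup.mk g : Cfsg.PSp n F) * QuotientGroup.mk Y = QuotientGroup.mk Y * QuotientGroup.mk g
    rw [← QuotientGroup.mk_mul, ← QuotientGroup.mk_mul, hcY.eq]
  rw [hcomm.orderOf_mul_eq_mul_orderOf_of_coprime (by rw [hYo]; exact Nat.coprime_two_right.2 hx), hYo]

end cases

/-- the dichotomy for `PSp` -/
theorem psp_dich {p a : ℕ} (hp : p.Prime) (ha : 1 ≤ a) (hF : Fintype.card F = p ^ a) (hodd : Odd (Fintype.card F)) (hn : 2 ≤ n) :
    ∃ w : Cfsg.PSp n F, ∀ x : Cfsg.PSp n F, ¬ 2 ∣ orderOf x →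
      (∃ x' : Cfsg.PSp n F, orderOf x' = orderOf x * 2) ∨ BadO (Cfsg.PSp n F) p (orderOf w) (orderOf x) := by
  classical
  haveI : Fact p.Prime := ⟨hp⟩
  haveI : CharP F p := charP_of_card hp ha hF
  have hn1 : 1 ≤ n := by omega
  haveI : Nonempty (Fin n) := ⟨⟨0, by omega⟩⟩
  have hq2 : 2 ≤ Fintype.card F := Fintype.one_lt_card
  have hp2 : p ≠ 2 := by
    rintro rfl
    rw [hF] at hodd
    exact (Nat.not_even_iff_odd.2 hodd) ((Nat.even_pow.2 ⟨even_two, by omega⟩))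
  have h2 : (2 : F) ≠ 0 := by
    intro h0
    have h3 : ((2 : ℕ) : F) = 0 := by exact_mod_cast h0
    have h4 := (CharP.cast_eq_zero_iff F p 2).1 h3
    exact hp2 ((Nat.prime_dvd_prime_iff_eq hp Nat.prime_two).1 h4)
  obtain ⟨w, hw⟩ := torus_num (n := n) hodd hn1
  refine ⟨w, ?_⟩
  intro x hx
  obtain ⟨g₀, rfl⟩ := QuotientGroup.mk_surjective x
  set A := orderOf (QuotientGroup.mk g₀ : Cfsg.PSp n F) with hA
  have hAodd : Odd A := Nat.not_even_iff_odd.1 (fun h => hx h.two_dvd)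
  let g : symplecticGroup (Fin n) F := g₀ ^ 2
  have hcop2 : Nat.Coprime A 2 := Nat.coprime_two_right.2 hAodd
  have hgord : orderOf (QuotientGroup.mk g : Cfsg.PSp n F) = A := by
    have : (QuotientGroup.mk g : Cfsg.PSp n F) = (QuotientGroup.mk g₀ : Cfsg.PSp n F) ^ 2 := rfl
    rw [this]
    exact Nat.Coprime.orderOf_pow hcop2
  have hgA : g ^ A = 1 := by
    have := lift_center hn1 g₀ A hA.symm
    simp only [g]
    rw [← pow_mul, mul_comm, pow_mul]
    exact this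
  have hgo : orderOf g = A := by
    apply Nat.dvd_antisymm (orderOf_dvd_of_pow_eq_one hgA)
    rw [← hgord]
    apply orderOf_dvd_of_pow_eq_one
    rw [← QuotientGroup.mk_pow, pow_orderOf_eq_one]
    rfl
  have hg_pow : ∀ m, g ^ m = 1 ↔ A ∣ m := fun m => by
    rw [← hgo]
    exact orderOf_dvd_iff_pow_eq_one.symm
  obtain ⟨t, b, hb, hAb⟩ := Nat.exists_eq_pow_mul_and_not_dvd hAodd.pos.ne' p hp.ne_one
  have hbodd : Odd b := by
    rw [hAb] at hAodd
    exact (Nat.odd_mul.1 hAodd).2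
  by_cases hb1 : b = 1
  · right
    refine ⟨t, 1, by rw [hAb, hb1], by simpa using hp.ne_one, one_dvd _, ⟨QuotientGroup.mk g₀, ?_⟩⟩
    rw [← hA, hAb, hb1, mul_one]
  have hcop : Nat.Coprime (p ^ t) b := Nat.Coprime.pow_left t ((Nat.Prime.coprime_iff_not_dvd hp).2 hb)
  obtain ⟨α, hα₁, hα₂⟩ := Nat.chineseRemainder hcop 0 1
  obtain ⟨β, hβ₁, hβ₂⟩ := Nat.chineseRemainder hcop 1 0
  have hαp : p ^ t ∣ α := (Nat.modEq_zero_iff_dvd).1 hα₁
  have hαb : Nat.Coprime α b := by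
    have h1 := Nat.ModEq.gcd_eq hα₂
    rw [Nat.Coprime, h1]
    simp
  have hβb : b ∣ β := (Nat.modEq_zero_iff_dvd).1 hβ₂
  have hβp : Nat.Coprime β (p ^ t) := by
    have h1 := Nat.ModEq.gcd_eq hβ₁
    rw [Nat.Coprime, h1]
    simp
  let s : symplecticGroup (Fin n) F := g ^ α
  let u : symplecticGroup (Fin n) F := g ^ β
  let σ : MatP n F := (s : MatP n F)
  have hpw : ∀ (y : symplecticGroup (Fin n) F) (k : ℕ), ((y ^ k : symplecticGroup (Fin n) F) : MatP n F) = (y : MatP n F) ^ k := fun y k => rfl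
  have hσg : Commute (g : MatP n F) σ := by
    simp only [σ, s]
    rw [hpw]
    exact (Commute.refl _).pow_right α
  have huσ : Commute σ (u : MatP n F) := by
    simp only [σ, s, u]
    rw [hpw, hpw]
    exact (Commute.refl _).pow_pow α β
  have hsb : σ ^ b = 1 := by
    have h1 : s ^ b = 1 := by
      simp only [s]
      rw [← pow_mul, hg_pow, hAb]
      exact Nat.mul_dvd_mul hαp dvd_rfl
    have h3 := congrArg Subtype.val h1
    exact h3
  have hsm : ∀ m, σ ^ m = 1 → b ∣ m := by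
    intro m hm
    have h1 : s ^ m = 1 := Subtype.ext hm
    simp only [s] at h1
    rw [← pow_mul, hg_pow, hAb] at h1
    have h3 : b ∣ α * m := (Dvd.intro_left _ rfl).trans h1
    exact (Nat.Coprime.symm hαb).dvd_of_dvd_mul_left h3
  have hut : u ^ p ^ t = 1 := by
    simp only [u]
    rw [← pow_mul, hg_pow, hAb, mul_comm β]
    exact Nat.mul_dvd_mul dvd_rfl hβb
  have hum : ∀ m, u ^ m = 1 → p ^ t ∣ m := by
    intro m hm
    simp only [u] at hm
    rw [← pow_mul, hg_pow, hAb] at hm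
    have h3 : p ^ t ∣ β * m := (Dvd.intro _ rfl).trans hm
    exact (Nat.Coprime.symm hβp).dvd_of_dvd_mul_left h3
  have hune : 1 ≤ t → u ^ p ^ (t - 1) ≠ 1 := by
    intro ht h0
    have h3 := hum _ h0
    have h4 := (Nat.pow_dvd_pow_iff_le_right hp.one_lt).1 h3
    omega
  have huU : (u : MatP n F) ^ p ^ t = 1 := congrArg Subtype.val hut
  have huUne : 1 ≤ t → (u : MatP n F) ^ p ^ (t - 1) ≠ 1 := by
    intro ht h0
    exact hune ht (Subtype.ext h0)
  have hb0 : ((b : ℕ) : F) ≠ 0 := by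
    intro h0
    exact hb ((CharP.cast_eq_zero_iff F p b).1 h0)
  have hsep : (X ^ b - C (1 : F)).Separable := separable_X_pow_sub_C (1 : F) hb0 one_ne_zero
  rw [C_1] at hsep
  have hMd : minpoly F σ ∣ X ^ b - 1 := by
    apply minpoly.dvd
    simp [hsb]
  have hMsep : (minpoly F σ).Separable := hsep.of_dvd hMd
  have hσ₂ : σ * stJ σ = 1 := sp_star s
  have hσ₁ : stJ σ * σ = 1 := mul_eq_one_comm.1 hσ₂
  have hdata : (∃ x' : Cfsg.PSp n F, orderOf x' = A * 2) ∨ ∃ d, 1 ≤ d ∧ d ∣ n ∧ (b ∣ Fintype.card F ^ d + 1 ∨ b ∣ Fintype.card F ^ d - 1) ∧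
      (1 ≤ t → (p ^ (t - 1) + 1) * d ≤ n) := by
    rcases abs_dich adjJ σ hσ₁ hσ₂ hMsep with ⟨e₁, e₂, he, hee, h1, h20, hd1, hd2, hc⟩ | ⟨P, hP, hg', hd, hM⟩ | ⟨P, hP, hg', hd, hM⟩
    · left
      have := mul_two_of_idem hn1 h2 g e₁ e₂ he hee h1 h20 hd1 hd2 (hc _ hσg) (by rw [hgord]; exact hAodd)
      rwa [hgord] at this
    · right
      exact selfdual_case hp2 hn1 σ (u : MatP n F) huσ t b huU huUne hsm hsb hbodd hb1 P hP hg' hd hM
    · right
      exact pair_case hn1 σ u huσ t b hσ₁ hσ₂ hut hune hsm P hP hg' hd hM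
  rcases hdata with hdata | ⟨d, hd1, hdn, hbq, hbound⟩
  · left
    exact hdata
  by_cases ht : t = 0
  · subst ht
    rw [pow_zero, one_mul] at hAb
    rcases hw b hbodd (num_dvd hq2 hdn hd1 hbq) with h3 | ⟨x', hx'⟩
    · right
      refine ⟨0, b, by rw [hAb, pow_zero, one_mul], hb, h3, ⟨1, by simp⟩⟩
    · left
      exact ⟨x', by rw [hx', hAb, mul_comm]⟩
  · left
    have ht1 : 1 ≤ t := by omega
    have hB := hbound ht1
    have hk1 : 1 ≤ p ^ (t - 1) := Nat.one_le_pow _ _ hp.pos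
    have hdn' : d ≤ n := Nat.le_of_dvd (by omega) hdn
    have hDle : (p ^ (t - 1) + 1) / 2 ≤ n - d := by
      have h3 : p ^ (t - 1) * d + d ≤ n := by nlinarith
      have h4 : p ^ (t - 1) ≤ p ^ (t - 1) * d := Nat.le_mul_of_pos_right _ (by omega)
      omega
    have hnd : 1 ≤ n - d := by
      have h3 : p ^ (t - 1) * d + d ≤ n := by nlinarith
      have h4 : p ^ (t - 1) ≤ p ^ (t - 1) * d := Nat.le_mul_of_pos_right _ (by omega)
      omega
    have h₁ : Blk F d b := by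
      rcases hbq with h3 | h3
      · exact blk_add d hd1 b h3
      · exact blk_sub d hd1 b h3
    have h₂ : Blk F (n - d) (p ^ t) := blk_mono (blk_unip hp2 t ht1) hDle
    have hpodd : Odd (p ^ t) := (hp.odd_of_ne_two hp2).pow
    have h3 := blk_two h2 h₁ h₂ hd1 hnd hbodd hpodd hcop.symm
    have e : d + (n - d) = n := by omega
    rw [e] at h3
    obtain ⟨x', hx'⟩ := h3
    exact ⟨x', by rw [hx', hAb]; ring⟩

/-- a bound for the order of unipotent elements -/
theorem p_lt_sp {p t : ℕ} (hp : p.Prime) (hp2 : p ≠ 2) [CharP F p] (hn : 1 ≤ n) (ht : 1 ≤ t) (x : Cfsg.PSp n F) (hx : orderOf x = p ^ t) :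
    p ^ (t - 1) < 2 * n := by
  classical
  haveI : Fact p.Prime := ⟨hp⟩
  haveI : Nonempty (Fin n) := ⟨⟨0, hn⟩⟩
  by_contra hcon
  push Not at hcon
  obtain ⟨g₀, rfl⟩ := QuotientGroup.mk_surjective x
  have hodd : Odd (p ^ t) := (hp.odd_of_ne_two hp2).pow
  have hg1 : g₀ ^ 2 ^ 1 = g₀ ^ 2 := by simp
  let g : symplecticGroup (Fin n) F := g₀ ^ 2
  have hgA : g ^ p ^ t = 1 := by
    have := lift_center hn g₀ (p ^ t) hx
    simp only [g]
    rw [← pow_mul, mul_comm, pow_mul]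
    exact this
  set G : MatP n F := (g : MatP n F) with hG
  have hGp : ∀ k, G ^ p ^ k - 1 = (G - 1) ^ p ^ k := by
    intro k
    have := sub_pow_char_pow_of_commute (p := p) (n := k) (x := G) (y := 1) (Commute.one_right G)
    rw [one_pow] at this
    exact this.symm
  have hGt : G ^ p ^ t = 1 := congrArg Subtype.val hgA
  have hnil : (G - 1) ^ p ^ t = 0 := by rw [← hGp, hGt, sub_self]
  have hcard : Fintype.card (Fin n ⊕ Fin n) = 2 * n := by
    simp
    ring
  have hnl : ((G - 1).mulVecLin : Module.End F (Fin n ⊕ Fin n → F)) ^ (2 * n) = 0 := by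
    have h3 := Cfsg.Agent.H11.pow_finrank_eq_zero_of_nilpotent ((G - 1).mulVecLin : Module.End F (Fin n ⊕ Fin n → F)) ⟨p ^ t, by
      rw [← Cfsg.Agent.H11.mulVecLin_pow', hnil]
      apply LinearMap.ext
      intro v
      simp⟩
    rwa [finrank_fintype_fun_eq_card, hcard] at h3
  have h0 : (G - 1) ^ (2 * n) = 0 := by
    rw [← Cfsg.Agent.H11.mulVecLin_pow'] at hnl
    apply Matrix.ext_of_mulVec_single
    intro i
    have := LinearMap.congr_fun hnl (Pi.single i 1)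
    rw [Matrix.mulVecLin_apply] at this
    rw [Matrix.zero_mulVec]
    exact this
  have h1 : (G - 1) ^ p ^ (t - 1) = 0 := by
    obtain ⟨c, hc⟩ := Nat.exists_eq_add_of_le hcon
    rw [hc, pow_add, h0, zero_mul]
  have h3 : G ^ p ^ (t - 1) = 1 := by
    have := hGp (t - 1)
    rw [h1] at this
    exact sub_eq_zero.1 this
  have h4 : g ^ p ^ (t - 1) = 1 := Subtype.ext h3
  have h5 : (QuotientGroup.mk g₀ : Cfsg.PSp n F) ^ (2 * p ^ (t - 1)) = 1 := by
    rw [← QuotientGroup.mk_pow, pow_mul]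
    change (QuotientGroup.mk (g ^ p ^ (t - 1)) : Cfsg.PSp n F) = 1
    rw [h4]
    rfl
  have h6 := orderOf_dvd_of_pow_eq_one h5
  rw [hx] at h6
  have h7 : p ^ t ∣ p ^ (t - 1) := (Nat.Coprime.pow_left t ((Nat.coprime_primes hp Nat.prime_two).2 hp2)).dvd_of_dvd_mul_left h6
  have h8 := (Nat.pow_dvd_pow_iff_le_right hp.one_lt).1 h7
  omega

/-- the statement for `PSp` -/
theorem psp_spec {p a m : ℕ} (hp : p.Prime) (ha : 1 ≤ a) (hF : Fintype.card F = p ^ a) (hodd : Odd (Fintype.card F)) (hn : 2 ≤ n) :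
    Set.range (orderOf : Cfsg.PSp n F × Cfsg.PSp n F × Cfsg.PSp n F × Multiplicative (Fin m → ZMod 2) → ℕ) =
      Set.range (orderOf : Cfsg.PSp n F × Cfsg.PSp n F × Cfsg.PSp n F → ℕ) ∧
    ((¬ ∃ j : ℕ, 2 * n - 1 = p ^ j) →
      Set.range (orderOf : Cfsg.PSp n F × Cfsg.PSp n F × Multiplicative (Fin m → ZMod 2) → ℕ) =
        Set.range (orderOf : Cfsg.PSp n F × Cfsg.PSp n F → ℕ)) := by
  classical
  haveI : Fact p.Prime := ⟨hp⟩
  haveI : CharP F p := charP_of_card hp ha hF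
  have hp2 : p ≠ 2 := by
    rintro rfl
    rw [hF] at hodd
    exact (Nat.not_even_iff_odd.2 hodd) ((Nat.even_pow.2 ⟨even_two, by omega⟩))
  have h2 : (2 : F) ≠ 0 := by
    intro h0
    have h3 : ((2 : ℕ) : F) = 0 := by exact_mod_cast h0
    have h4 := (CharP.cast_eq_zero_iff F p 2).1 h3
    exact hp2 ((Nat.prime_dvd_prime_iff_eq hp Nat.prime_two).1 h4)
  obtain ⟨w, hw⟩ := psp_dich hp ha hF hodd hn
  have hz : ∃ z : Cfsg.PSp n F, orderOf z = 2 := by
    have h3 := blk_two (F := F) h2 (blk_one 1) (blk_one (n - 1)) (le_refl 1) (by omega) odd_one odd_one (Nat.coprime_one_left 1)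
    have e : 1 + (n - 1) = n := by omega
    rw [e] at h3
    obtain ⟨x', hx'⟩ := h3
    exact ⟨x', by rw [hx']⟩
  have hM : ∀ v : Multiplicative (Fin m → ZMod 2), v ^ 2 = 1 := mult_zmod_pow
  constructor
  · exact spec_three_of_core Nat.prime_two hM (core_three hp Nat.prime_two hp2 w hz hw)
  · intro hj
    refine spec_two_of_core Nat.prime_two hM (core_two hp Nat.prime_two hp2 w hz hw ?_)
    intro t ht ⟨x, hx⟩
    have h1 := p_lt_sp hp hp2 (by omega) ht x hx
    have h3 : p ^ (t - 1) + 1 ≠ 2 * n := by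
      intro h4
      exact hj ⟨t - 1, by omega⟩
    have hodd' : Odd (p ^ (t - 1)) := (hp.odd_of_ne_two hp2).pow
    obtain ⟨c, hc⟩ := hodd'
    have hD : (p ^ (t - 1) + 1) / 2 ≤ n - 1 := by omega
    have h4 := blk_two (F := F) h2 (blk_one 1) (blk_mono (blk_unip hp2 t ht) hD) (le_refl 1) (by omega) odd_one
      ((hp.odd_of_ne_two hp2).pow) (Nat.coprime_one_left _)
    have e : 1 + (n - 1) = n := by omega
    rw [e] at h4
    obtain ⟨x', hx'⟩ := h4
    exact ⟨x', by rw [hx']; ring⟩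

end Cfsg.Agent.H11.Spec
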