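import Cfsg.Agent.Lib.H11.Spec1

/-! Direct powers of `PSL_n(2)`: the spectrum stabilises at `⌊(n+3)/2⌋`. -/

set_option autoImplicit false
set_option linter.unusedSectionVars false
set_option linter.unusedVariables false

namespace Cfsg.Agent.H11.Spec

open Polynomial Matrix Module

section two

variable {F : Type*} [Field F] [Fintype F]

abbrev PSLn (n : ℕ) (F : Type*) [Field F] [Fintype F] := Matrix.ProjectiveSpecialLinearGroup (Fin n) F

/-- from `GL` to `PSL` over the field with two elements: same element orders -/
theorem psl_of_gl (hF : Fintype.card F = 2) {n : ℕ} (hn : 1 ≤ n) (A : GL (Fin n) F) :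
    ∃ x : PSLn n F, orderOf x = orderOf A := by
  classical
  haveI : Nonempty (Fin n) := ⟨⟨0, by omega⟩⟩
  have hun : ∀ c : F, c ≠ 0 → c = 1 := by
    intro c hc
    have h1 : Fintype.card Fˣ = 1 := by
      rw [Fintype.card_units, hF]
    haveI : Subsingleton Fˣ := Fintype.card_le_one_iff_subsingleton.1 h1.le
    have := Subsingleton.elim (Units.mk0 c hc) 1
    simpa using congrArg Units.val this
  have hdet : (A : Matrix (Fin n) (Fin n) F).det = 1 := hun _ (by
    have := (Matrix.isUnit_iff_isUnit_det _).1 A.isUnit
    exact this.ne_zero)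
  let g : Matrix.SpecialLinearGroup (Fin n) F := ⟨A, hdet⟩
  have hc : Subgroup.center (Matrix.SpecialLinearGroup (Fin n) F) = ⊥ := by
    rw [eq_bot_iff]
    intro x hx
    obtain ⟨r, hr, hrx⟩ := Matrix.SpecialLinearGroup.mem_center_iff.1 hx
    have hr0 : r ≠ 0 := by
      rintro rfl
      rw [zero_pow (by simp; omega)] at hr
      exact zero_ne_one hr
    rw [Subgroup.mem_bot]
    apply Subtype.ext
    rw [← hrx, hun r hr0]
    simp
  let π : Matrix.SpecialLinearGroup (Fin n) F →* PSLn n F := QuotientGroup.mk' _
  have hπ : Function.Injective π := by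
    rw [injective_iff_map_eq_one]
    intro a ha
    have h1 : a ∈ π.ker := ha
    rw [QuotientGroup.ker_mk', hc] at h1
    exact (Subgroup.mem_bot).1 h1
  refine ⟨π g, ?_⟩
  rw [orderOf_injective π hπ]
  let ι : Matrix.SpecialLinearGroup (Fin n) F →* GL (Fin n) F := Matrix.SpecialLinearGroup.toGL
  have hι : Function.Injective ι := by
    intro a b hab
    apply Subtype.ext
    exact congrArg Units.val hab
  rw [← orderOf_injective ι hι]
  congr 1
  apply Units.ext
  rfl

theorem gl_of_psl (hF : Fintype.card F = 2) {n : ℕ} (hn : 1 ≤ n) (x : PSLn n F) :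
    ∃ A : GL (Fin n) F, orderOf A = orderOf x := by
  classical
  haveI : Nonempty (Fin n) := ⟨⟨0, by omega⟩⟩
  have hun : ∀ c : F, c ≠ 0 → c = 1 := by
    intro c hc
    have h1 : Fintype.card Fˣ = 1 := by
      rw [Fintype.card_units, hF]
    haveI : Subsingleton Fˣ := Fintype.card_le_one_iff_subsingleton.1 h1.le
    have := Subsingleton.elim (Units.mk0 c hc) 1
    simpa using congrArg Units.val this
  have hc : Subgroup.center (Matrix.SpecialLinearGroup (Fin n) F) = ⊥ := by
    rw [eq_bot_iff]
    intro x hx
    obtain ⟨r, hr, hrx⟩ := Matrix.SpecialLinearGroup.mem_center_iff.1 hx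
    have hr0 : r ≠ 0 := by
      rintro rfl
      rw [zero_pow (by simp; omega)] at hr
      exact zero_ne_one hr
    rw [Subgroup.mem_bot]
    apply Subtype.ext
    rw [← hrx, hun r hr0]
    simp
  let π : Matrix.SpecialLinearGroup (Fin n) F →* PSLn n F := QuotientGroup.mk' _
  have hπ : Function.Injective π := by
    rw [injective_iff_map_eq_one]
    intro a ha
    have h1 : a ∈ π.ker := ha
    rw [QuotientGroup.ker_mk', hc] at h1
    exact (Subgroup.mem_bot).1 h1
  obtain ⟨g, rfl⟩ := QuotientGroup.mk'_surjective _ x
  let ι : Matrix.SpecialLinearGroup (Fin n) F →* GL (Fin n) F := Matrix.SpecialLinearGroup.toGL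
  have hι : Function.Injective ι := by
    intro a b hab
    apply Subtype.ext
    exact congrArg Units.val hab
  refine ⟨ι g, ?_⟩
  rw [orderOf_injective ι hι]
  exact (orderOf_injective π hπ g).symm

/-- the slot of a degree -/
def slotI (n d : ℕ) : ℕ := if d = n ∨ 2 * d = n then 0 else min d (n - d)

theorem stable_aux (hF : Fintype.card F = 2) (n k : ℕ) (hn : 2 ≤ n)
    (f : Fin k → PSLn n F) :
    ∃ f' : Fin ((n + 3) / 2) → PSLn n F, orderOf f' = orderOf f := by
  classical
  have hn1 : 1 ≤ n := by omega
  set m := orderOf f with hm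
  have hm0 : m ≠ 0 := (orderOf_pos f).ne'
  have hk₀ : 0 < (n + 3) / 2 := by omega
  have hr0 : ∀ r : ℕ, r.Prime → r ≠ 2 → (r : F) ≠ 0 := by
    intro r hr hr2 h0
    have hc : ringChar F ∣ r := (ringChar.spec F r).1 h0
    have h2c : ringChar F = 2 := (FiniteField.even_card_iff_char_two (F := F)).2 (by rw [hF])
    rw [h2c] at hc
    exact hr2 ((Nat.prime_dvd_prime_iff_eq Nat.prime_two hr).1 hc).symm
  -- degrees of the odd prime powers
  have hdeg : ∀ r ∈ m.primeFactors, r ≠ 2 → ∃ d, 1 ≤ d ∧ d ≤ n ∧ r ^ m.factorization r ∣ 2 ^ d - 1 := by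
    intro r hrm hr2
    have hr := Nat.prime_of_mem_primeFactors hrm
    have hrd := Nat.dvd_of_mem_primeFactors hrm
    have he : 1 ≤ m.factorization r := hr.factorization_pos_of_dvd hm0 hrd
    have hpow : r ^ m.factorization r ∣ orderOf f := Nat.ordProj_dvd m r
    obtain ⟨i, hi⟩ := pi_pow_dvd f hr he hpow hm0
    obtain ⟨A, hA⟩ := gl_of_psl hF hn1 (f i)
    rw [← hA] at hi
    have := exists_degree A hr he (hr0 r hr hr2) hi
    rwa [hF] at this
  choose! dOf hd1 hd2 hd3 using hdeg
  -- the slot function
  let sl : ℕ → ℕ := fun r => if r = 2 then 0 else slotI n (dOf r) + 1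
  have hsl : ∀ r ∈ m.primeFactors, sl r < (n + 3) / 2 := by
    intro r hr
    simp only [sl]
    by_cases hr2 : r = 2
    · simp [hr2]
    · simp only [hr2, if_false, slotI]
      have h1 := hd1 r hr hr2
      have h2 := hd2 r hr hr2
      split_ifs with h
      · omega
      · push Not at h
        have := h.1
        have := h.2
        omega
  let part : ℕ → ℕ := fun j => ∏ r ∈ m.primeFactors with sl r = j, r ^ m.factorization r
  -- each part is an element order
  have hex : ∀ j : ℕ, j < (n + 3) / 2 → ∃ y : PSLn n F, orderOf y = part j := by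
    intro j hj
    have hcopr : ∀ S : Finset ℕ, S ⊆ m.primeFactors → (S : Set ℕ).Pairwise (Function.onFun IsRelPrime (fun a => a ^ m.factorization a)) := by
      intro S hS a ha b hb hab
      apply Nat.coprime_iff_isRelPrime.1
      apply Nat.Coprime.pow
      exact (Nat.coprime_primes (Nat.prime_of_mem_primeFactors (hS ha)) (Nat.prime_of_mem_primeFactors (hS hb))).2 hab
    cases j with
    | zero =>
      -- the 2-part
      by_cases h2m : 2 ∈ m.primeFactors
      · have hfil : (m.primeFactors.filter fun r => sl r = 0) = {2} := by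
          ext r
          simp only [Finset.mem_filter, Finset.mem_singleton]
          constructor
          · rintro ⟨hr, hs⟩
            by_contra hr2
            simp [sl, hr2] at hs
          · rintro rfl
            exact ⟨h2m, by simp [sl]⟩
        have hp : part 0 = 2 ^ m.factorization 2 := by
          simp only [part]
          rw [hfil, Finset.prod_singleton]
        have he : 1 ≤ m.factorization 2 :=
          Nat.prime_two.factorization_pos_of_dvd hm0 (Nat.dvd_of_mem_primeFactors h2m)
        obtain ⟨i, hi⟩ := pi_pow_dvd f Nat.prime_two he (Nat.ordProj_dvd m 2) hm0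
        rw [hp]
        exact exists_order_of_dvd (f i) hi
      · have hfil : (m.primeFactors.filter fun r => sl r = 0) = ∅ := by
          ext r
          simp only [Finset.mem_filter, Finset.notMem_empty, iff_false, not_and]
          intro hr hs
          by_cases hr2 : r = 2
          · exact h2m (hr2 ▸ hr)
          · simp [sl, hr2] at hs
        refine ⟨1, ?_⟩
        simp only [part]
        rw [hfil, Finset.prod_empty, orderOf_one]
    | succ i =>
      have hsub : (m.primeFactors.filter fun r => sl r = i + 1) ⊆ m.primeFactors := Finset.filter_subset _ _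
      have hmem : ∀ r ∈ (m.primeFactors.filter fun r => sl r = i + 1), r ≠ 2 ∧ slotI n (dOf r) = i := by
        intro r hr
        have hs := (Finset.mem_filter.1 hr).2
        by_cases hr2 : r = 2
        · simp [sl, hr2] at hs
        · simp only [sl, hr2, if_false] at hs
          exact ⟨hr2, by omega⟩
      by_cases hi : i = 0
      · -- Singer
        subst hi
        obtain ⟨A, hA⟩ := exists_singer (F := F) hn1
        rw [hF] at hA
        have hdvd : part 1 ∣ 2 ^ n - 1 := by
          apply Finset.prod_dvd_of_isRelPrime (hcopr _ hsub)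
          intro r hr
          obtain ⟨hr2, hs⟩ := hmem r hr
          have hrm := (Finset.mem_filter.1 hr).1
          have hd := hd3 r hrm hr2
          have h1 := hd1 r hrm hr2
          have h2 := hd2 r hrm hr2
          simp only [slotI] at hs
          split_ifs at hs with h
          · rcases h with h | h
            · rwa [h] at hd
            · have : 2 ^ dOf r - 1 ∣ 2 ^ n - 1 := by
                have h3 : dOf r ∣ n := ⟨2, by omega⟩
                obtain ⟨c, hc⟩ := h3
                rw [hc, pow_mul]
                simpa using Nat.sub_dvd_pow_sub_pow (x := 2 ^ dOf r) (y := 1) (n := c)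
              exact hd.trans this
          · push Not at h
            omega
        obtain ⟨y, hy⟩ := exists_order_of_dvd A (d := part 1) (by rw [hA]; exact hdvd)
        obtain ⟨x, hx⟩ := psl_of_gl hF hn1 y
        exact ⟨x, by rw [hx, hy]⟩
      · -- two blocks
        have hin : 2 * i ≤ n := by omega
        obtain ⟨A, hA⟩ := exists_block (F := F) (n := n) (d₁ := i) (d₂ := n - i) (by omega) (by omega) (by omega)
        rw [hF] at hA
        have hdvd : part (i + 1) ∣ Nat.lcm (2 ^ i - 1) (2 ^ (n - i) - 1) := by
          apply Finset.prod_dvd_of_isRelPrime (hcopr _ hsub)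
          intro r hr
          obtain ⟨hr2, hs⟩ := hmem r hr
          have hrm := (Finset.mem_filter.1 hr).1
          have hd := hd3 r hrm hr2
          have h1 := hd1 r hrm hr2
          have h2 := hd2 r hrm hr2
          simp only [slotI] at hs
          split_ifs at hs with h
          · omega
          · have h3 : dOf r = i ∨ dOf r = n - i := by omega
            rcases h3 with h3 | h3
            · rw [h3] at hd
              exact hd.trans (Nat.dvd_lcm_left _ _)
            · rw [h3] at hd
              exact hd.trans (Nat.dvd_lcm_right _ _)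
        obtain ⟨y, hy⟩ := exists_order_of_dvd A (d := part (i + 1)) (by rw [hA]; exact hdvd)
        obtain ⟨x, hx⟩ := psl_of_gl hF hn1 y
        exact ⟨x, by rw [hx, hy]⟩
  choose! y hy using hex
  let f' : Fin ((n + 3) / 2) → PSLn n F := fun j => y j
  refine ⟨f', ?_⟩
  have hprod : ∏ r ∈ m.primeFactors, r ^ m.factorization r = m := Nat.prod_factorization_pow_eq_self hm0
  apply Nat.dvd_antisymm
  · apply orderOf_dvd_of_pow_eq_one
    funext j
    simp only [Pi.pow_apply, Pi.one_apply, f']
    rw [← orderOf_dvd_iff_pow_eq_one, hy j j.2]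
    simp only [part]
    exact (Finset.prod_dvd_prod_of_subset _ _ _ (Finset.filter_subset _ _)).trans (dvd_of_eq hprod)
  · conv_lhs => rw [← hprod]
    apply Finset.prod_dvd_of_isRelPrime
    · intro a ha b hb hab
      apply Nat.coprime_iff_isRelPrime.1
      apply Nat.Coprime.pow
      exact (Nat.coprime_primes (Nat.prime_of_mem_primeFactors ha) (Nat.prime_of_mem_primeFactors hb)).2 hab
    · intro r hr
      have hj := hsl r hr
      have h1 : r ^ m.factorization r ∣ part (sl r) := by
        simp only [part]
        exact Finset.dvd_prod_of_mem (fun a => a ^ m.factorization a) (Finset.mem_filter.2 ⟨hr, rfl⟩)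
      have h2 : orderOf (y (sl r)) ∣ orderOf f' := by
        apply orderOf_dvd_of_pow_eq_one
        have := congrFun (pow_orderOf_eq_one f') ⟨sl r, hj⟩
        simpa [f'] using this
      rw [hy _ hj] at h2
      exact h1.trans h2

theorem pad_order {G : Type*} [Group G] {k k' : ℕ} (h : k ≤ k') (f : Fin k → G) :
    ∃ f' : Fin k' → G, orderOf f' = orderOf f := by
  let f' : Fin k' → G := fun i => if hi : (i : ℕ) < k then f ⟨i, hi⟩ else 1
  refine ⟨f', Nat.dvd_antisymm ?_ ?_⟩
  · apply orderOf_dvd_of_pow_eq_one
    funext i
    simp only [Pi.pow_apply, Pi.one_apply, f']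
    split_ifs with hi
    · have := congrFun (pow_orderOf_eq_one f) ⟨i, hi⟩
      simpa using this
    · simp
  · apply orderOf_dvd_of_pow_eq_one
    funext i
    have := congrFun (pow_orderOf_eq_one f') ⟨i, by have := i.2; omega⟩
    simpa [f'] using this

end two

end Cfsg.Agent.H11.Spec
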