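import Cfsg.Agent.Lib.H11.Spec1

/-! Arithmetic core: absorbing `r` in direct powers. -/

set_option autoImplicit false
set_option linter.unusedSectionVars false
set_option linter.unusedVariables false

namespace Cfsg.Agent.H11.Spec

theorem eq_of_dvd_iff {a b : ℕ} (h : ∀ m, a ∣ m ↔ b ∣ m) : a = b :=
  Nat.dvd_antisymm ((h b).2 dvd_rfl) ((h a).1 dvd_rfl)

section core

variable {L : Type*} [Group L] [Finite L]

/-- order data of a bad element -/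
def BadO (L : Type*) [Group L] (p N A : ℕ) : Prop :=
  ∃ a b, A = p ^ a * b ∧ ¬ p ∣ b ∧ b ∣ N ∧ ∃ x : L, orderOf x = p ^ a

theorem BadO.lcm {p N A B : ℕ} (hp : p.Prime) (hA : BadO L p N A) (hB : BadO L p N B) : BadO L p N (Nat.lcm A B) := by
  obtain ⟨a, b, rfl, hb, hbN, x, hx⟩ := hA
  obtain ⟨a', b', rfl, hb', hbN', x', hx'⟩ := hB
  have hco : ∀ (u v : ℕ), ¬ p ∣ v → ∀ m, p ^ u * v ∣ m ↔ p ^ u ∣ m ∧ v ∣ m := by
    intro u v hv m
    constructor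
    · intro h
      exact ⟨(Dvd.intro _ rfl).trans h, (Dvd.intro_left _ rfl).trans h⟩
    · rintro ⟨h1, h2⟩
      exact Nat.Coprime.mul_dvd_of_dvd_of_dvd (Nat.Coprime.pow_left u ((Nat.Prime.coprime_iff_not_dvd hp).2 hv)) h1 h2
  have hlcm : ¬ p ∣ Nat.lcm b b' := by
    intro h
    rcases (Nat.Prime.dvd_lcm hp).1 h with h | h
    · exact hb h
    · exact hb' h
  refine ⟨max a a', Nat.lcm b b', ?_, hlcm, Nat.lcm_dvd hbN hbN', ?_⟩
  · apply eq_of_dvd_iff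
    intro m
    rw [Nat.lcm_dvd_iff, hco _ _ hb, hco _ _ hb', hco _ _ hlcm, Nat.lcm_dvd_iff]
    have h1 : p ^ max a a' ∣ m ↔ p ^ a ∣ m ∧ p ^ a' ∣ m := by
      rcases le_total a a' with h | h
      · rw [max_eq_right h]
        exact ⟨fun h2 => ⟨(pow_dvd_pow p h).trans h2, h2⟩, fun h2 => h2.2⟩
      · rw [max_eq_left h]
        exact ⟨fun h2 => ⟨h2, (pow_dvd_pow p h).trans h2⟩, fun h2 => h2.1⟩
    rw [h1]
    tauto
  · rcases le_total a a' with h | h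
    · rw [max_eq_right h]
      exact ⟨x', hx'⟩
    · rw [max_eq_left h]
      exact ⟨x, hx⟩

/-- three slots -/
theorem core_three {p r : ℕ} (hp : p.Prime) (hr : r.Prime) (hpr : p ≠ r) (w : L)
    (hz : ∃ z : L, orderOf z = r)
    (hB : ∀ x : L, ¬ r ∣ orderOf x → (∃ x' : L, orderOf x' = orderOf x * r) ∨ BadO L p (orderOf w) (orderOf x))
    (x y z : L) :
    ∃ x' y' z' : L, Nat.lcm (orderOf x') (Nat.lcm (orderOf y') (orderOf z')) =
      Nat.lcm (orderOf x) (Nat.lcm (orderOf y) (Nat.lcm (orderOf z) r)) := by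
  have hmulr : ∀ A : ℕ, ¬ r ∣ A → ∀ m, A * r ∣ m ↔ A ∣ m ∧ r ∣ m := by
    intro A hA m
    constructor
    · intro h
      exact ⟨(Dvd.intro _ rfl).trans h, (Dvd.intro_left _ rfl).trans h⟩
    · rintro ⟨h1, h2⟩
      exact Nat.Coprime.mul_dvd_of_dvd_of_dvd ((Nat.Coprime.symm ((Nat.Prime.coprime_iff_not_dvd hr).2 hA))) h1 h2
  by_cases hx : r ∣ orderOf x
  · refine ⟨x, y, z, eq_of_dvd_iff fun m => ?_⟩
    simp only [Nat.lcm_dvd_iff]
    exact ⟨fun h => ⟨h.1, h.2.1, h.2.2, hx.trans h.1⟩, fun h => ⟨h.1, h.2.1, h.2.2.1⟩⟩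
  by_cases hy : r ∣ orderOf y
  · refine ⟨x, y, z, eq_of_dvd_iff fun m => ?_⟩
    simp only [Nat.lcm_dvd_iff]
    exact ⟨fun h => ⟨h.1, h.2.1, h.2.2, hy.trans h.2.1⟩, fun h => ⟨h.1, h.2.1, h.2.2.1⟩⟩
  by_cases hz' : r ∣ orderOf z
  · refine ⟨x, y, z, eq_of_dvd_iff fun m => ?_⟩
    simp only [Nat.lcm_dvd_iff]
    exact ⟨fun h => ⟨h.1, h.2.1, h.2.2, hz'.trans h.2.2⟩, fun h => ⟨h.1, h.2.1, h.2.2.1⟩⟩
  rcases hB x hx with ⟨x', hx'⟩ | hbx
  · refine ⟨x', y, z, eq_of_dvd_iff fun m => ?_⟩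
    simp only [Nat.lcm_dvd_iff, hx', hmulr _ hx] <;> tauto
  rcases hB y hy with ⟨x', hx'⟩ | hby
  · refine ⟨x, x', z, eq_of_dvd_iff fun m => ?_⟩
    simp only [Nat.lcm_dvd_iff, hx', hmulr _ hy] <;> tauto
  rcases hB z hz' with ⟨x', hx'⟩ | hbz
  · refine ⟨x, y, x', eq_of_dvd_iff fun m => ?_⟩
    simp only [Nat.lcm_dvd_iff, hx', hmulr _ hz'] <;> tauto
  obtain ⟨a, b, hab, hb, hbN, Y, hY⟩ := hbx.lcm hp (hby.lcm hp hbz)
  obtain ⟨X, hX⟩ := exists_order_of_dvd w hbN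
  obtain ⟨Z, hZ⟩ := hz
  refine ⟨X, Y, Z, eq_of_dvd_iff fun m => ?_⟩
  have h1 : Nat.lcm (orderOf x) (Nat.lcm (orderOf y) (Nat.lcm (orderOf z) r)) = Nat.lcm (Nat.lcm (orderOf x) (Nat.lcm (orderOf y) (orderOf z))) r := by
    apply eq_of_dvd_iff
    intro m
    simp only [Nat.lcm_dvd_iff]
    tauto
  rw [h1, hab, hX, hY, hZ]
  simp only [Nat.lcm_dvd_iff]
  have hco : p ^ a * b ∣ m ↔ p ^ a ∣ m ∧ b ∣ m := by
    constructor
    · intro h
      exact ⟨(Dvd.intro _ rfl).trans h, (Dvd.intro_left _ rfl).trans h⟩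
    · rintro ⟨h1, h2⟩
      exact Nat.Coprime.mul_dvd_of_dvd_of_dvd (Nat.Coprime.pow_left a ((Nat.Prime.coprime_iff_not_dvd hp).2 hb)) h1 h2
  rw [hco]
  tauto

/-- two slots -/
theorem core_two {p r : ℕ} (hp : p.Prime) (hr : r.Prime) (hpr : p ≠ r) (w : L)
    (hz : ∃ z : L, orderOf z = r)
    (hB : ∀ x : L, ¬ r ∣ orderOf x → (∃ x' : L, orderOf x' = orderOf x * r) ∨ BadO L p (orderOf w) (orderOf x))
    (hE : ∀ t : ℕ, 1 ≤ t → (∃ x : L, orderOf x = p ^ t) → ∃ x : L, orderOf x = p ^ t * r)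
    (x y : L) :
    ∃ x' y' : L, Nat.lcm (orderOf x') (orderOf y') =
      Nat.lcm (orderOf x) (Nat.lcm (orderOf y) r) := by
  have hmulr : ∀ A : ℕ, ¬ r ∣ A → ∀ m, A * r ∣ m ↔ A ∣ m ∧ r ∣ m := by
    intro A hA m
    constructor
    · intro h
      exact ⟨(Dvd.intro _ rfl).trans h, (Dvd.intro_left _ rfl).trans h⟩
    · rintro ⟨h1, h2⟩
      exact Nat.Coprime.mul_dvd_of_dvd_of_dvd ((Nat.Coprime.symm ((Nat.Prime.coprime_iff_not_dvd hr).2 hA))) h1 h2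
  by_cases hx : r ∣ orderOf x
  · refine ⟨x, y, eq_of_dvd_iff fun m => ?_⟩
    simp only [Nat.lcm_dvd_iff]
    exact ⟨fun h => ⟨h.1, h.2, hx.trans h.1⟩, fun h => ⟨h.1, h.2.1⟩⟩
  by_cases hy : r ∣ orderOf y
  · refine ⟨x, y, eq_of_dvd_iff fun m => ?_⟩
    simp only [Nat.lcm_dvd_iff]
    exact ⟨fun h => ⟨h.1, h.2, hy.trans h.2⟩, fun h => ⟨h.1, h.2.1⟩⟩
  rcases hB x hx with ⟨x', hx'⟩ | hbx
  · refine ⟨x', y, eq_of_dvd_iff fun m => ?_⟩
    simp only [Nat.lcm_dvd_iff, hx', hmulr _ hx] <;> tauto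
  rcases hB y hy with ⟨x', hx'⟩ | hby
  · refine ⟨x, x', eq_of_dvd_iff fun m => ?_⟩
    simp only [Nat.lcm_dvd_iff, hx', hmulr _ hy] <;> tauto
  obtain ⟨a, b, hab, hb, hbN, Y, hY⟩ := hbx.lcm hp hby
  obtain ⟨X, hX⟩ := exists_order_of_dvd w hbN
  have hYr : ∃ Y' : L, orderOf Y' = p ^ a * r := by
    by_cases ha : a = 0
    · subst ha
      obtain ⟨Z, hZ⟩ := hz
      exact ⟨Z, by simp [hZ]⟩
    · exact hE a (by omega) ⟨Y, hY⟩
  obtain ⟨Y', hY'⟩ := hYr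
  have hrp : Nat.Coprime (p ^ a) r := Nat.Coprime.pow_left a ((Nat.coprime_primes hp hr).2 hpr)
  refine ⟨X, Y', eq_of_dvd_iff fun m => ?_⟩
  have h1 : Nat.lcm (orderOf x) (Nat.lcm (orderOf y) r) = Nat.lcm (Nat.lcm (orderOf x) (orderOf y)) r := by
    apply eq_of_dvd_iff
    intro m
    simp only [Nat.lcm_dvd_iff]
    tauto
  rw [h1, hab, hX, hY']
  simp only [Nat.lcm_dvd_iff]
  have hco : p ^ a * b ∣ m ↔ p ^ a ∣ m ∧ b ∣ m := by
    constructor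
    · intro h
      exact ⟨(Dvd.intro _ rfl).trans h, (Dvd.intro_left _ rfl).trans h⟩
    · rintro ⟨h1, h2⟩
      exact Nat.Coprime.mul_dvd_of_dvd_of_dvd (Nat.Coprime.pow_left a ((Nat.Prime.coprime_iff_not_dvd hp).2 hb)) h1 h2
  have hco2 : p ^ a * r ∣ m ↔ p ^ a ∣ m ∧ r ∣ m := by
    constructor
    · intro h
      exact ⟨(Dvd.intro _ rfl).trans h, (Dvd.intro_left _ rfl).trans h⟩
    · rintro ⟨h1, h2⟩
      exact Nat.Coprime.mul_dvd_of_dvd_of_dvd hrp h1 h2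
  rw [hco, hco2]
  tauto

/-- the final form for products with an elementary abelian factor -/
theorem spec_three_of_core {M : Type*} [Group M] {r : ℕ} (hr : r.Prime) (hM : ∀ v : M, v ^ r = 1)
    (hcore : ∀ x y z : L, ∃ x' y' z' : L, Nat.lcm (orderOf x') (Nat.lcm (orderOf y') (orderOf z')) =
      Nat.lcm (orderOf x) (Nat.lcm (orderOf y) (Nat.lcm (orderOf z) r))) :
    Set.range (orderOf : L × L × L × M → ℕ) = Set.range (orderOf : L × L × L → ℕ) := by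
  apply Set.eq_of_subset_of_subset
  · rintro _ ⟨⟨x, y, z, v⟩, rfl⟩
    have hv : orderOf v = 1 ∨ orderOf v = r := (Nat.dvd_prime hr).1 (orderOf_dvd_of_pow_eq_one (hM v))
    rcases hv with hv | hv
    · refine ⟨(x, y, z), ?_⟩
      simp only [Prod.orderOf, hv, Nat.lcm_one_right]
    · obtain ⟨x', y', z', h⟩ := hcore x y z
      refine ⟨(x', y', z'), ?_⟩
      simp only [Prod.orderOf, hv]
      exact h
  · rintro _ ⟨⟨x, y, z⟩, rfl⟩
    refine ⟨(x, y, z, 1), ?_⟩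
    simp only [Prod.orderOf, orderOf_one, Nat.lcm_one_right]

theorem spec_two_of_core {M : Type*} [Group M] {r : ℕ} (hr : r.Prime) (hM : ∀ v : M, v ^ r = 1)
    (hcore : ∀ x y : L, ∃ x' y' : L, Nat.lcm (orderOf x') (orderOf y') =
      Nat.lcm (orderOf x) (Nat.lcm (orderOf y) r)) :
    Set.range (orderOf : L × L × M → ℕ) = Set.range (orderOf : L × L → ℕ) := by
  apply Set.eq_of_subset_of_subset
  · rintro _ ⟨⟨x, y, v⟩, rfl⟩
    have hv : orderOf v = 1 ∨ orderOf v = r := (Nat.dvd_prime hr).1 (orderOf_dvd_of_pow_eq_one (hM v))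
    rcases hv with hv | hv
    · refine ⟨(x, y), ?_⟩
      simp only [Prod.orderOf, hv, Nat.lcm_one_right]
    · obtain ⟨x', y', h⟩ := hcore x y
      refine ⟨(x', y'), ?_⟩
      simp only [Prod.orderOf, hv]
      exact h
  · rintro _ ⟨⟨x, y⟩, rfl⟩
    refine ⟨(x, y, 1), ?_⟩
    simp only [Prod.orderOf, orderOf_one, Nat.lcm_one_right]

theorem mult_zmod_pow {m r : ℕ} (v : Multiplicative (Fin m → ZMod r)) : v ^ r = 1 := by
  apply Multiplicative.toAdd.injective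
  funext i
  simp [toAdd_pow]

end core

end Cfsg.Agent.H11.Spec
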