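import Cfsg.Agent.Lib.H11.Spec2
import Cfsg.Agent.Lib.H11.Spec3
import Cfsg.Agent.Lib.H10.SS2

/-! Absorbing `r ∣ q - 1` in direct powers of `PSL_n(q)`. -/

set_option autoImplicit false
set_option linter.unusedSectionVars false
set_option linter.unusedVariables false

namespace Cfsg.Agent.H11.Spec

open Polynomial Matrix Module

variable {F : Type*} [Field F] [Fintype F]

/-- the quotient map -/
noncomputable abbrev piL (n : ℕ) (F : Type*) [Field F] [Fintype F] :
    Matrix.SpecialLinearGroup (Fin n) F →* PSLn n F := QuotientGroup.mk' _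

theorem piL_eq_one_iff {n : ℕ} (hn : 1 ≤ n) (u : Matrix.SpecialLinearGroup (Fin n) F) :
    piL n F u = 1 ↔ ∃ c : F, (u : Matrix (Fin n) (Fin n) F) = c • (1 : Matrix (Fin n) (Fin n) F) := by
  classical
  haveI : Nonempty (Fin n) := ⟨⟨0, by omega⟩⟩
  have h0 : piL n F u = 1 ↔ u ∈ Subgroup.center (Matrix.SpecialLinearGroup (Fin n) F) := by
    rw [← MonoidHom.mem_ker, QuotientGroup.ker_mk']
  rw [h0, Matrix.SpecialLinearGroup.mem_center_iff]
  constructor
  · rintro ⟨r, -, hr⟩
    refine ⟨r, ?_⟩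
    rw [← hr]
    ext i j
    simp [Matrix.smul_apply, Matrix.one_apply, Matrix.scalar_apply, Matrix.diagonal_apply]
  · rintro ⟨c, hc⟩
    refine ⟨c, ?_, ?_⟩
    · have h1 : (u : Matrix (Fin n) (Fin n) F).det = 1 := u.2
      rw [hc, Matrix.det_smul, Matrix.det_one, mul_one, Fintype.card_fin] at h1
      simpa using h1
    · rw [hc]
      ext i j
      simp [Matrix.smul_apply, Matrix.one_apply, Matrix.scalar_apply, Matrix.diagonal_apply]

theorem mat_pow_n {n : ℕ} (N : Matrix (Fin n) (Fin n) F) (h : IsNilpotent N) : N ^ n = 0 := by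
  have h1 := Matrix.isNilpotent_charpoly_sub_pow_of_isNilpotent h
  have h2 : N.charpoly - X ^ Fintype.card (Fin n) = 0 := h1.eq_zero
  have h3 : N.charpoly = X ^ n := by
    rw [sub_eq_zero, Fintype.card_fin] at h2
    exact h2
  have h4 := Matrix.aeval_self_charpoly N
  rw [h3] at h4
  simpa using h4

theorem aeval_commute_of {A : Type*} [Ring A] [Algebra F A] {a b : A} (h : Commute a b) (f : F[X]) :
    Commute a (aeval b f) := by
  induction f using Polynomial.induction_on' with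
  | add p q hp hq =>
    rw [map_add]
    exact hp.add_right hq
  | monomial n c =>
    rw [aeval_monomial]
    exact (show Commute a (algebraMap F A c) from (Algebra.commutes c a).symm).mul_right (h.pow_right n)

section idem

variable {A : Type*} [Ring A] [Algebra F A] {e₁ e₂ : A}

theorem idem_facts (he : e₁ + e₂ = 1) (hee : e₁ * e₂ = 0) :
    e₁ * e₁ = e₁ ∧ e₂ * e₂ = e₂ ∧ e₂ * e₁ = 0 := by
  have h2 : e₂ = 1 - e₁ := by rw [← he]; abel
  have h1 : e₁ * e₁ = e₁ := by
    have := hee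
    rw [h2, mul_sub, mul_one, sub_eq_zero] at this
    exact this.symm
  refine ⟨h1, ?_, ?_⟩
  · rw [h2, sub_mul, mul_sub, mul_sub, one_mul, mul_one, one_mul, h1]
    abel
  · rw [h2, sub_mul, one_mul, h1, sub_self]

/-- the elements `a e₁ + b e₂` -/
def dd (e₁ e₂ : A) (a b : F) : A := a • e₁ + b • e₂

theorem dd_mul (he : e₁ + e₂ = 1) (hee : e₁ * e₂ = 0) (a b c d : F) :
    dd e₁ e₂ a b * dd e₁ e₂ c d = dd e₁ e₂ (a * c) (b * d) := by
  obtain ⟨h1, h2, h3⟩ := idem_facts he hee
  unfold dd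
  rw [add_mul, mul_add, mul_add, smul_mul_smul_comm, smul_mul_smul_comm, smul_mul_smul_comm, smul_mul_smul_comm,
    h1, h2, h3, hee, smul_zero, smul_zero, add_zero, zero_add]

theorem dd_one (he : e₁ + e₂ = 1) : dd e₁ e₂ (1 : F) 1 = 1 := by
  unfold dd
  rw [one_smul, one_smul, he]

theorem dd_pow (he : e₁ + e₂ = 1) (hee : e₁ * e₂ = 0) (a b : F) (k : ℕ) :
    dd e₁ e₂ a b ^ k = dd e₁ e₂ (a ^ k) (b ^ k) := by
  induction k with
  | zero => simp [dd_one (F := F) he]
  | succ k ih => rw [pow_succ, ih, dd_mul he hee, pow_succ, pow_succ]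

theorem dd_smul (he : e₁ + e₂ = 1) (a : F) : dd e₁ e₂ a a = a • (1 : A) := by
  unfold dd
  rw [← smul_add, he]

end idem

/-- Multiply by an element of order `r` commuting with a decomposable element. -/
theorem mul_r_of_idem {n r : ℕ} (hn : 1 ≤ n) (hr : r.Prime) (hrq : r ∣ Fintype.card F - 1) (hrn : ¬ r ∣ n)
    (g : Matrix.SpecialLinearGroup (Fin n) F) (e₁ e₂ : Matrix (Fin n) (Fin n) F) (he : e₁ + e₂ = 1) (hee : e₁ * e₂ = 0)
    (h1 : e₁ ≠ 0) (h2 : e₂ ≠ 0) (hc1 : (g : Matrix (Fin n) (Fin n) F) * e₁ = e₁ * (g : Matrix (Fin n) (Fin n) F))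
    (hx : ¬ r ∣ orderOf (piL n F g)) : ∃ x' : PSLn n F, orderOf x' = orderOf (piL n F g) * r := by
  classical
  haveI : Fact r.Prime := ⟨hr⟩
  haveI : NeZero r := ⟨hr.ne_zero⟩
  obtain ⟨ζ, hζ⟩ := exists_prime_orderOf_dvd_card (G := Fˣ) r (by
    rw [Fintype.card_units]
    exact hrq)
  set z : F := (ζ : F) with hzdef
  have hzo : orderOf z = r := by
    rw [hzdef, orderOf_units, hζ]
  have hprim : IsPrimitiveRoot z r := by
    rw [← hzo]
    exact IsPrimitiveRoot.orderOf z
  have hzr : z ^ r = 1 := hprim.pow_eq_one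
  have hfacts := idem_facts he hee
  have hc2 : (g : Matrix (Fin n) (Fin n) F) * e₂ = e₂ * (g : Matrix (Fin n) (Fin n) F) := by
    have : e₂ = 1 - e₁ := by rw [← he]; abel
    rw [this, mul_sub, sub_mul, hc1, mul_one, one_mul]
  -- the two characters
  let D := dd (F := F) e₁ e₂
  have hDmul : ∀ a b c d, D a b * D c d = D (a * c) (b * d) := dd_mul he hee
  have hDpow : ∀ a b (k : ℕ), D a b ^ k = D (a ^ k) (b ^ k) := dd_pow he hee
  have hDone : D 1 1 = 1 := dd_one he
  set α := (D z 1).det with hα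
  set β := (D 1 z).det with hβ
  have hαr : α ^ r = 1 := by
    rw [hα, ← Matrix.det_pow, hDpow, hzr, one_pow, hDone, Matrix.det_one]
  have hβr : β ^ r = 1 := by
    rw [hβ, ← Matrix.det_pow, hDpow, hzr, one_pow, hDone, Matrix.det_one]
  have hαβ : α * β = z ^ n := by
    rw [hα, hβ, ← Matrix.det_mul, hDmul, mul_one, one_mul]
    have : D z z = z • (1 : Matrix (Fin n) (Fin n) F) := dd_smul he z
    rw [this, Matrix.det_smul, Matrix.det_one, mul_one, Fintype.card_fin]
  obtain ⟨A, -, hA⟩ := hprim.eq_pow_of_pow_eq_one hαr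
  obtain ⟨B, -, hB⟩ := hprim.eq_pow_of_pow_eq_one hβr
  let y : Matrix (Fin n) (Fin n) F := D (z ^ B) ((z ^ A) ^ (r - 1))
  have hsplit : y = D z 1 ^ B * D 1 z ^ (A * (r - 1)) := by
    rw [hDpow, hDpow, hDmul, one_pow, one_pow, mul_one, one_mul, pow_mul]
  have hdet : y.det = 1 := by
    rw [hsplit, Matrix.det_mul, Matrix.det_pow, Matrix.det_pow, ← hα, ← hβ, ← hA, ← hB, ← pow_mul, ← pow_mul, ← pow_add]
    have : A * B + B * (A * (r - 1)) = (A * B) * r := by
      obtain ⟨s, rfl⟩ : ∃ s, r = s + 1 := ⟨r - 1, by have := hr.pos; omega⟩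
      simp only [Nat.add_sub_cancel]
      ring
    rw [this, mul_comm, pow_mul, hzr, one_pow]
  have hyr : y ^ r = 1 := by
    change D _ _ ^ r = 1
    rw [hDpow, ← pow_mul, mul_comm B r, pow_mul, hzr, one_pow, ← pow_mul, ← pow_mul]
    have : A * ((r - 1) * r) = r * (A * (r - 1)) := by ring
    rw [this, pow_mul, hzr, one_pow, hDone]
  have hne : y ≠ 1 := by
    intro hy1
    have hy2 : y = D 1 1 := by rw [hy1, hDone]
    have he1 : y * e₁ = (z ^ B) • e₁ := by
      change (dd e₁ e₂ _ _) * e₁ = _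
      unfold dd
      rw [add_mul, smul_mul_assoc, smul_mul_assoc, hfacts.1, hfacts.2.2, smul_zero, add_zero]
    have he2 : y * e₂ = ((z ^ A) ^ (r - 1)) • e₂ := by
      change (dd e₁ e₂ _ _) * e₂ = _
      unfold dd
      rw [add_mul, smul_mul_assoc, smul_mul_assoc, hfacts.2.1, hee, smul_zero, zero_add]
    rw [hy1, one_mul] at he1 he2
    have hB1 : z ^ B = 1 := by
      by_contra hc
      have h3 : (z ^ B - 1) • e₁ = 0 := by
        rw [sub_smul, one_smul, ← he1, sub_self]
      rcases smul_eq_zero.1 h3 with h4 | h4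
      · exact hc (sub_eq_zero.1 h4)
      · exact h1 h4
    have hA1 : (z ^ A) ^ (r - 1) = 1 := by
      by_contra hc
      have h3 : ((z ^ A) ^ (r - 1) - 1) • e₂ = 0 := by
        rw [sub_smul, one_smul, ← he2, sub_self]
      rcases smul_eq_zero.1 h3 with h4 | h4
      · exact hc (sub_eq_zero.1 h4)
      · exact h2 h4
    have hrB : r ∣ B := by
      rw [← hzo]
      exact orderOf_dvd_of_pow_eq_one hB1
    have hrA' : r ∣ A * (r - 1) := by
      have : r = orderOf z := hzo.symm
      rw [this]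
      apply orderOf_dvd_of_pow_eq_one
      rw [pow_mul, ← this, hA1]
    have hrA : r ∣ A := by
      rcases (Nat.Prime.dvd_mul hr).1 hrA' with h3 | h3
      · exact h3
      · exfalso
        have := Nat.le_of_dvd (by have := hr.two_le; omega) h3
        have := hr.two_le
        omega
    apply hrn
    have h5 : z ^ n = 1 := by
      rw [← hαβ, ← hA, ← hB]
      obtain ⟨a', rfl⟩ := hrA
      obtain ⟨b', rfl⟩ := hrB
      rw [pow_mul, pow_mul, hzr, one_pow, one_pow, mul_one]
    rw [← hzo]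
    exact orderOf_dvd_of_pow_eq_one h5
  let Y : Matrix.SpecialLinearGroup (Fin n) F := ⟨y, hdet⟩
  have hYv : (Y : Matrix (Fin n) (Fin n) F) = y := rfl
  have hY1 : piL n F Y ≠ 1 := by
    intro h0
    obtain ⟨c, hc⟩ := (piL_eq_one_iff hn Y).1 h0
    rw [hYv] at hc
    have hcn : c ^ n = 1 := by
      have := hdet
      rw [hc, Matrix.det_smul, Matrix.det_one, mul_one, Fintype.card_fin] at this
      exact this
    have hcr : c ^ r = 1 := by
      have h3 := hyr
      rw [hc, _root_.smul_pow, one_pow] at h3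
      by_contra hc2
      have h4 : (c ^ r - 1) • (1 : Matrix (Fin n) (Fin n) F) = 0 := by
        rw [sub_smul, one_smul, h3, sub_self]
      rcases smul_eq_zero.1 h4 with h5 | h5
      · exact hc2 (sub_eq_zero.1 h5)
      · haveI : Nonempty (Fin n) := ⟨⟨0, by omega⟩⟩
        exact one_ne_zero h5
    have hc1 : c = 1 := by
      have hcop : Nat.Coprime r n := (Nat.Prime.coprime_iff_not_dvd hr).2 hrn
      have := (pow_gcd_eq_one (a := c)).2 ⟨hcr, hcn⟩
      rw [hcop] at this
      simpa using this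
    apply hne
    rw [hc, hc1, one_smul]
  have hYo : orderOf (piL n F Y) = r := by
    apply orderOf_eq_prime _ hY1
    rw [← map_pow]
    have : Y ^ r = 1 := by
      apply Subtype.ext
      change y ^ r = 1
      exact hyr
    rw [this, map_one]
  have hcomm : Commute (piL n F g) (piL n F Y) := by
    have : Commute g Y := by
      apply Subtype.ext
      change (g : Matrix (Fin n) (Fin n) F) * y = y * (g : Matrix (Fin n) (Fin n) F)
      change (g : Matrix (Fin n) (Fin n) F) * (dd e₁ e₂ _ _) = (dd e₁ e₂ _ _) * (g : Matrix (Fin n) (Fin n) F)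
      unfold dd
      rw [mul_add, add_mul, mul_smul_comm, mul_smul_comm, smul_mul_assoc, smul_mul_assoc, hc1, hc2]
    exact this.map _
  refine ⟨piL n F g * piL n F Y, ?_⟩
  rw [hcomm.orderOf_mul_eq_mul_orderOf_of_coprime, hYo]
  rw [hYo]
  exact Nat.Coprime.symm ((Nat.Prime.coprime_iff_not_dvd hr).2 hx)

/-- an element of order `r` -/
theorem exists_order_r {n r : ℕ} (hn : 2 ≤ n) (hr : r.Prime) (hrq : r ∣ Fintype.card F - 1) (hrn : ¬ r ∣ n) :
    ∃ x : PSLn n F, orderOf x = r := by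
  classical
  let i₀ : Fin n := ⟨0, by omega⟩
  let i₁ : Fin n := ⟨1, by omega⟩
  let e₁ : Matrix (Fin n) (Fin n) F := Matrix.single i₀ i₀ 1
  have h1 : e₁ ≠ 0 := by
    intro h
    have := congrFun (congrFun h i₀) i₀
    simp [e₁] at this
  have h2 : (1 - e₁) ≠ 0 := by
    intro h
    have := congrFun (congrFun h i₁) i₁
    have hne : i₀ ≠ i₁ := by
      intro h
      have := congrArg Fin.val h
      simp [i₀, i₁] at this
    simp [e₁, Matrix.single_apply, hne] at this
  have hee : e₁ * (1 - e₁) = 0 := by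
    rw [mul_sub, mul_one, sub_eq_zero]
    simp [e₁, Matrix.single_mul_single_same]
  obtain ⟨x', hx'⟩ := mul_r_of_idem (F := F) (n := n) (r := r) (by omega) hr hrq hrn 1 e₁ (1 - e₁) (by abel) hee h1 h2 (by simp)
    (by simp [hr.one_lt.ne', Nat.dvd_one, hr.ne_one])
  refine ⟨x', ?_⟩
  rw [hx', map_one, orderOf_one, one_mul]

/-- powers of `p` in `PSL_n`: the block size -/
theorem p_lt_of_order {p a n t : ℕ} (hp : p.Prime) [CharP F p] (hn : 1 ≤ n) (ht : 1 ≤ t) (x : PSLn n F)
    (hx : orderOf x = p ^ t) : p ^ (t - 1) < n := by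
  classical
  by_contra hcon
  push Not at hcon
  haveI : Fact p.Prime := ⟨hp⟩
  haveI : Nonempty (Fin n) := ⟨⟨0, by omega⟩⟩
  obtain ⟨g, rfl⟩ := QuotientGroup.mk'_surjective _ x
  change orderOf (piL n F g) = p ^ t at hx
  have h1 : piL n F (g ^ p ^ t) = 1 := by
    rw [map_pow, ← hx, pow_orderOf_eq_one]
  obtain ⟨c, hc⟩ := (piL_eq_one_iff hn _).1 h1
  have hc0 : c ≠ 0 := by
    rintro rfl
    have hdet := (g ^ p ^ t).2
    rw [hc, zero_smul, Matrix.det_zero] at hdet
    exact zero_ne_one hdet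
  have hfrob : Function.Surjective (fun a : F => a ^ p ^ t) := by
    apply Finite.injective_iff_surjective.1
    intro a b hab
    have : (a - b) ^ p ^ t = 0 := by
      rw [sub_pow_char_pow]
      exact sub_eq_zero.2 hab
    exact sub_eq_zero.1 (pow_eq_zero_iff (pow_ne_zero _ hp.ne_zero) |>.1 this)
  obtain ⟨c₀, hc₀⟩ := hfrob c
  simp only at hc₀
  have hc₀0 : c₀ ≠ 0 := by
    rintro rfl
    rw [zero_pow (pow_ne_zero _ hp.ne_zero)] at hc₀
    exact hc0 hc₀.symm
  let B : Matrix (Fin n) (Fin n) F := c₀⁻¹ • (g : Matrix (Fin n) (Fin n) F)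
  have hgp : ∀ k : ℕ, ((g ^ k : Matrix.SpecialLinearGroup (Fin n) F) : Matrix (Fin n) (Fin n) F) = (g : Matrix (Fin n) (Fin n) F) ^ k := fun k => by
    simp
  have hB : B ^ p ^ t = 1 := by
    simp only [B]
    rw [_root_.smul_pow, ← hgp, hc, inv_pow, ← hc₀, smul_smul, inv_mul_cancel₀ (pow_ne_zero _ hc₀0), one_smul]
  haveI : CharP (Matrix (Fin n) (Fin n) F) p := inferInstance
  have hnil : (B - 1) ^ p ^ t = 0 := by
    have := sub_pow_char_pow_of_commute (p := p) (n := t) (x := B) (y := 1) (Commute.one_right B)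
    rw [this, hB, one_pow, sub_self]
  have hn' : (B - 1) ^ n = 0 := mat_pow_n _ ⟨_, hnil⟩
  have hB' : B ^ p ^ (t - 1) = 1 := by
    have h3 : (B - 1) ^ p ^ (t - 1) = 0 := by
      obtain ⟨k, hk⟩ := Nat.exists_eq_add_of_le hcon
      rw [hk, pow_add, hn', zero_mul]
    have := sub_pow_char_pow_of_commute (p := p) (n := t - 1) (x := B) (y := 1) (Commute.one_right B)
    rw [h3, one_pow] at this
    exact (sub_eq_zero.1 this.symm)
  have h4 : piL n F (g ^ p ^ (t - 1)) = 1 := by
    rw [piL_eq_one_iff hn]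
    refine ⟨c₀ ^ p ^ (t - 1), ?_⟩
    have : B ^ p ^ (t - 1) = (c₀⁻¹) ^ p ^ (t - 1) • (g : Matrix (Fin n) (Fin n) F) ^ p ^ (t - 1) := by
      simp only [B]
      rw [_root_.smul_pow]
    rw [hB'] at this
    rw [hgp]
    have h5 := congrArg (fun m => c₀ ^ p ^ (t - 1) • m) this
    simp only [smul_smul, inv_pow] at h5
    rw [mul_inv_cancel₀ (pow_ne_zero _ hc₀0), one_smul] at h5
    exact h5.symm
  have h5 : orderOf (piL n F g) ∣ p ^ (t - 1) := by
    apply orderOf_dvd_of_pow_eq_one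
    rw [← map_pow]
    exact h4
  rw [hx] at h5
  have := (Nat.pow_dvd_pow_iff_le_right hp.one_lt).1 h5
  omega

end Cfsg.Agent.H11.Spec
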