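import Cfsg.Agent.Lib.H11.Spec4

/-! Singer torus and the dichotomy for `PSL_n(q)`. -/

set_option autoImplicit false
set_option linter.unusedSectionVars false
set_option linter.unusedVariables false

namespace Cfsg.Agent.H11.Spec

open Polynomial Matrix Module

variable {F : Type*} [Field F] [Fintype F]

theorem charP_of_card {p a : ℕ} (hp : p.Prime) (ha : 1 ≤ a) (hF : Fintype.card F = p ^ a) : CharP F p := by
  obtain ⟨p', hp'⟩ := CharP.exists F
  obtain ⟨k, hk1, hk2⟩ := FiniteField.card F p'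
  have hd : p' ∣ p ^ a := by
    rw [← hF, hk2]
    exact dvd_pow_self _ k.pos.ne'
  have := (Nat.prime_dvd_prime_iff_eq hk1 hp).1 (hk1.dvd_of_dvd_pow hd)
  rwa [this] at hp'

/-- a monic polynomial all of whose irreducible factors are one irreducible `P` is a power of `P` -/
theorem monic_eq_pow {P : F[X]} (hP : Irreducible P) (hPm : P.Monic) :
    ∀ (d : ℕ) (f : F[X]), f.Monic → f.natDegree = d → (∀ R, Irreducible R → R ∣ f → P ∣ R) → ∃ k, f = P ^ k := by
  intro d
  induction d using Nat.strong_induction_on with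
  | _ d ih =>
    intro f hf hd hall
    by_cases hu : IsUnit f
    · exact ⟨0, by rw [pow_zero]; exact hf.eq_one_of_isUnit hu⟩
    · obtain ⟨R, hR, hRd⟩ := WfDvdMonoid.exists_irreducible_factor hu hf.ne_zero
      have hPf : P ∣ f := (hall R hR hRd).trans hRd
      obtain ⟨g, rfl⟩ := hPf
      have hg : g.Monic := hPm.of_mul_monic_left hf
      have hdeg : (P * g).natDegree = P.natDegree + g.natDegree := hPm.natDegree_mul hg
      have hPdeg : 0 < P.natDegree := hP.natDegree_pos
      obtain ⟨k, hk⟩ := ih g.natDegree (by omega) g hg rfl (fun R hR hRd => hall R hR (hRd.trans (Dvd.intro_left _ rfl)))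
      exact ⟨k + 1, by rw [hk, pow_succ, mul_comm]⟩

/-- charpoly of a semisimple matrix with irreducible minimal polynomial -/
theorem charpoly_eq_pow {n : ℕ} (A : Matrix (Fin n) (Fin n) F) (hss : Module.End.IsSemisimple (Matrix.toLin' A))
    (hP : Irreducible (minpoly F A)) : ∃ k, A.charpoly = (minpoly F A) ^ k := by
  classical
  have hint : IsIntegral F A := Algebra.IsIntegral.isIntegral A
  have hPm : (minpoly F A).Monic := minpoly.monic hint
  apply monic_eq_pow hP hPm _ A.charpoly (Matrix.charpoly_monic A) rfl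
  intro R hR hRd
  rw [← Cfsg.Agent.H10.charpoly_toLin'_eq] at hRd
  obtain ⟨v, hv, hv0⟩ := Cfsg.Agent.H10.exists_ker_of_dvd_charpoly n (Fin n → F) (Matrix.toLin' A) (by simp) hss R hR hRd
  by_contra hnd
  have hco : IsCoprime (minpoly F A) R := (hP.coprime_iff_not_dvd).2 hnd
  obtain ⟨a, b, hab⟩ := hco
  have hal : ∀ f : F[X], aeval (Matrix.toLin' A) f = Matrix.toLin' (aeval A f) := by
    intro f
    have e : ∀ B : Matrix (Fin n) (Fin n) F, Matrix.toLin' B = (Matrix.toLinAlgEquiv' (R := F) (n := Fin n)) B :=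
      fun B => LinearMap.ext fun v => by rw [Matrix.toLinAlgEquiv'_apply, Matrix.toLin'_apply]
    rw [e, e]
    exact Polynomial.aeval_algHom_apply (Matrix.toLinAlgEquiv' (R := F) (n := Fin n)).toAlgHom A f
  apply hv
  have h1 : aeval (Matrix.toLin' A) (a * minpoly F A + b * R) v = v := by
    rw [hab, map_one]
    rfl
  rw [← h1, map_add, map_mul, map_mul, LinearMap.add_apply]
  have h2 : aeval (Matrix.toLin' A) (minpoly F A) = 0 := by
    rw [hal, minpoly.aeval, map_zero]
  rw [h2, mul_zero, LinearMap.zero_apply, zero_add, Module.End.mul_apply, hv0, map_zero]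

/-- Singer torus: all semisimple elements with irreducible minimal polynomial and determinant one
lie, up to conjugacy in `GL_n`, in one cyclic group. -/
theorem torus_main {p n : ℕ} [Fact p.Prime] [CharP F p] (hn : 1 ≤ n) :
    ∃ w₀ : Matrix.SpecialLinearGroup (Fin n) F, ∀ G : GL (Fin n) F, (orderOf G).Coprime p →
      Irreducible (minpoly F (G : Matrix (Fin n) (Fin n) F)) → (G : Matrix (Fin n) (Fin n) F).det = 1 →
      ∃ (k : ℕ) (c : GL (Fin n) F), (G : Matrix (Fin n) (Fin n) F) =
        (c : Matrix (Fin n) (Fin n) F) * (w₀ : Matrix (Fin n) (Fin n) F) ^ k * ((c⁻¹ : GL (Fin n) F) : Matrix (Fin n) (Fin n) F) := by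
  classical
  haveI : Nonempty (Fin n) := ⟨⟨0, by omega⟩⟩
  obtain ⟨K, _, _, _, hKc, hKf⟩ := exists_field_ext (F := F) n hn
  haveI : Module.Finite F K := Module.finite_of_finrank_pos (by omega)
  let b := Module.finBasisOfFinrankEq F K hKf
  let φ : K →ₐ[F] Matrix (Fin n) (Fin n) F := Algebra.leftMulMatrix b
  have hφ : Function.Injective φ := Algebra.leftMulMatrix_injective b
  let N₀ : Kˣ →* Fˣ := Units.map ((Matrix.detMonoidHom (n := Fin n) (R := F)).comp (φ : K →* Matrix (Fin n) (Fin n) F))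
  have hN₀ : ∀ t : Kˣ, t ∈ N₀.ker ↔ (φ (t : K)).det = 1 := by
    intro t
    rw [MonoidHom.mem_ker, Units.ext_iff]
    rfl
  obtain ⟨gen, hgen⟩ := IsCyclic.exists_generator (α := N₀.ker)
  have hgdet : (φ ((gen : Kˣ) : K)).det = 1 := (hN₀ _).1 gen.2
  refine ⟨⟨φ ((gen : Kˣ) : K), hgdet⟩, ?_⟩
  intro G hGo hPi hGdet
  set P := minpoly F (G : Matrix (Fin n) (Fin n) F) with hPdef
  have hint : IsIntegral F (G : Matrix (Fin n) (Fin n) F) := Algebra.IsIntegral.isIntegral _
  have hPm : P.Monic := minpoly.monic hint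
  have hss := Cfsg.Agent.H10.isSemisimple_of_coprime p G hGo
  obtain ⟨k, hk⟩ := charpoly_eq_pow _ hss hPi
  rw [← hPdef] at hk
  have hdeg : n = k * P.natDegree := by
    have h1 := Matrix.charpoly_natDegree_eq_dim (G : Matrix (Fin n) (Fin n) F)
    rw [hk, natDegree_pow, Fintype.card_fin] at h1
    exact h1.symm
  have hPd : 0 < P.natDegree := hPi.natDegree_pos
  -- a root in `K`
  haveI : Fact (Irreducible P) := ⟨hPi⟩
  let pb := AdjoinRoot.powerBasis hPi.ne_zero
  haveI : Module.Finite F (AdjoinRoot P) := pb.finite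
  have hfin : Module.finrank F (AdjoinRoot P) = P.natDegree := by
    rw [pb.finrank]
    exact AdjoinRoot.powerBasis_dim hPi.ne_zero
  haveI : Finite (AdjoinRoot P) := Module.finite_of_finite F
  obtain ⟨φ₀⟩ := FiniteField.nonempty_algHom_of_finrank_dvd (F := F) (K := AdjoinRoot P) (L := K) (by
    rw [hfin, hKf, hdeg]
    exact Dvd.intro_left k rfl)
  let t₀ : K := φ₀ (AdjoinRoot.root P)
  have ht₀ : aeval t₀ P = 0 := by
    have := Polynomial.aeval_algHom_apply φ₀ (AdjoinRoot.root P) P
    rw [AdjoinRoot.aeval_eq, AdjoinRoot.mk_self, map_zero] at this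
    exact this
  let τ := φ t₀
  have hτ : aeval τ P = 0 := by
    have := Polynomial.aeval_algHom_apply φ t₀ P
    rw [ht₀, map_zero] at this
    exact this
  have hτm : minpoly F τ = P := (minpoly.eq_of_irreducible_of_monic hPi hτ hPm).symm
  have ht0 : t₀ ≠ 0 := by
    intro h0
    have h1 : aeval (G : Matrix (Fin n) (Fin n) F) P = 0 := minpoly.aeval F _
    have h2 : P.coeff 0 = 0 := by
      have := Polynomial.coeff_zero_eq_aeval_zero' (A := K) P
      rw [← h0, ht₀] at this
      exact (map_eq_zero _).1 this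
    obtain ⟨g, hg⟩ := Polynomial.X_dvd_iff.2 h2
    have hg0 : g ≠ 0 := by
      rintro rfl
      rw [mul_zero] at hg
      exact hPi.ne_zero hg
    have h3 : aeval (G : Matrix (Fin n) (Fin n) F) g = 0 := by
      rw [hg, map_mul, aeval_X] at h1
      exact (Units.mul_right_eq_zero G).1 h1
    have h4 : P ∣ g := minpoly.dvd F _ h3
    have h5 := natDegree_le_of_dvd h4 hg0
    rw [hg, natDegree_X_mul hg0] at h5
    omega
  let t : Kˣ := Units.mk0 t₀ ht0
  let T : GL (Fin n) F := Units.map (φ : K →* Matrix (Fin n) (Fin n) F) t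
  have hTv : (T : Matrix (Fin n) (Fin n) F) = τ := rfl
  have hpF : p ∣ Fintype.card F := by
    have := (CharP.cast_eq_zero_iff F p (Fintype.card F)).1 (Nat.cast_card_eq_zero F)
    exact this
  have hTo : (orderOf T).Coprime p := by
    have h1 : T ^ (Fintype.card K - 1) = 1 := by
      have : t ^ (Fintype.card K - 1) = 1 := by
        apply Units.ext
        simp only [Units.val_pow_eq_pow_val, Units.val_one, t, Units.val_mk0]
        exact FiniteField.pow_card_sub_one_eq_one _ ht0
      change (Units.map (φ : K →* Matrix (Fin n) (Fin n) F)) t ^ _ = 1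
      rw [← map_pow, this, map_one]
    have h2 := orderOf_dvd_of_pow_eq_one h1
    apply Nat.Coprime.symm
    apply (Nat.Prime.coprime_iff_not_dvd (Fact.out : p.Prime)).2
    intro hd
    have h3 : p ∣ Fintype.card K := by
      rw [hKc]
      exact hpF.trans (dvd_pow_self _ (by omega))
    have h4 : p ∣ Fintype.card K - 1 := hd.trans h2
    have h5 : 1 ≤ Fintype.card K := Fintype.card_pos
    have h6 : p ∣ 1 := by
      have := Nat.dvd_sub h3 h4
      rwa [Nat.sub_sub_self h5] at this
    exact (Fact.out : p.Prime).one_lt.ne' (Nat.dvd_one.1 h6)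
  have hssT := Cfsg.Agent.H10.isSemisimple_of_coprime p T hTo
  have hPiT : Irreducible (minpoly F (T : Matrix (Fin n) (Fin n) F)) := by
    rw [hTv, hτm]
    exact hPi
  obtain ⟨k', hk'⟩ := charpoly_eq_pow _ hssT hPiT
  rw [hTv, hτm] at hk'
  have hdeg' : n = k' * P.natDegree := by
    have h1 := Matrix.charpoly_natDegree_eq_dim τ
    rw [hk', natDegree_pow, Fintype.card_fin] at h1
    exact h1.symm
  have hkk : k = k' := by
    have : k * P.natDegree = k' * P.natDegree := by omega
    exact Nat.eq_of_mul_eq_mul_right hPd this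
  have hcc : (G : Matrix (Fin n) (Fin n) F).charpoly = (T : Matrix (Fin n) (Fin n) F).charpoly := by
    rw [hk, hTv, hk', hkk]
  obtain ⟨c, hc⟩ := isConj_iff.1 (Cfsg.Agent.H10.isConj_of_charpoly_eq p G T hGo hTo hcc)
  have hTdet : τ.det = 1 := by
    rw [← hTv, ← hc, Units.val_mul, Units.val_mul, Matrix.det_units_conj]
    exact hGdet
  have htk : t ∈ N₀.ker := (hN₀ t).2 hTdet
  have hmem : (⟨t, htk⟩ : N₀.ker) ∈ Submonoid.powers gen := mem_powers_iff_mem_zpowers.2 (hgen _)
  obtain ⟨k₁, hk₁⟩ := hmem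
  have hk₂ : t₀ = ((gen : Kˣ) : K) ^ k₁ := by
    have h1 := congrArg (fun u : N₀.ker => (((u : Kˣ)) : K)) hk₁
    simp only [Subgroup.coe_pow, Units.val_pow_eq_pow_val] at h1
    exact h1.symm
  refine ⟨k₁, c⁻¹, ?_⟩
  have hT2 : (G : GL (Fin n) F) = c⁻¹ * T * c := by
    rw [← hc]
    group
  rw [hT2, inv_inv, Units.val_mul, Units.val_mul, hTv]
  simp only [τ]
  rw [hk₂, map_pow]

/-- dichotomy for `PSL_n` -/
theorem psl_dich {p a n r : ℕ} (hp : p.Prime) (ha : 1 ≤ a) (hF : Fintype.card F = p ^ a) (hn : 1 ≤ n)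
    (hr : r.Prime) (hrq : r ∣ Fintype.card F - 1) (hrn : ¬ r ∣ n) :
    ∃ w : PSLn n F, ∀ x : PSLn n F, ¬ r ∣ orderOf x →
      (∃ x' : PSLn n F, orderOf x' = orderOf x * r) ∨ BadO (PSLn n F) p (orderOf w) (orderOf x) := by
  classical
  haveI : Fact p.Prime := ⟨hp⟩
  haveI : CharP F p := charP_of_card hp ha hF
  haveI : Nonempty (Fin n) := ⟨⟨0, by omega⟩⟩
  obtain ⟨w₀, hw₀⟩ := torus_main (F := F) (p := p) hn
  refine ⟨piL n F w₀, ?_⟩
  intro x hx
  obtain ⟨g, rfl⟩ := QuotientGroup.mk'_surjective _ x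
  change ¬ r ∣ orderOf (piL n F g) at hx
  change (∃ x' : PSLn n F, orderOf x' = orderOf (piL n F g) * r) ∨ BadO (PSLn n F) p (orderOf (piL n F w₀)) (orderOf (piL n F g))
  set o := orderOf g with ho
  have ho0 : o ≠ 0 := (orderOf_pos g).ne'
  obtain ⟨l, o', ho', hoo⟩ := Nat.exists_eq_pow_mul_and_not_dvd ho0 p hp.ne_one
  have hcop : Nat.Coprime (p ^ l) o' := Nat.Coprime.pow_left l ((Nat.Prime.coprime_iff_not_dvd hp).2 ho')
  obtain ⟨α, hα₁, hα₂⟩ := Nat.chineseRemainder hcop 0 1
  have hαp : p ^ l ∣ α := (Nat.modEq_zero_iff_dvd).1 hα₁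
  have hαo : Nat.Coprime α o' := by
    have h1 := Nat.ModEq.gcd_eq hα₂
    rw [Nat.Coprime]
    rw [h1]
    simp
  let s : Matrix.SpecialLinearGroup (Fin n) F := g ^ α
  let σ : Matrix (Fin n) (Fin n) F := s
  have hσg : Commute (g : Matrix (Fin n) (Fin n) F) σ := by
    have : Commute g s := (Commute.refl g).pow_right α
    have h2 := congrArg (fun u : Matrix.SpecialLinearGroup (Fin n) F => (u : Matrix (Fin n) (Fin n) F)) this.eq
    exact h2
  have hso : s ^ o' = 1 := by
    change (g ^ α) ^ o' = 1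
    rw [← pow_mul, ← orderOf_dvd_iff_pow_eq_one, ← ho, hoo]
    exact Nat.mul_dvd_mul hαp dvd_rfl
  have hσo : σ ^ o' = 1 := by
    have := congrArg (fun u : Matrix.SpecialLinearGroup (Fin n) F => (u : Matrix (Fin n) (Fin n) F)) hso
    simpa using this
  have ho'0 : ((o' : ℕ) : F) ≠ 0 := by
    intro h0
    exact ho' ((CharP.cast_eq_zero_iff F p o').1 h0)
  have hsep : (X ^ o' - C (1 : F)).Separable := separable_X_pow_sub_C (1 : F) ho'0 one_ne_zero
  rw [C_1] at hsep
  set M := minpoly F σ with hM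
  have hint : IsIntegral F σ := Algebra.IsIntegral.isIntegral σ
  have hMd : M ∣ X ^ o' - 1 := by
    apply minpoly.dvd
    simp [hσo]
  have hMsep : M.Separable := hsep.of_dvd hMd
  have hMu : ¬ IsUnit M := minpoly.not_isUnit F σ
  rcases irreducible_or_factor hMu with hirr | ⟨f₁, f₂, hf₁, hf₂, hff⟩
  · -- semisimple part in the torus
    right
    set A := orderOf (piL n F g) with hA
    have hA0 : A ≠ 0 := (orderOf_pos _).ne'
    obtain ⟨a', b, hb, hAb⟩ := Nat.exists_eq_pow_mul_and_not_dvd hA0 p hp.ne_one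
    refine ⟨a', b, hAb, hb, ?_, ?_⟩
    · -- `b` divides the order of the torus
      let G : GL (Fin n) F := Matrix.SpecialLinearGroup.toGL s
      have hGv : (G : Matrix (Fin n) (Fin n) F) = σ := rfl
      have hGo : (orderOf G).Coprime p := by
        have h1 : G ^ o' = 1 := by
          change (Matrix.SpecialLinearGroup.toGL) s ^ o' = 1
          rw [← map_pow, hso, map_one]
        have h2 := orderOf_dvd_of_pow_eq_one h1
        apply Nat.Coprime.symm
        apply (Nat.Prime.coprime_iff_not_dvd hp).2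
        exact fun hd => ho' (hd.trans h2)
      obtain ⟨k, c, hc⟩ := hw₀ G hGo (by rw [hGv]; exact hirr) s.2
      set N := orderOf (piL n F w₀) with hN
      have h1 : piL n F (w₀ ^ N) = 1 := by
        rw [map_pow, hN, pow_orderOf_eq_one]
      obtain ⟨d, hd⟩ := (piL_eq_one_iff hn _).1 h1
      have hwN : (w₀ : Matrix (Fin n) (Fin n) F) ^ N = d • 1 := by
        have : ((w₀ ^ N : Matrix.SpecialLinearGroup (Fin n) F) : Matrix (Fin n) (Fin n) F) = (w₀ : Matrix (Fin n) (Fin n) F) ^ N := by simp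
        rw [← this, hd]
      have hsN : σ ^ N = d ^ k • 1 := by
        rw [← hGv, hc]
        have hcc : ((c⁻¹ : GL (Fin n) F) : Matrix (Fin n) (Fin n) F) * (c : Matrix (Fin n) (Fin n) F) = 1 := by
          rw [← Units.val_mul, inv_mul_cancel, Units.val_one]
        have hconj : ∀ j : ℕ, ((c : Matrix (Fin n) (Fin n) F) * (w₀ : Matrix (Fin n) (Fin n) F) ^ k * ((c⁻¹ : GL (Fin n) F) : Matrix (Fin n) (Fin n) F)) ^ j =
            (c : Matrix (Fin n) (Fin n) F) * ((w₀ : Matrix (Fin n) (Fin n) F) ^ k) ^ j * ((c⁻¹ : GL (Fin n) F) : Matrix (Fin n) (Fin n) F) := by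
          intro j
          induction j with
          | zero =>
            rw [pow_zero, pow_zero, mul_one, ← Units.val_mul, mul_inv_cancel, Units.val_one]
          | succ j ih =>
            rw [pow_succ, ih, pow_succ]
            calc (c : Matrix (Fin n) (Fin n) F) * ((w₀ : Matrix (Fin n) (Fin n) F) ^ k) ^ j * ((c⁻¹ : GL (Fin n) F) : Matrix (Fin n) (Fin n) F) * ((c : Matrix (Fin n) (Fin n) F) * (w₀ : Matrix (Fin n) (Fin n) F) ^ k * ((c⁻¹ : GL (Fin n) F) : Matrix (Fin n) (Fin n) F))
                = (c : Matrix (Fin n) (Fin n) F) * ((w₀ : Matrix (Fin n) (Fin n) F) ^ k) ^ j * (((c⁻¹ : GL (Fin n) F) : Matrix (Fin n) (Fin n) F) * (c : Matrix (Fin n) (Fin n) F)) * (w₀ : Matrix (Fin n) (Fin n) F) ^ k * ((c⁻¹ : GL (Fin n) F) : Matrix (Fin n) (Fin n) F) := by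
                  simp only [mul_assoc]
              _ = _ := by
                  rw [hcc, mul_one]
                  simp only [mul_assoc]
        rw [hconj, ← pow_mul, mul_comm k N, pow_mul, hwN, _root_.smul_pow, one_pow, mul_smul_comm, mul_one, smul_mul_assoc,
          ← Units.val_mul, mul_inv_cancel, Units.val_one]
      have h2 : piL n F (s ^ N) = 1 := by
        rw [piL_eq_one_iff hn]
        refine ⟨d ^ k, ?_⟩
        have : ((s ^ N : Matrix.SpecialLinearGroup (Fin n) F) : Matrix (Fin n) (Fin n) F) = σ ^ N := by simp [σ]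
        rw [this, hsN]
      have h3 : piL n F g ^ (α * N) = 1 := by
        rw [pow_mul, ← map_pow]
        rw [← map_pow]
        exact h2
      have h4 : A ∣ α * N := orderOf_dvd_of_pow_eq_one h3
      have h5 : b ∣ α * N := (Dvd.intro_left _ hAb.symm).trans h4
      have h6 : b ∣ o' := by
        have h7 : A ∣ o := by
          apply orderOf_dvd_of_pow_eq_one
          rw [← map_pow, ho, pow_orderOf_eq_one, map_one]
        have h8 : b ∣ p ^ l * o' := by
          rw [← hoo]
          exact (Dvd.intro_left _ hAb.symm).trans h7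
        exact (Nat.Coprime.pow_right l (Nat.Coprime.symm ((Nat.Prime.coprime_iff_not_dvd hp).2 hb))).dvd_of_dvd_mul_left h8
      have h7 : Nat.Coprime b α := Nat.Coprime.symm (Nat.Coprime.coprime_dvd_right h6 hαo)
      exact h7.dvd_of_dvd_mul_left h5
    · exact exists_order_of_dvd _ (Dvd.intro _ hAb.symm)
  · -- decomposable
    left
    have hMa : aeval σ M = 0 := minpoly.aeval F σ
    have hM0 : M ≠ 0 := minpoly.ne_zero hint
    have hco : IsCoprime f₁ f₂ := by
      rw [hff] at hMsep
      exact hMsep.isCoprime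
    obtain ⟨u, v, huv⟩ := hco
    let e₁ : Matrix (Fin n) (Fin n) F := aeval σ (v * f₂)
    let e₂ : Matrix (Fin n) (Fin n) F := aeval σ (u * f₁)
    have he : e₁ + e₂ = 1 := by
      simp only [e₁, e₂]
      rw [← map_add, add_comm, huv, map_one]
    have hee : e₁ * e₂ = 0 := by
      simp only [e₁, e₂]
      rw [← map_mul]
      have : v * f₂ * (u * f₁) = (v * u) * M := by
        rw [hff]
        ring
      rw [this, map_mul, hMa, mul_zero]
    have h10 : e₁ ≠ 0 := by
      intro h0
      have h1 : M ∣ v * f₂ := minpoly.dvd F _ h0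
      rw [hff] at h1
      have hf20 : f₂ ≠ 0 := by
        rintro rfl
        rw [mul_zero] at hff
        exact hM0 hff
      have h2 : f₁ ∣ v := by
        rw [mul_comm v f₂, mul_comm f₁ f₂] at h1
        exact (mul_dvd_mul_iff_left hf20).1 h1
      have h3 : f₁ ∣ 1 := by
        rw [← huv]
        exact dvd_add (Dvd.intro_left _ rfl) (h2.mul_right _)
      exact hf₁ (isUnit_of_dvd_one h3)
    have h20 : e₂ ≠ 0 := by
      intro h0
      have h1 : M ∣ u * f₁ := minpoly.dvd F _ h0
      rw [hff] at h1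
      have hf10 : f₁ ≠ 0 := by
        rintro rfl
        rw [zero_mul] at hff
        exact hM0 hff
      have h2 : f₂ ∣ u := by
        rw [mul_comm u f₁] at h1
        exact (mul_dvd_mul_iff_left hf10).1 h1
      have h3 : f₂ ∣ 1 := by
        rw [← huv]
        exact dvd_add (h2.mul_right _) (Dvd.intro_left _ rfl)
      exact hf₂ (isUnit_of_dvd_one h3)
    exact mul_r_of_idem hn hr hrq hrn g e₁ e₂ he hee h10 h20 (aeval_commute_of hσg _) hx

end Cfsg.Agent.H11.Spec
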