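import Cfsg.Agent.Lib.H11.Spec5

/-! A Jordan block of size `D` plus a fixed space, and the statement for `PSL_n`. -/

set_option autoImplicit false
set_option linter.unusedSectionVars false
set_option linter.unusedVariables false

namespace Cfsg.Agent.H11.Spec

open Polynomial Matrix Module

variable {F : Type*} [Field F] [Fintype F]

/-- the shift on the first `D` coordinates -/
def shD (n D : ℕ) (F : Type*) [Field F] : Matrix (Fin n) (Fin n) F :=
  fun i j => if (j : ℕ) = i + 1 ∧ (j : ℕ) < D then 1 else 0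

theorem shD_pow (n D k : ℕ) (i j : Fin n) :
    ((shD n D F) ^ k) i j = if (j : ℕ) = i + k ∧ ((j : ℕ) < D ∨ k = 0) then 1 else 0 := by
  induction k generalizing j with
  | zero =>
    simp only [pow_zero, Matrix.one_apply, add_zero, or_true, and_true]
    by_cases h : i = j
    · simp [h]
    · have : ¬ (j : ℕ) = i := fun e => h (Fin.ext e.symm)
      simp [h, this]
  | succ k ih =>
    rw [pow_succ, Matrix.mul_apply]
    by_cases h : (j : ℕ) = i + (k + 1) ∧ ((j : ℕ) < D ∨ k + 1 = 0)
    · have hjD : (j : ℕ) < D := by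
        rcases h.2 with h2 | h2
        · exact h2
        · omega
      rw [if_pos h]
      have hl : (i : ℕ) + k < n := by
        have := j.2
        omega
      rw [Finset.sum_eq_single (⟨(i : ℕ) + k, hl⟩ : Fin n)]
      · rw [ih]
        have h1 : (j : ℕ) = (i : ℕ) + k + 1 := by omega
        have e1 : (i : ℕ) + k < D ∨ k = 0 := Or.inl (by omega)
        rw [if_pos ⟨rfl, e1⟩, one_mul]
        simp only [shD]
        rw [if_pos ⟨h1, hjD⟩]
      · intro b _ hb
        rw [ih]
        have hb' : ¬ ((b : ℕ) = i + k ∧ ((b : ℕ) < D ∨ k = 0)) := by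
          rintro ⟨h1, -⟩
          exact hb (Fin.ext h1)
        rw [if_neg hb', zero_mul]
      · intro h
        exact absurd (Finset.mem_univ _) h
    · rw [if_neg h]
      apply Finset.sum_eq_zero
      intro b _
      rw [ih]
      by_cases h1 : (b : ℕ) = i + k ∧ ((b : ℕ) < D ∨ k = 0)
      · rw [if_pos h1, one_mul]
        simp only [shD]
        rw [if_neg]
        rintro ⟨h2, h3⟩
        apply h
        exact ⟨by omega, Or.inl h3⟩
      · rw [if_neg h1, zero_mul]

/-- Elements of order `p^t * r` when `p^(t-1) + 1 < n`. -/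
theorem exists_pr {p n t r : ℕ} (hp : p.Prime) [CharP F p] (hn : 2 ≤ n) (ht : 1 ≤ t)
    (hD : p ^ (t - 1) + 1 < n) (hr : r.Prime) (hrq : r ∣ Fintype.card F - 1) (hrn : ¬ r ∣ n) (hrp : r ≠ p) :
    ∃ x : PSLn n F, orderOf x = p ^ t * r := by
  classical
  haveI : Fact p.Prime := ⟨hp⟩
  have hn1 : 1 ≤ n := by omega
  haveI : Nonempty (Fin n) := ⟨⟨0, by omega⟩⟩
  set D := p ^ (t - 1) + 1 with hDdef
  let N := shD n D F
  let u : Matrix (Fin n) (Fin n) F := 1 + N
  have hpos : 1 ≤ p ^ (t - 1) := Nat.one_le_pow _ _ hp.pos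
  have hdet : u.det = 1 := by
    have hb : u.BlockTriangular id := by
      intro i j hij
      simp only [id] at hij
      simp only [u, N, Matrix.add_apply, shD]
      have h1 : (1 : Matrix (Fin n) (Fin n) F) i j = 0 := Matrix.one_apply_ne (fun e => by
        rw [e] at hij
        exact lt_irrefl _ hij)
      rw [h1, zero_add, if_neg]
      rintro ⟨h2, -⟩
      have : (j : ℕ) < i := hij
      omega
    rw [Matrix.det_of_upperTriangular hb]
    apply Finset.prod_eq_one
    intro i _
    simp [u, N, shD]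
  have hpt : p ^ t = p * p ^ (t - 1) := by
    rw [← pow_succ']
    congr 1
    omega
  have hptD : D ≤ p ^ t := by
    rw [hpt, hDdef]
    have := hp.two_le
    nlinarith
  have hNt : N ^ p ^ t = 0 := by
    ext i j
    rw [shD_pow]
    rw [if_neg]
    · rfl
    · rintro ⟨h1, h2⟩
      rcases h2 with h2 | h2
      · omega
      · exact (pow_ne_zero t hp.ne_zero) h2
  have hNs : N ^ p ^ (t - 1) ≠ 0 := by
    intro h0
    have h1 := congrFun (congrFun h0 ⟨0, by omega⟩) ⟨p ^ (t - 1), by omega⟩
    rw [shD_pow] at h1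
    simp at h1
    omega
  have hadd : ∀ k : ℕ, u ^ p ^ k = 1 + N ^ p ^ k := by
    intro k
    have := add_pow_char_pow_of_commute (p := p) (n := k) (x := (1 : Matrix (Fin n) (Fin n) F)) (y := N) (Commute.one_left N)
    simp only [u]
    rw [this, one_pow]
  let U : Matrix.SpecialLinearGroup (Fin n) F := ⟨u, hdet⟩
  have hUpow : ∀ k : ℕ, ((U ^ k : Matrix.SpecialLinearGroup (Fin n) F) : Matrix (Fin n) (Fin n) F) = u ^ k := fun k => by
    rw [Matrix.SpecialLinearGroup.coe_pow]
  have hU1 : piL n F U ^ p ^ t = 1 := by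
    rw [← map_pow]
    have : U ^ p ^ t = 1 := by
      apply Subtype.ext
      rw [hUpow, hadd, hNt, add_zero]
      rfl
    rw [this, map_one]
  have hU2 : piL n F U ^ p ^ (t - 1) ≠ 1 := by
    rw [← map_pow]
    intro h0
    obtain ⟨c, hc⟩ := (piL_eq_one_iff hn1 _).1 h0
    rw [hUpow, hadd] at hc
    have h1 := congrFun (congrFun hc ⟨0, by omega⟩) ⟨0, by omega⟩
    have h2 : (N ^ p ^ (t - 1)) (⟨0, by omega⟩ : Fin n) ⟨0, by omega⟩ = 0 := by
      rw [shD_pow, if_neg]
      rintro ⟨h3, -⟩
      simp at h3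
      omega
    simp only [Matrix.add_apply, h2, Matrix.smul_apply, Matrix.one_apply_eq, add_zero, smul_eq_mul, mul_one] at h1
    apply hNs
    have h3 : 1 + N ^ p ^ (t - 1) = 1 := by
      rw [hc, ← h1, one_smul]
    simpa using h3
  have hUo : orderOf (piL n F U) = p ^ t := by
    have ht' : t = (t - 1) + 1 := by omega
    have := orderOf_eq_prime_pow (p := p) (n := t - 1) hU2 (by rw [← ht']; exact hU1)
    rw [this, ← ht']
  -- the idempotents
  let d : Fin n → F := fun i => if (i : ℕ) < D then 1 else 0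
  let e₁ : Matrix (Fin n) (Fin n) F := Matrix.diagonal d
  let e₂ : Matrix (Fin n) (Fin n) F := Matrix.diagonal (fun i => 1 - d i)
  have he : e₁ + e₂ = 1 := by
    simp only [e₁, e₂]
    rw [Matrix.diagonal_add, ← Matrix.diagonal_one]
    congr 1
    funext i
    simp
  have hee : e₁ * e₂ = 0 := by
    simp only [e₁, e₂]
    rw [Matrix.diagonal_mul_diagonal, ← Matrix.diagonal_zero]
    congr 1
    funext i
    simp only [d]
    split_ifs <;> simp
  have h10 : e₁ ≠ 0 := by
    intro h0
    have h1 : e₁ (⟨0, by omega⟩ : Fin n) ⟨0, by omega⟩ = 0 := congrFun (congrFun h0 _) _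
    simp only [e₁, Matrix.diagonal_apply_eq, d] at h1
    rw [if_pos (show 0 < D by omega)] at h1
    exact one_ne_zero h1
  have h20 : e₂ ≠ 0 := by
    intro h0
    have h1 : e₂ (⟨D, hD⟩ : Fin n) ⟨D, hD⟩ = 0 := congrFun (congrFun h0 _) _
    simp only [e₂, Matrix.diagonal_apply_eq, d] at h1
    rw [if_neg (show ¬ D < D from lt_irrefl D)] at h1
    simp at h1
  have hc1 : (U : Matrix (Fin n) (Fin n) F) * e₁ = e₁ * (U : Matrix (Fin n) (Fin n) F) := by
    change (1 + N) * e₁ = e₁ * (1 + N)
    rw [add_mul, mul_add, one_mul, mul_one]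
    congr 1
    ext i j
    simp only [e₁, Matrix.mul_diagonal, Matrix.diagonal_mul, N, shD, d]
    by_cases h : (j : ℕ) = i + 1 ∧ (j : ℕ) < D
    · have h3 : (i : ℕ) < D := by omega
      simp [h, h3]
    · simp [h]
  have hx : ¬ r ∣ orderOf (piL n F U) := by
    rw [hUo]
    intro h
    exact hrp ((Nat.prime_dvd_prime_iff_eq hr hp).1 (hr.dvd_of_dvd_pow h))
  obtain ⟨x', hx'⟩ := mul_r_of_idem hn1 hr hrq hrn U e₁ e₂ he hee h10 h20 hc1 hx
  exact ⟨x', by rw [hx', hUo]⟩

/-- the statement for `PSL_n` -/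
theorem psl_spec {p a n r m : ℕ} (hp : p.Prime) (ha : 1 ≤ a) (hF : Fintype.card F = p ^ a)
    (hn : 2 ≤ n) (hr : r.Prime) (hrq : r ∣ Fintype.card F - 1) (hrn : ¬ r ∣ n) :
    Set.range (orderOf : PSLn n F × PSLn n F × PSLn n F × Multiplicative (Fin m → ZMod r) → ℕ) =
      Set.range (orderOf : PSLn n F × PSLn n F × PSLn n F → ℕ) ∧
    ((¬ ∃ j : ℕ, n - 1 = p ^ j) →
      Set.range (orderOf : PSLn n F × PSLn n F × Multiplicative (Fin m → ZMod r) → ℕ) =
        Set.range (orderOf : PSLn n F × PSLn n F → ℕ)) := by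
  classical
  haveI : CharP F p := charP_of_card hp ha hF
  have hrp : r ≠ p := by
    rintro rfl
    have h1 : r ∣ Fintype.card F := by
      rw [hF]
      exact dvd_pow_self _ (by omega)
    have h5 : 1 ≤ Fintype.card F := Fintype.card_pos
    have h6 : r ∣ 1 := by
      have := Nat.dvd_sub h1 hrq
      rwa [Nat.sub_sub_self h5] at this
    exact hr.one_lt.ne' (Nat.dvd_one.1 h6)
  obtain ⟨w, hw⟩ := psl_dich hp ha hF (by omega) hr hrq hrn
  have hz := exists_order_r (F := F) hn hr hrq hrn
  constructor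
  · exact spec_three_of_core hr mult_zmod_pow (core_three hp hr hrp.symm w hz hw)
  · intro hj
    refine spec_two_of_core hr mult_zmod_pow (core_two hp hr hrp.symm w hz hw ?_)
    intro t ht ⟨x, hx⟩
    have h1 := p_lt_of_order (a := a) hp (by omega) ht x hx
    have h2 : p ^ (t - 1) + 1 ≠ n := by
      intro h3
      exact hj ⟨t - 1, by omega⟩
    exact exists_pr hp hn ht (by omega) hr hrq hrn hrp

end Cfsg.Agent.H11.Spec
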