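import Cfsg.Agent.Lib.H11.Spec6
import Cfsg.Agent.Lib.H11.GUC5

/-! Dual polynomials and the dichotomy for unitary elements. -/

set_option autoImplicit false
set_option linter.unusedSectionVars false
set_option linter.unusedVariables false

namespace Cfsg.Agent.H11.Spec

open Polynomial Matrix Module Cfsg.Agent.H11.GUC

variable {F : Type*} [Field F] [Fintype F] (ρ : F →+* F)

/-- the dual polynomial -/
noncomputable def dag (f : F[X]) : F[X] := C (ρ (f.coeff 0))⁻¹ * (f.map ρ).reverse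

/-- monic with nonzero constant term -/
def GoodP (f : F[X]) : Prop := f.Monic ∧ f.coeff 0 ≠ 0

variable {ρ}

theorem trailing_map {f : F[X]} (hf : f.coeff 0 ≠ 0) : (f.map ρ).trailingCoeff = ρ (f.coeff 0) := by
  have h : (f.map ρ).coeff 0 ≠ 0 := by
    rw [coeff_map]
    exact (map_ne_zero ρ).2 hf
  have h1 : (f.map ρ).natTrailingDegree = 0 := natTrailingDegree_eq_zero.2 (Or.inr h)
  rw [trailingCoeff, h1, coeff_map]

theorem natTrail_map {f : F[X]} (hf : f.coeff 0 ≠ 0) : (f.map ρ).natTrailingDegree = 0 := by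
  have h : (f.map ρ).coeff 0 ≠ 0 := by
    rw [coeff_map]
    exact (map_ne_zero ρ).2 hf
  exact natTrailingDegree_eq_zero.2 (Or.inr h)

theorem dag_monic {f : F[X]} (hf : GoodP f) : (dag ρ f).Monic := by
  have h0 : ρ (f.coeff 0) ≠ 0 := (map_ne_zero ρ).2 hf.2
  unfold dag Monic
  rw [leadingCoeff_mul, leadingCoeff_C, reverse_leadingCoeff, trailing_map hf.2, inv_mul_cancel₀ h0]

theorem dag_coeff {f : F[X]} (hf : GoodP f) : (dag ρ f).coeff 0 ≠ 0 := by
  have h0 : ρ (f.coeff 0) ≠ 0 := (map_ne_zero ρ).2 hf.2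
  unfold dag
  rw [mul_coeff_zero, coeff_C_zero, coeff_zero_reverse, (hf.1.map ρ).leadingCoeff, mul_one]
  exact inv_ne_zero h0

theorem dag_good {f : F[X]} (hf : GoodP f) : GoodP (dag ρ f) := ⟨dag_monic hf, dag_coeff hf⟩

theorem dag_natDegree {f : F[X]} (hf : GoodP f) : (dag ρ f).natDegree = f.natDegree := by
  have h0 : ρ (f.coeff 0) ≠ 0 := (map_ne_zero ρ).2 hf.2
  unfold dag
  rw [natDegree_C_mul (inv_ne_zero h0), reverse_natDegree, natTrail_map hf.2, natDegree_map, Nat.sub_zero]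

theorem dag_mul (f g : F[X]) : dag ρ (f * g) = dag ρ f * dag ρ g := by
  unfold dag
  rw [Polynomial.map_mul, reverse_mul_of_domain, mul_coeff_zero, map_mul, mul_inv, C_mul]
  ring

theorem good_mul {f g : F[X]} (hf : GoodP f) (hg : GoodP g) : GoodP (f * g) :=
  ⟨hf.1.mul hg.1, by
    rw [mul_coeff_zero]
    exact mul_ne_zero hf.2 hg.2⟩

theorem good_of_dvd {f g : F[X]} (hg : GoodP g) (hf : f.Monic) (hd : f ∣ g) : GoodP f := by
  refine ⟨hf, fun h0 => hg.2 ?_⟩
  obtain ⟨k, hk⟩ := hd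
  rw [hk, mul_coeff_zero, h0, zero_mul]

theorem rev_rev {f : F[X]} (hf : f.coeff 0 ≠ 0) : f.reverse.reverse = f := by
  have h1 : f.natTrailingDegree = 0 := natTrailingDegree_eq_zero.2 (Or.inr hf)
  unfold reverse
  have h2 : (reflect f.natDegree f).natDegree = f.natDegree := by
    have := reverse_natDegree f
    rw [h1, Nat.sub_zero] at this
    exact this
  rw [h2, reflect_reflect]

theorem rev_map (f : F[X]) : f.reverse.map ρ = (f.map ρ).reverse := by
  unfold reverse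
  rw [reflect_map, natDegree_map]

theorem dag_dag (hρ : ∀ x, ρ (ρ x) = x) {f : F[X]} (hf : GoodP f) : dag ρ (dag ρ f) = f := by
  have h0 : ρ (f.coeff 0) ≠ 0 := (map_ne_zero ρ).2 hf.2
  have hcomp : ρ.comp ρ = RingHom.id F := by
    ext x
    exact hρ x
  have hmap : (f.map ρ).map ρ = f := by
    rw [Polynomial.map_map, hcomp, Polynomial.map_id]
  have h2 : (dag ρ f).coeff 0 = (ρ (f.coeff 0))⁻¹ := by
    unfold dag
    rw [mul_coeff_zero, coeff_C_zero, coeff_zero_reverse, (hf.1.map ρ).leadingCoeff, mul_one]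
  have hc : (map ρ (f.map ρ).reverse) = f.reverse := by
    rw [rev_map, hmap]
  have h4 : (ρ ((dag ρ f).coeff 0))⁻¹ = f.coeff 0 := by
    rw [h2, map_inv₀, hρ, inv_inv]
  have h3 : (dag ρ f).map ρ = C (f.coeff 0)⁻¹ * f.reverse := by
    unfold dag
    rw [Polynomial.map_mul, Polynomial.map_C, map_inv₀, hρ, hc]
  conv_lhs => rw [dag, h4]
  rw [h3, reverse_mul_of_domain, reverse_C, rev_rev hf.2, ← mul_assoc, ← C_mul, mul_inv_cancel₀ hf.2, C_1, one_mul]

theorem dag_irreducible (hρ : ∀ x, ρ (ρ x) = x) {P : F[X]} (hP : Irreducible P) (hg : GoodP P) : Irreducible (dag ρ P) := by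
  rw [(dag_monic hg).irreducible_iff_natDegree]
  have hPi := (hg.1.irreducible_iff_natDegree).1 hP
  refine ⟨?_, ?_⟩
  · intro h1
    apply hPi.1
    have h2 := dag_dag hρ hg
    rw [h1] at h2
    rw [← h2]
    have e : (reverse (1 : F[X])) = 1 := by rw [← C_1, reverse_C]
    unfold dag
    simp [e]
  · intro a b ha hb hab
    have hga : GoodP a := good_of_dvd (dag_good hg) ha (Dvd.intro _ hab)
    have hgb : GoodP b := good_of_dvd (dag_good hg) hb (Dvd.intro_left _ hab)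
    have h1 : P = dag ρ a * dag ρ b := by
      rw [← dag_mul, hab, dag_dag hρ hg]
    rcases hPi.2 (dag ρ a) (dag ρ b) (dag_monic hga) (dag_monic hgb) h1.symm with h2 | h2
    · left
      rwa [dag_natDegree hga] at h2
    · right
      rwa [dag_natDegree hgb] at h2

section aeval

variable {A : Type*} [Ring A] [Algebra F A]

theorem aeval_reflect (s t : A) (hst : s * t = 1) (hts : t * s = 1) (N : ℕ) (h : F[X]) (hd : h.natDegree ≤ N) :
    aeval s (reflect N h) = s ^ N * aeval t h := by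
  have hpow : ∀ i, i ≤ N → s ^ (N - i) = s ^ N * t ^ i := by
    intro i hi
    induction i with
    | zero => simp
    | succ i ih =>
      rw [pow_succ, ← mul_assoc, ← ih (by omega)]
      have : N - i = (N - (i + 1)) + 1 := by omega
      rw [this, pow_succ, mul_assoc, hst, mul_one]
  rw [h.as_sum_range_C_mul_X_pow' (Nat.lt_succ_of_le hd)]
  have hadd : ∀ (S : Finset ℕ) (g : ℕ → F[X]), reflect N (∑ i ∈ S, g i) = ∑ i ∈ S, reflect N (g i) := by
    intro S g
    induction S using Finset.induction_on with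
    | empty => simp
    | insert a S ha ih => rw [Finset.sum_insert ha, Finset.sum_insert ha, reflect_add, ih]
  rw [hadd, map_sum, map_sum, Finset.mul_sum]
  apply Finset.sum_congr rfl
  intro i hi
  have hiN : i ≤ N := Nat.lt_succ_iff.1 (Finset.mem_range.1 hi)
  rw [reflect_C_mul_X_pow, revAt_le hiN, map_mul, map_mul, map_pow, map_pow, aeval_X, aeval_X, aeval_C, aeval_C,
    hpow i hiN, ← mul_assoc, ← mul_assoc, Algebra.commutes]

theorem aeval_reverse (s t : A) (hst : s * t = 1) (hts : t * s = 1) (h : F[X]) :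
    aeval s h.reverse = s ^ h.natDegree * aeval t h :=
  aeval_reflect s t hst hts _ h le_rfl

end aeval

section matrices

variable {n : ℕ}

abbrev MM (n : ℕ) (F : Type*) [Field F] := Matrix (Fin n) (Fin n) F

theorem dag_expr (hρ : ∀ x, ρ (ρ x) = x) (σ : MM n F) (hσ : dg ρ σ * σ = 1) (f : F[X]) :
    aeval σ (dag ρ f) = (ρ (f.coeff 0))⁻¹ • (σ ^ f.natDegree * dg ρ (aeval σ f)) := by
  have hσ' : σ * dg ρ σ = 1 := mul_eq_one_comm.1 hσ
  unfold dag
  rw [map_mul, aeval_C, Algebra.algebraMap_eq_smul_one, smul_mul_assoc, one_mul, aeval_reverse σ (dg ρ σ) hσ' hσ, dg_aeval, natDegree_map]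

theorem aeval_dag (hρ : ∀ x, ρ (ρ x) = x) (σ : MM n F) (hσ : dg ρ σ * σ = 1) {f : F[X]} (h : aeval σ f = 0) :
    aeval σ (dag ρ f) = 0 := by
  rw [dag_expr hρ σ hσ, h]
  have : dg ρ (0 : MM n F) = 0 := by
    ext i j
    simp [dg]
  rw [this, mul_zero, smul_zero]

/-- the self-adjoint idempotents attached to a coprime self-dual factorisation -/
theorem idem_of_factor (hρ : ∀ x, ρ (ρ x) = x) (σ : MM n F) (hσ : dg ρ σ * σ = 1) (f₁ f₂ : F[X]) (h₁ : GoodP f₁) (h₂ : GoodP f₂)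
    (hd₁ : dag ρ f₁ = f₁) (hd₂ : dag ρ f₂ = f₂) (hM : minpoly F σ = f₁ * f₂) (hco : IsCoprime f₁ f₂)
    (hu₁ : ¬ IsUnit f₁) (hu₂ : ¬ IsUnit f₂) :
    ∃ e₁ e₂ : MM n F, e₁ + e₂ = 1 ∧ e₁ * e₂ = 0 ∧ e₁ ≠ 0 ∧ e₂ ≠ 0 ∧ dg ρ e₁ = e₁ ∧ dg ρ e₂ = e₂ ∧
      ∀ g : MM n F, Commute g σ → Commute g e₁ := by
  classical
  obtain ⟨u, v, huv⟩ := hco
  have hint : IsIntegral F σ := Algebra.IsIntegral.isIntegral σ
  have hMa : aeval σ (f₁ * f₂) = 0 := by
    rw [← hM]
    exact minpoly.aeval F σ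
  have hM0 : f₁ * f₂ ≠ 0 := by
    rw [← hM]
    exact minpoly.ne_zero hint
  let e₁ : MM n F := aeval σ (v * f₂)
  let e₂ : MM n F := aeval σ (u * f₁)
  have he : e₁ + e₂ = 1 := by
    simp only [e₁, e₂]
    rw [← map_add, add_comm, huv, map_one]
  have hee : e₁ * e₂ = 0 := by
    simp only [e₁, e₂]
    rw [← map_mul]
    have : v * f₂ * (u * f₁) = (v * u) * (f₁ * f₂) := by ring
    rw [this, map_mul, hMa, mul_zero]
  have h10 : e₁ ≠ 0 := by
    intro h0
    have h1 : minpoly F σ ∣ v * f₂ := minpoly.dvd F _ h0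
    rw [hM] at h1
    have hf20 : f₂ ≠ 0 := h₂.1.ne_zero
    have h2 : f₁ ∣ v := by
      rw [mul_comm v f₂, mul_comm f₁ f₂] at h1
      exact (mul_dvd_mul_iff_left hf20).1 h1
    have h3 : f₁ ∣ 1 := by
      rw [← huv]
      exact dvd_add (Dvd.intro_left _ rfl) (h2.mul_right _)
    exact hu₁ (isUnit_of_dvd_one h3)
  have h20 : e₂ ≠ 0 := by
    intro h0
    have h1 : minpoly F σ ∣ u * f₁ := minpoly.dvd F _ h0
    rw [hM] at h1
    have hf10 : f₁ ≠ 0 := h₁.1.ne_zero
    have h2 : f₂ ∣ u := by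
      rw [mul_comm u f₁] at h1
      exact (mul_dvd_mul_iff_left hf10).1 h1
    have h3 : f₂ ∣ 1 := by
      rw [← huv]
      exact dvd_add (h2.mul_right _) (Dvd.intro_left _ rfl)
    exact hu₂ (isUnit_of_dvd_one h3)
  -- the adjoints
  have hdgadd : ∀ a b : MM n F, dg ρ (a + b) = dg ρ a + dg ρ b := dg_add ρ
  have hEE : dg ρ e₁ + dg ρ e₂ = 1 := by
    rw [← hdgadd, he, dg_one]
  have hzero : dg ρ (0 : MM n F) = 0 := by
    ext i j
    simp [dg]
  have key2 : ∀ f : F[X], dag ρ f = f → ∀ X : MM n F, X * aeval σ f = 0 → aeval σ f * dg ρ X = 0 := by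
    intro f hf X hX
    have h1 : aeval σ f = (ρ (f.coeff 0))⁻¹ • (σ ^ f.natDegree * dg ρ (aeval σ f)) := by
      conv_lhs => rw [← hf]
      exact dag_expr hρ σ hσ f
    have h2 : dg ρ (aeval σ f) * dg ρ X = 0 := by
      rw [← dg_mul, hX, hzero]
    rw [h1, smul_mul_assoc, mul_assoc, h2, mul_zero, smul_zero]
  have hf₁E₁ : aeval σ f₁ * dg ρ e₁ = 0 := by
    apply key2 f₁ hd₁
    simp only [e₁]
    rw [← map_mul]
    have : v * f₂ * f₁ = v * (f₁ * f₂) := by ring
    rw [this, map_mul, hMa, mul_zero]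
  have hf₂E₂ : aeval σ f₂ * dg ρ e₂ = 0 := by
    apply key2 f₂ hd₂
    simp only [e₂]
    rw [← map_mul]
    have : u * f₁ * f₂ = u * (f₁ * f₂) := by ring
    rw [this, map_mul, hMa, mul_zero]
  have h1 : e₁ * dg ρ e₂ = 0 := by
    simp only [e₁]
    rw [map_mul, mul_assoc, hf₂E₂, mul_zero]
  have h2 : e₂ * dg ρ e₁ = 0 := by
    simp only [e₂]
    rw [map_mul, mul_assoc, hf₁E₁, mul_zero]
  have hE₁ : dg ρ e₁ = e₁ := by
    calc dg ρ e₁ = (e₁ + e₂) * dg ρ e₁ := by rw [he, one_mul]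
      _ = e₁ * dg ρ e₁ := by rw [add_mul, h2, add_zero]
      _ = e₁ * (dg ρ e₁ + dg ρ e₂) := by rw [mul_add, h1, add_zero]
      _ = e₁ := by rw [hEE, mul_one]
  have hE₂ : dg ρ e₂ = e₂ := by
    calc dg ρ e₂ = (e₁ + e₂) * dg ρ e₂ := by rw [he, one_mul]
      _ = e₂ * dg ρ e₂ := by rw [add_mul, h1, zero_add]
      _ = e₂ * (dg ρ e₁ + dg ρ e₂) := by rw [mul_add, h2, zero_add]
      _ = e₂ := by rw [hEE, mul_one]
  refine ⟨e₁, e₂, he, hee, h10, h20, hE₁, hE₂, ?_⟩
  intro g hg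
  exact aeval_commute_of hg _

/-- dichotomy for a semisimple unitary element -/
theorem unitary_dich (hρ : ∀ x, ρ (ρ x) = x) (hn : 1 ≤ n) (σ : MM n F) (hσ : dg ρ σ * σ = 1) (hsep : (minpoly F σ).Separable) :
    (∃ e₁ e₂ : MM n F, e₁ + e₂ = 1 ∧ e₁ * e₂ = 0 ∧ e₁ ≠ 0 ∧ e₂ ≠ 0 ∧ dg ρ e₁ = e₁ ∧ dg ρ e₂ = e₂ ∧
      ∀ g : MM n F, Commute g σ → Commute g e₁) ∨
    (∃ P : F[X], Irreducible P ∧ GoodP P ∧ dag ρ P = P ∧ minpoly F σ = P) ∨
    (∃ P : F[X], Irreducible P ∧ GoodP P ∧ dag ρ P ≠ P ∧ minpoly F σ = P * dag ρ P) := by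
  classical
  haveI : Nonempty (Fin n) := ⟨⟨0, by omega⟩⟩
  have hint : IsIntegral F σ := Algebra.IsIntegral.isIntegral σ
  set M := minpoly F σ with hMdef
  have hMm : M.Monic := minpoly.monic hint
  have hMa : aeval σ M = 0 := minpoly.aeval F σ
  have hσ' : σ * dg ρ σ = 1 := mul_eq_one_comm.1 hσ
  have hM0 : M.coeff 0 ≠ 0 := by
    intro h0
    obtain ⟨g, hg⟩ := Polynomial.X_dvd_iff.2 h0
    have hg0 : g ≠ 0 := by
      rintro rfl
      rw [mul_zero] at hg
      exact hMm.ne_zero hg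
    have h3 : aeval σ g = 0 := by
      rw [hg, map_mul, aeval_X] at hMa
      have := congrArg (fun m => dg ρ σ * m) hMa
      simpa only [← mul_assoc, hσ, one_mul, mul_zero] using this
    have h4 : M ∣ g := minpoly.dvd F _ h3
    have h5 := natDegree_le_of_dvd h4 hg0
    rw [hg, natDegree_X_mul hg0] at h5
    omega
  have hMg : GoodP M := ⟨hMm, hM0⟩
  have hdM : dag ρ M = M := by
    have h1 : M ∣ dag ρ M := minpoly.dvd F _ (aeval_dag hρ σ hσ hMa)
    exact (eq_of_monic_of_dvd_of_natDegree_le hMm (dag_monic hMg) h1 (dag_natDegree hMg).le)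
  have hMu : ¬ IsUnit M := minpoly.not_isUnit F σ
  obtain ⟨P, hPm, hPi, hPd⟩ := Cfsg.Agent.H10.exists_monic_irreducible_dvd hMm.ne_zero (minpoly.natDegree_pos hint).ne'
  obtain ⟨Q, hQ⟩ := hPd
  have hQm : Q.Monic := hPm.of_mul_monic_left (hQ ▸ hMm)
  have hPg : GoodP P := good_of_dvd hMg hPm (Dvd.intro _ hQ.symm)
  have hQg : GoodP Q := good_of_dvd hMg hQm (Dvd.intro_left _ hQ.symm)
  have hdMf : dag ρ P * dag ρ Q = P * Q := by
    rw [← dag_mul, ← hQ, hdM]
  by_cases hPP : dag ρ P = P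
  · have hdQ : dag ρ Q = Q := by
      rw [hPP] at hdMf
      exact mul_left_cancel₀ hPm.ne_zero hdMf
    by_cases hQu : IsUnit Q
    · right
      left
      have hQ1 : Q = 1 := hQm.eq_one_of_isUnit hQu
      exact ⟨P, hPi, hPg, hPP, by rw [hQ, hQ1, mul_one]⟩
    · left
      have hco : IsCoprime P Q := by
        rw [hQ] at hsep
        exact hsep.isCoprime
      exact idem_of_factor hρ σ hσ P Q hPg hQg hPP hdQ hQ hco hPi.not_isUnit hQu
  · have hPi' : Irreducible (dag ρ P) := dag_irreducible hρ hPi hPg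
    have hPm' : (dag ρ P).Monic := dag_monic hPg
    have hnd : ¬ P ∣ dag ρ P := by
      intro hd
      have h1 : Associated P (dag ρ P) := hPi.associated_of_dvd hPi' hd
      exact hPP (eq_of_monic_of_associated hPm hPm' h1).symm
    have hco : IsCoprime P (dag ρ P) := (hPi.coprime_iff_not_dvd).2 hnd
    have hd2 : dag ρ P ∣ M := by
      rw [hQ, ← hdMf]
      exact Dvd.intro _ rfl
    obtain ⟨R, hR⟩ := hco.mul_dvd (Dvd.intro _ hQ.symm) hd2
    have hRm : R.Monic := (hPm.mul hPm').of_mul_monic_left (hR ▸ hMm)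
    have hfg : GoodP (P * dag ρ P) := good_mul hPg (dag_good hPg)
    have hRg : GoodP R := good_of_dvd hMg hRm (Dvd.intro_left _ hR.symm)
    have hdf : dag ρ (P * dag ρ P) = P * dag ρ P := by
      rw [dag_mul, dag_dag hρ hPg, mul_comm]
    have hdR : dag ρ R = R := by
      have h1 : dag ρ (P * dag ρ P * R) = P * dag ρ P * R := by
        rw [← hR, hdM]
      rw [dag_mul, hdf] at h1
      exact mul_left_cancel₀ (hPm.mul hPm').ne_zero h1
    by_cases hRu : IsUnit R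
    · right
      right
      have hR1 : R = 1 := hRm.eq_one_of_isUnit hRu
      exact ⟨P, hPi, hPg, hPP, by rw [hR, hR1, mul_one]⟩
    · left
      have hco2 : IsCoprime (P * dag ρ P) R := by
        rw [hR] at hsep
        exact hsep.isCoprime
      have hfu : ¬ IsUnit (P * dag ρ P) := fun h => hPi.not_isUnit (isUnit_of_mul_isUnit_left h)
      exact idem_of_factor hρ σ hσ _ R hfg hRg hdf hdR hR hco2 hfu hRu

end matrices

end Cfsg.Agent.H11.Spec
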