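import Cfsg.Agent.Lib.H11.Spec7
import Cfsg.Agent.Lib.Lead.SUCenter

/-! Absorbing `r ∣ q + 1` in `PSU_n(q)`: elements commuting with decomposable ones. -/

set_option autoImplicit false
set_option linter.unusedSectionVars false
set_option linter.unusedVariables false

namespace Cfsg.Agent.H11.Spec

open Polynomial Matrix Module Cfsg.Agent.H11.GUC

variable {F : Type*} [Field F] [Fintype F] {n q : ℕ}

/-- the matrix of an element of `SU` -/
abbrev matS (g : Cfsg.SU n F q) : Matrix (Fin n) (Fin n) F :=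
  ((g : Matrix.SpecialLinearGroup (Fin n) F) : Matrix (Fin n) (Fin n) F)

/-- the quotient map -/
noncomputable abbrev piU (n : ℕ) (F : Type*) [Field F] [Fintype F] (q : ℕ) : Cfsg.SU n F q →* Cfsg.PSU n F q :=
  QuotientGroup.mk' _

theorem matS_pow (g : Cfsg.SU n F q) (k : ℕ) : matS (g ^ k) = (matS g) ^ k := by
  simp [matS]

theorem matS_mul (g h : Cfsg.SU n F q) : matS (g * h) = matS g * matS h := by
  simp [matS]

section rho

variable (ρ : F →+* F) (hρq : ∀ x, ρ x = x ^ q) (hρ : ∀ x, ρ (ρ x) = x)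

include hρq hρ

theorem su_dg (g : Cfsg.SU n F q) : dg ρ (matS g) * matS g = 1 :=
  (mem_gu_iff ρ hρq hρ (Matrix.SpecialLinearGroup.toGL g.1)).1 g.2

theorem su_of_mat (y : Matrix (Fin n) (Fin n) F) (hdet : y.det = 1) (hdg : dg ρ y * y = 1) :
    ∃ Y : Cfsg.SU n F q, matS Y = y := by
  let Y₀ : Matrix.SpecialLinearGroup (Fin n) F := ⟨y, hdet⟩
  have h1 : Matrix.SpecialLinearGroup.toGL Y₀ ∈ Cfsg.GU n F q := (mem_gu_iff ρ hρq hρ _).2 hdg
  exact ⟨⟨Y₀, h1⟩, rfl⟩

end rho

theorem piU_eq_one_iff (hF : Fintype.card F = q ^ 2) (hn : 2 ≤ n) (g : Cfsg.SU n F q) :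
    piU n F q g = 1 ↔ ∃ c : F, matS g = c • (1 : Matrix (Fin n) (Fin n) F) := by
  classical
  have h0 : piU n F q g = 1 ↔ g ∈ Subgroup.center (Cfsg.SU n F q) := by
    rw [← MonoidHom.mem_ker, QuotientGroup.ker_mk']
  rw [h0]
  constructor
  · intro h
    exact ⟨_, Cfsg.Agent.Lead.center_SU_scalar hF h ⟨0, by omega⟩⟩
  · rintro ⟨c, hc⟩
    rw [Subgroup.mem_center_iff]
    intro h
    apply Subtype.ext
    apply Subtype.ext
    change matS h * matS g = matS g * matS h
    rw [hc]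
    simp

/-- a determinant-one element from a primitive root -/
theorem exists_idem_elt {r : ℕ} (hr : r.Prime) (hrn : ¬ r ∣ n) (z : F) (hprim : IsPrimitiveRoot z r)
    (e₁ e₂ : Matrix (Fin n) (Fin n) F) (he : e₁ + e₂ = 1) (hee : e₁ * e₂ = 0) (h1 : e₁ ≠ 0) (h2 : e₂ ≠ 0) :
    ∃ a b : F, a ^ r = 1 ∧ b ^ r = 1 ∧ (dd e₁ e₂ a b).det = 1 ∧ dd e₁ e₂ a b ≠ 1 := by
  classical
  haveI : NeZero r := ⟨hr.ne_zero⟩
  have hzo : orderOf z = r := hprim.eq_orderOf.symm
  have hzr : z ^ r = 1 := hprim.pow_eq_one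
  have hfacts := idem_facts he hee
  let D := dd (F := F) e₁ e₂
  have hDmul : ∀ a b c d, D a b * D c d = D (a * c) (b * d) := dd_mul he hee
  have hDpow : ∀ a b (k : ℕ), D a b ^ k = D (a ^ k) (b ^ k) := dd_pow he hee
  have hDone : D 1 1 = 1 := dd_one he
  set α := (D z 1).det with hα
  set β := (D 1 z).det with hβ
  have hαr : α ^ r = 1 := by
    rw [hα, ← Matrix.det_pow, hDpow, hzr, one_pow, hDone, Matrix.det_one]
  have hβr : β ^ r = 1 := by
    rw [hβ, ← Matrix.det_pow, hDpow, hzr, one_pow, hDone, Matrix.det_one]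
  have hαβ : α * β = z ^ n := by
    rw [hα, hβ, ← Matrix.det_mul, hDmul, mul_one, one_mul]
    have : D z z = z • (1 : Matrix (Fin n) (Fin n) F) := dd_smul he z
    rw [this, Matrix.det_smul, Matrix.det_one, mul_one, Fintype.card_fin]
  obtain ⟨A, -, hA⟩ := hprim.eq_pow_of_pow_eq_one hαr
  obtain ⟨B, -, hB⟩ := hprim.eq_pow_of_pow_eq_one hβr
  refine ⟨z ^ B, (z ^ A) ^ (r - 1), ?_, ?_, ?_, ?_⟩
  · rw [← pow_mul, mul_comm, pow_mul, hzr, one_pow]
  · rw [← pow_mul, ← pow_mul]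
    have : A * ((r - 1) * r) = r * (A * (r - 1)) := by ring
    rw [this, pow_mul, hzr, one_pow]
  · have hsplit : D (z ^ B) ((z ^ A) ^ (r - 1)) = D z 1 ^ B * D 1 z ^ (A * (r - 1)) := by
      rw [hDpow, hDpow, hDmul, one_pow, one_pow, mul_one, one_mul, pow_mul]
    change (D _ _).det = 1
    rw [hsplit, Matrix.det_mul, Matrix.det_pow, Matrix.det_pow, ← hα, ← hβ, ← hA, ← hB, ← pow_mul, ← pow_mul, ← pow_add]
    have : A * B + B * (A * (r - 1)) = (A * B) * r := by
      obtain ⟨s, rfl⟩ : ∃ s, r = s + 1 := ⟨r - 1, by have := hr.pos; omega⟩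
      simp only [Nat.add_sub_cancel]
      ring
    rw [this, mul_comm, pow_mul, hzr, one_pow]
  · intro hy1
    have he1 : dd e₁ e₂ (z ^ B) ((z ^ A) ^ (r - 1)) * e₁ = (z ^ B) • e₁ := by
      unfold dd
      rw [add_mul, smul_mul_assoc, smul_mul_assoc, hfacts.1, hfacts.2.2, smul_zero, add_zero]
    have he2 : dd e₁ e₂ (z ^ B) ((z ^ A) ^ (r - 1)) * e₂ = ((z ^ A) ^ (r - 1)) • e₂ := by
      unfold dd
      rw [add_mul, smul_mul_assoc, smul_mul_assoc, hfacts.2.1, hee, smul_zero, zero_add]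
    rw [hy1, one_mul] at he1 he2
    have hB1 : z ^ B = 1 := by
      by_contra hc
      have h3 : (z ^ B - 1) • e₁ = 0 := by
        rw [sub_smul, one_smul, ← he1, sub_self]
      rcases smul_eq_zero.1 h3 with h4 | h4
      · exact hc (sub_eq_zero.1 h4)
      · exact h1 h4
    have hA1 : (z ^ A) ^ (r - 1) = 1 := by
      by_contra hc
      have h3 : ((z ^ A) ^ (r - 1) - 1) • e₂ = 0 := by
        rw [sub_smul, one_smul, ← he2, sub_self]
      rcases smul_eq_zero.1 h3 with h4 | h4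
      · exact hc (sub_eq_zero.1 h4)
      · exact h2 h4
    have hrB : r ∣ B := by
      rw [← hzo]
      exact orderOf_dvd_of_pow_eq_one hB1
    have hrA' : r ∣ A * (r - 1) := by
      have : r = orderOf z := hzo.symm
      rw [this]
      apply orderOf_dvd_of_pow_eq_one
      rw [pow_mul, ← this, hA1]
    have hrA : r ∣ A := by
      rcases (Nat.Prime.dvd_mul hr).1 hrA' with h3 | h3
      · exact h3
      · exfalso
        have := Nat.le_of_dvd (by have := hr.two_le; omega) h3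
        have := hr.two_le
        omega
    apply hrn
    have h5 : z ^ n = 1 := by
      rw [← hαβ, ← hA, ← hB]
      obtain ⟨a', rfl⟩ := hrA
      obtain ⟨b', rfl⟩ := hrB
      rw [pow_mul, pow_mul, hzr, one_pow, one_pow, mul_one]
    rw [← hzo]
    exact orderOf_dvd_of_pow_eq_one h5

/-- Multiply by an element of order `r` commuting with an orthogonally decomposable element. -/
theorem mul_r_su (ρ : F →+* F) (hρq : ∀ x, ρ x = x ^ q) (hρ : ∀ x, ρ (ρ x) = x)
    {r : ℕ} (hF : Fintype.card F = q ^ 2) (hn : 2 ≤ n) (hr : r.Prime) (hrq : r ∣ q + 1) (hrn : ¬ r ∣ n)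
    (g : Cfsg.SU n F q) (e₁ e₂ : Matrix (Fin n) (Fin n) F) (he : e₁ + e₂ = 1) (hee : e₁ * e₂ = 0)
    (h1 : e₁ ≠ 0) (h2 : e₂ ≠ 0) (hd1 : dg ρ e₁ = e₁) (hd2 : dg ρ e₂ = e₂) (hc1 : matS g * e₁ = e₁ * matS g)
    (hx : ¬ r ∣ orderOf (piU n F q g)) : ∃ x' : Cfsg.PSU n F q, orderOf x' = orderOf (piU n F q g) * r := by
  classical
  haveI : Fact r.Prime := ⟨hr⟩
  haveI : NeZero r := ⟨hr.ne_zero⟩
  have hq1 : (q + 1) ∣ Fintype.card F - 1 := by
    rw [hF]
    have := Nat.sq_sub_sq q 1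
    rw [one_pow] at this
    rw [this]
    exact Dvd.intro _ rfl
  obtain ⟨ζ, hζ⟩ := exists_prime_orderOf_dvd_card (G := Fˣ) r (by
    rw [Fintype.card_units]
    exact hrq.trans hq1)
  set z : F := (ζ : F) with hzdef
  have hzo : orderOf z = r := by
    rw [hzdef, orderOf_units, hζ]
  have hprim : IsPrimitiveRoot z r := by
    rw [← hzo]
    exact IsPrimitiveRoot.orderOf z
  obtain ⟨a, b, har, hbr, hdet, hne⟩ := exists_idem_elt hr hrn z hprim e₁ e₂ he hee h1 h2
  have hq1' : ∀ c : F, c ^ r = 1 → ρ c * c = 1 := by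
    intro c hc
    obtain ⟨k, hk⟩ := hrq
    rw [hρq, ← pow_succ, hk, pow_mul, hc, one_pow]
  set y := dd e₁ e₂ a b with hy
  have hdgy : dg ρ y = dd e₁ e₂ (ρ a) (ρ b) := by
    rw [hy]
    unfold dd
    rw [dg_add, dg_smul, dg_smul, hd1, hd2]
  have hyu : dg ρ y * y = 1 := by
    rw [hdgy, hy, dd_mul he hee, hq1' a har, hq1' b hbr, dd_one he]
  obtain ⟨Y, hY⟩ := su_of_mat ρ hρq hρ (q := q) y hdet hyu
  have hyr : y ^ r = 1 := by
    rw [hy, dd_pow he hee, har, hbr, dd_one he]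
  have hY1 : piU n F q Y ≠ 1 := by
    intro h0
    obtain ⟨c, hc⟩ := (piU_eq_one_iff hF hn Y).1 h0
    rw [hY] at hc
    have hcn : c ^ n = 1 := by
      have := hdet
      rw [hc, Matrix.det_smul, Matrix.det_one, mul_one, Fintype.card_fin] at this
      exact this
    haveI : Nonempty (Fin n) := ⟨⟨0, by omega⟩⟩
    have hcr : c ^ r = 1 := by
      have h3 := hyr
      rw [hc, _root_.smul_pow, one_pow] at h3
      by_contra hc2
      have h4 : (c ^ r - 1) • (1 : Matrix (Fin n) (Fin n) F) = 0 := by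
        rw [sub_smul, one_smul, h3, sub_self]
      rcases smul_eq_zero.1 h4 with h5 | h5
      · exact hc2 (sub_eq_zero.1 h5)
      · exact one_ne_zero h5
    have hc1' : c = 1 := by
      have hcop : Nat.Coprime r n := (Nat.Prime.coprime_iff_not_dvd hr).2 hrn
      have := (pow_gcd_eq_one (a := c)).2 ⟨hcr, hcn⟩
      rw [hcop] at this
      simpa using this
    apply hne
    rw [hc, hc1', one_smul]
  have hYo : orderOf (piU n F q Y) = r := by
    apply orderOf_eq_prime _ hY1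
    rw [← map_pow]
    have : Y ^ r = 1 := by
      apply Subtype.ext
      apply Subtype.ext
      change matS (Y ^ r) = 1
      rw [matS_pow, hY, hyr]
    rw [this, map_one]
  have hc2 : matS g * e₂ = e₂ * matS g := by
    have : e₂ = 1 - e₁ := by rw [← he]; abel
    rw [this, mul_sub, sub_mul, hc1, mul_one, one_mul]
  have hcomm : Commute (piU n F q g) (piU n F q Y) := by
    have : Commute g Y := by
      apply Subtype.ext
      apply Subtype.ext
      change matS (g * Y) = matS (Y * g)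
      rw [matS_mul, matS_mul, hY, hy]
      unfold dd
      rw [mul_add, add_mul, mul_smul_comm, mul_smul_comm, smul_mul_assoc, smul_mul_assoc, hc1, hc2]
    exact this.map _
  refine ⟨piU n F q g * piU n F q Y, ?_⟩
  rw [hcomm.orderOf_mul_eq_mul_orderOf_of_coprime, hYo]
  rw [hYo]
  exact Nat.Coprime.symm ((Nat.Prime.coprime_iff_not_dvd hr).2 hx)

theorem dg_diagonal (ρ : F →+* F) (d : Fin n → F) : dg ρ (Matrix.diagonal d) = Matrix.diagonal (fun i => ρ (d i)) := by
  ext i j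
  by_cases h : i = j
  · subst h
    simp [dg]
  · have h' : j ≠ i := fun e => h e.symm
    simp [dg, Matrix.diagonal_apply, h, h']

/-- elements of order `r` -/
theorem exists_order_r_su (ρ : F →+* F) (hρq : ∀ x, ρ x = x ^ q) (hρ : ∀ x, ρ (ρ x) = x)
    {r : ℕ} (hF : Fintype.card F = q ^ 2) (hn : 2 ≤ n) (hr : r.Prime) (hrq : r ∣ q + 1) (hrn : ¬ r ∣ n) :
    ∃ x : Cfsg.PSU n F q, orderOf x = r := by
  classical
  let i₀ : Fin n := ⟨0, by omega⟩
  let i₁ : Fin n := ⟨1, by omega⟩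
  let d : Fin n → F := fun i => if i = i₀ then 1 else 0
  let e₁ : Matrix (Fin n) (Fin n) F := Matrix.diagonal d
  let e₂ : Matrix (Fin n) (Fin n) F := Matrix.diagonal (fun i => 1 - d i)
  have hne : i₁ ≠ i₀ := by
    intro h
    have := congrArg Fin.val h
    simp [i₀, i₁] at this
  have he : e₁ + e₂ = 1 := by
    simp only [e₁, e₂]
    rw [Matrix.diagonal_add, ← Matrix.diagonal_one]
    congr 1
    funext i
    simp
  have hee : e₁ * e₂ = 0 := by
    simp only [e₁, e₂]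
    rw [Matrix.diagonal_mul_diagonal, ← Matrix.diagonal_zero]
    congr 1
    funext i
    simp only [d]
    split_ifs <;> simp
  have h1 : e₁ ≠ 0 := by
    intro h0
    have h3 : e₁ i₀ i₀ = 0 := by rw [h0]; rfl
    simp [e₁, d] at h3
  have h2 : e₂ ≠ 0 := by
    intro h0
    have h3 : e₂ i₁ i₁ = 0 := by rw [h0]; rfl
    simp [e₂, d, hne] at h3
  have hd1 : dg ρ e₁ = e₁ := by
    simp only [e₁]
    rw [dg_diagonal]
    congr 1
    funext i
    simp only [d]
    split_ifs <;> simp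
  have hd2 : dg ρ e₂ = e₂ := by
    simp only [e₂]
    rw [dg_diagonal]
    congr 1
    funext i
    simp only [d]
    split_ifs <;> simp
  obtain ⟨x', hx'⟩ := mul_r_su ρ hρq hρ hF hn hr hrq hrn (1 : Cfsg.SU n F q) e₁ e₂ he hee h1 h2 hd1 hd2
    (by simp [matS]) (by simp [hr.one_lt.ne', Nat.dvd_one, hr.ne_one])
  refine ⟨x', ?_⟩
  rw [hx', map_one, orderOf_one, one_mul]

/-- descending scalar powers -/
theorem scalar_pow_descend {p t : ℕ} (hp : p.Prime) [CharP F p] (hn : 1 ≤ n) (ht : 1 ≤ t) (G : Matrix (Fin n) (Fin n) F) (c : F) (hc0 : c ≠ 0)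
    (hG : G ^ p ^ t = c • 1) (hle : n ≤ p ^ (t - 1)) : ∃ c' : F, G ^ p ^ (t - 1) = c' • 1 := by
  classical
  haveI : Fact p.Prime := ⟨hp⟩
  haveI : Nonempty (Fin n) := ⟨⟨0, by omega⟩⟩
  have hfrob : Function.Surjective (fun a : F => a ^ p ^ t) := by
    apply Finite.injective_iff_surjective.1
    intro a b hab
    have : (a - b) ^ p ^ t = 0 := by
      rw [sub_pow_char_pow]
      exact sub_eq_zero.2 hab
    exact sub_eq_zero.1 (pow_eq_zero_iff (pow_ne_zero _ hp.ne_zero) |>.1 this)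
  obtain ⟨c₀, hc₀⟩ := hfrob c
  simp only at hc₀
  have hc₀0 : c₀ ≠ 0 := by
    rintro rfl
    rw [zero_pow (pow_ne_zero _ hp.ne_zero)] at hc₀
    exact hc0 hc₀.symm
  let B : Matrix (Fin n) (Fin n) F := c₀⁻¹ • G
  have hB : B ^ p ^ t = 1 := by
    simp only [B]
    rw [_root_.smul_pow, hG, inv_pow, ← hc₀, smul_smul, inv_mul_cancel₀ (pow_ne_zero _ hc₀0), one_smul]
  haveI : CharP (Matrix (Fin n) (Fin n) F) p := inferInstance
  have hnil : (B - 1) ^ p ^ t = 0 := by
    have := sub_pow_char_pow_of_commute (p := p) (n := t) (x := B) (y := 1) (Commute.one_right B)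
    rw [this, hB, one_pow, sub_self]
  have hn' : (B - 1) ^ n = 0 := mat_pow_n _ ⟨_, hnil⟩
  have hB' : B ^ p ^ (t - 1) = 1 := by
    have h3 : (B - 1) ^ p ^ (t - 1) = 0 := by
      obtain ⟨k, hk⟩ := Nat.exists_eq_add_of_le hle
      rw [hk, pow_add, hn', zero_mul]
    have := sub_pow_char_pow_of_commute (p := p) (n := t - 1) (x := B) (y := 1) (Commute.one_right B)
    rw [h3, one_pow] at this
    exact (sub_eq_zero.1 this.symm)
  refine ⟨c₀ ^ p ^ (t - 1), ?_⟩
  have : B ^ p ^ (t - 1) = (c₀⁻¹) ^ p ^ (t - 1) • G ^ p ^ (t - 1) := by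
    simp only [B]
    rw [_root_.smul_pow]
  rw [hB'] at this
  have h5 := congrArg (fun m => c₀ ^ p ^ (t - 1) • m) this
  simp only [smul_smul, inv_pow] at h5
  rw [mul_inv_cancel₀ (pow_ne_zero _ hc₀0), one_smul] at h5
  exact h5.symm

/-- orders `p^t` in `PSU_n` -/
theorem p_lt_su {p t : ℕ} (hp : p.Prime) [CharP F p] (hF : Fintype.card F = q ^ 2) (hn : 2 ≤ n) (ht : 1 ≤ t) (x : Cfsg.PSU n F q)
    (hx : orderOf x = p ^ t) : p ^ (t - 1) < n := by
  classical
  by_contra hcon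
  push Not at hcon
  obtain ⟨g, rfl⟩ := QuotientGroup.mk'_surjective _ x
  change orderOf (piU n F q g) = p ^ t at hx
  have h1 : piU n F q (g ^ p ^ t) = 1 := by
    rw [map_pow, ← hx, pow_orderOf_eq_one]
  obtain ⟨c, hc⟩ := (piU_eq_one_iff hF hn _).1 h1
  rw [matS_pow] at hc
  have hc0 : c ≠ 0 := by
    rintro rfl
    have hdet : (matS g ^ p ^ t).det = 1 := by
      rw [Matrix.det_pow]
      have : (matS g).det = 1 := (g : Matrix.SpecialLinearGroup (Fin n) F).2
      rw [this, one_pow]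
    haveI : Nonempty (Fin n) := ⟨⟨0, by omega⟩⟩
    rw [hc, zero_smul, Matrix.det_zero] at hdet
    exact zero_ne_one hdet
  obtain ⟨c', hc'⟩ := scalar_pow_descend hp (by omega) ht _ c hc0 hc hcon
  have h4 : piU n F q (g ^ p ^ (t - 1)) = 1 := by
    rw [piU_eq_one_iff hF hn, matS_pow]
    exact ⟨c', hc'⟩
  have h5 : orderOf (piU n F q g) ∣ p ^ (t - 1) := by
    apply orderOf_dvd_of_pow_eq_one
    rw [← map_pow]
    exact h4
  rw [hx] at h5
  have := (Nat.pow_dvd_pow_iff_le_right hp.one_lt).1 h5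
  omega

end Cfsg.Agent.H11.Spec
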