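import Cfsg.Agent.Lib.H11.Spec8
import Cfsg.Agent.Lib.H11.RegUnip3

/-! A regular unipotent block in the unitary group, and elements of order `p^t * r`. -/

set_option autoImplicit false
set_option linter.unusedSectionVars false
set_option linter.unusedVariables false

namespace Cfsg.Agent.H11.Spec

open Polynomial Matrix Module Cfsg.Agent.H11.GUC

variable {F : Type*} [Field F] [Fintype F] {n q : ℕ}

/-- rank under a field involution -/
theorem rank_map_invol (ρ : F →+* F) (hρ : ∀ x, ρ (ρ x) = x) {m : ℕ} (A : Matrix (Fin m) (Fin m) F) :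
    (A.map ρ).rank = A.rank := by
  classical
  have hmv : ∀ (B : Matrix (Fin m) (Fin m) F) (v : Fin m → F), (B.map ρ) *ᵥ (fun i => ρ (v i)) = fun i => ρ ((B *ᵥ v) i) := by
    intro B v
    funext i
    simp [Matrix.mulVec, dotProduct, map_sum]
  have hmap2 : ∀ (B : Matrix (Fin m) (Fin m) F), (B.map ρ).map ρ = B := by
    intro B
    ext i j
    simp [hρ]
  have hle : ∀ (B : Matrix (Fin m) (Fin m) F), Nat.card (LinearMap.range B.mulVecLin) ≤ Nat.card (LinearMap.range (B.map ρ).mulVecLin) := by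
    intro B
    let f : LinearMap.range B.mulVecLin → LinearMap.range (B.map ρ).mulVecLin := fun x =>
      ⟨fun i => ρ ((x : Fin m → F) i), by
        obtain ⟨v, hv⟩ := x.2
        refine ⟨fun i => ρ (v i), ?_⟩
        change (B.map ρ) *ᵥ (fun i => ρ (v i)) = _
        rw [hmv]
        rw [← hv]
        rfl⟩
    apply Nat.card_le_card_of_injective f
    intro x y hxy
    apply Subtype.ext
    funext i
    have h1 := congrFun (congrArg Subtype.val hxy) i
    exact ρ.injective h1
  have hcard : Nat.card (LinearMap.range A.mulVecLin) = Nat.card (LinearMap.range (A.map ρ).mulVecLin) := by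
    apply le_antisymm (hle A)
    have := hle (A.map ρ)
    rwa [hmap2] at this
  have hpow : ∀ (B : Matrix (Fin m) (Fin m) F), Nat.card (LinearMap.range B.mulVecLin) = Fintype.card F ^ B.rank := by
    intro B
    have := Module.natCard_eq_pow_finrank (K := F) (V := LinearMap.range B.mulVecLin)
    rw [this, Nat.card_eq_fintype_card]
    rfl
  rw [hpow, hpow] at hcard
  exact (Nat.pow_right_injective (Fintype.one_lt_card) hcard).symm

/-- a regular unipotent element in `GU_D` -/
theorem exists_reg_gu (ρ : F →+* F) (hρq : ∀ x, ρ x = x ^ q) (hρ : ∀ x, ρ (ρ x) = x) (hF : Fintype.card F = q ^ 2) {D : ℕ} (hD : 1 ≤ D) :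
    ∃ (b c c' : Matrix (Fin D) (Fin D) F), c * c' = 1 ∧ c' * c = 1 ∧ b = c * (1 + shiftM D F) * c' ∧ dg ρ b * b = 1 := by
  classical
  set N := shiftM D F with hN
  have hNd : N ^ D = 0 := shiftM_pow_card
  have hNr : N.rank = D - 1 := shiftM_rank
  have hnil : IsNilpotent N := ⟨D, hNd⟩
  have hcard : Fintype.card (Fin D) = D := Fintype.card_fin D
  have hdet : (1 + N).det = 1 := by
    have := det_smul_one_add_nilpotent (1 : F) hnil
    simpa using this
  let A : GL (Fin D) F := Matrix.GeneralLinearGroup.mk'' (1 + N) (by rw [hdet]; exact isUnit_one)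
  have hAv : (A : Matrix (Fin D) (Fin D) F) = 1 + N := rfl
  set K : Matrix (Fin D) (Fin D) F := ((A⁻¹ : GL (Fin D) F) : Matrix (Fin D) (Fin D) F) with hK
  have hJK : (1 + N) * K = 1 := by
    rw [← hAv, hK, ← Units.val_mul, mul_inv_cancel, Units.val_one]
  have hKJ : K * (1 + N) = 1 := by
    rw [← hAv, hK, ← Units.val_mul, inv_mul_cancel, Units.val_one]
  set Y := K - 1 with hY
  have hYK : Y = (-K) * N := by
    rw [hY]
    have : K * (1 + N) = K + K * N := by rw [mul_add, mul_one]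
    rw [hKJ] at this
    rw [neg_mul, eq_neg_iff_add_eq_zero]
    rw [sub_add_eq_add_sub, ← this, sub_self]
  have hKN : Commute K N := by
    have h1 : K * N = N * K := by
      have h2 : K * (1 + N) = (1 + N) * K := by rw [hKJ, hJK]
      rw [mul_add, add_mul, mul_one, one_mul] at h2
      exact add_left_cancel h2
    exact h1
  have hYd : Y ^ D = 0 := by
    rw [hYK]
    have h1 : Commute (-K) N := hKN.neg_left
    rw [h1.mul_pow, hNd, mul_zero]
  have hdetK : IsUnit K.det := (Matrix.isUnit_iff_isUnit_det _).1 (IsUnit.of_mul_eq_one _ hKJ)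
  have hKneg : IsUnit (-K).det := by
    rw [Matrix.det_neg]
    exact (IsUnit.mul (by
      apply IsUnit.pow
      exact isUnit_one.neg) hdetK)
  have hYr : Y.rank = D - 1 := by
    rw [hYK, Matrix.rank_mul_eq_right_of_isUnit_det _ _ hKneg, hNr]
  -- the second nilpotent
  have hdgY : dg ρ K - 1 = dg ρ Y := by
    rw [hY]
    have : dg ρ (K - 1) + dg ρ 1 = dg ρ K := by
      rw [← dg_add, sub_add_cancel]
    rw [← this, dg_one]
    abel
  have hN₂d : (dg ρ K - 1) ^ D = 0 := by
    rw [hdgY, ← dg_pow, hYd]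
    ext i j
    simp [dg]
  have hN₂r : (dg ρ K - 1).rank = D - 1 := by
    rw [hdgY]
    unfold dg
    rw [Matrix.rank_transpose, rank_map_invol ρ hρ, hYr]
  obtain ⟨P, hP⟩ := regular_similar (by rw [hcard]; exact hD) (N := N) (N' := dg ρ K - 1) (by rw [hcard]; exact hNd) (by rw [hcard]; exact hNr)
    (by rw [hcard]; exact hN₂d) (by rw [hcard]; exact hN₂r)
  have hP' : P.1 * (1 + N) = dg ρ K * P.1 := by
    rw [mul_add, mul_one]
    have h1 : P.1 * N = (dg ρ K - 1) * P.1 := hP
    rw [h1, sub_mul, one_mul]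
    abel
  have hinv : ((1 + N).map (fun x : F => x ^ q))ᵀ⁻¹ = dg ρ K := by
    have e : ((1 + N).map (fun x : F => x ^ q))ᵀ = dg ρ (1 + N) := by
      ext i j
      simp [dg, hρq]
    rw [e]
    apply Matrix.inv_eq_right_inv
    rw [← dg_mul, hKJ, dg_one]
  have hconj : IsConj (A : Matrix (Fin D) (Fin D) F) (((A : Matrix (Fin D) (Fin D) F).map (fun x : F => x ^ q))ᵀ)⁻¹ := by
    rw [hAv, hinv]
    exact ⟨P, hP'⟩
  obtain ⟨B, hB⟩ := (gu_similar_iff hF A).2 hconj
  obtain ⟨c, hc⟩ := isConj_iff.1 hB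
  have hBv : ((B : GL (Fin D) F) : Matrix (Fin D) (Fin D) F) = c.1 * (1 + N) * (c⁻¹ : GL (Fin D) F).1 := by
    rw [← hc]
    rfl
  refine ⟨((B : GL (Fin D) F) : Matrix (Fin D) (Fin D) F), c.1, (c⁻¹ : GL (Fin D) F).1, ?_, ?_, hBv, ?_⟩
  · rw [← Units.val_mul, mul_inv_cancel, Units.val_one]
  · rw [← Units.val_mul, inv_mul_cancel, Units.val_one]
  · exact (mem_gu_iff ρ hρq hρ _).1 B.2

/-- Elements of order `p^t * r` when `p^(t-1) + 1 < n`. -/
theorem exists_pr_su (ρ : F →+* F) (hρq : ∀ x, ρ x = x ^ q) (hρ : ∀ x, ρ (ρ x) = x) (hF : Fintype.card F = q ^ 2)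
    {p t r : ℕ} (hp : p.Prime) [CharP F p] (hn : 2 ≤ n) (ht : 1 ≤ t)
    (hDn : p ^ (t - 1) + 1 < n) (hr : r.Prime) (hrq : r ∣ q + 1) (hrn : ¬ r ∣ n) (hrp : r ≠ p) :
    ∃ x : Cfsg.PSU n F q, orderOf x = p ^ t * r := by
  classical
  haveI : Fact p.Prime := ⟨hp⟩
  set D := p ^ (t - 1) + 1 with hDdef
  have hpos : 1 ≤ p ^ (t - 1) := Nat.one_le_pow _ _ hp.pos
  have hD1 : 1 ≤ D := by omega
  obtain ⟨b, c, c', hcc', hc'c, hb, hbu⟩ := exists_reg_gu ρ hρq hρ hF hD1
  set N := shiftM D F with hN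
  have hNd : N ^ D = 0 := shiftM_pow_card
  have hptD : D ≤ p ^ t := by
    have hpt : p ^ t = p * p ^ (t - 1) := by
      rw [← pow_succ']
      congr 1
      omega
    rw [hpt, hDdef]
    have := hp.two_le
    nlinarith
  have hNt : N ^ p ^ t = 0 := by
    obtain ⟨k, hk⟩ := Nat.exists_eq_add_of_le hptD
    rw [hk, pow_add, hNd, zero_mul]
  haveI : Nonempty (Fin D) := ⟨⟨0, by omega⟩⟩
  have hNs : N ^ p ^ (t - 1) ≠ 0 := by
    intro h0
    let x : Fin D → F := Pi.single ⟨p ^ (t - 1), by omega⟩ 1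
    have h1 := shiftM_pow_mulVec (F := F) (n := D) (p ^ (t - 1)) x ⟨0, by omega⟩
    have hs : ((0 : ℕ) + p ^ (t - 1)) < D := by omega
    simp only [hs, dif_pos] at h1
    rw [← hN, h0, Matrix.zero_mulVec] at h1
    have h2 : x ⟨0 + p ^ (t - 1), hs⟩ = 1 := by
      simp only [x]
      have e : (⟨0 + p ^ (t - 1), hs⟩ : Fin D) = ⟨p ^ (t - 1), by omega⟩ := Fin.ext (by simp)
      rw [e, Pi.single_eq_same]
    rw [h2] at h1
    exact zero_ne_one h1
  have hadd : ∀ k : ℕ, (1 + N) ^ p ^ k = 1 + N ^ p ^ k := by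
    intro k
    have := add_pow_char_pow_of_commute (p := p) (n := k) (x := (1 : Matrix (Fin D) (Fin D) F)) (y := N) (Commute.one_left N)
    rw [this, one_pow]
  have hbpow : ∀ k : ℕ, b ^ k = c * (1 + N) ^ k * c' := by
    intro k
    induction k with
    | zero => simp [hcc']
    | succ k ih =>
      rw [pow_succ, ih, hb, pow_succ]
      calc c * (1 + N) ^ k * c' * (c * (1 + N) * c') = c * (1 + N) ^ k * (c' * c) * (1 + N) * c' := by simp only [mul_assoc]
        _ = _ := by rw [hc'c, mul_one]; simp only [mul_assoc]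
  have hb1 : b ^ p ^ t = 1 := by
    rw [hbpow, hadd, hNt, add_zero, mul_one, hcc']
  have hb2 : b ^ p ^ (t - 1) ≠ 1 := by
    intro h0
    rw [hbpow, hadd] at h0
    apply hNs
    have h1 : c' * (c * (1 + N ^ p ^ (t - 1)) * c') * c = c' * 1 * c := by rw [h0]
    have h2 : c' * (c * (1 + N ^ p ^ (t - 1)) * c') * c = (c' * c) * (1 + N ^ p ^ (t - 1)) * (c' * c) := by simp only [mul_assoc]
    rw [h2, hc'c, one_mul, mul_one, mul_one, hc'c] at h1
    simpa using h1
  have hdetb : b.det = 1 := by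
    rw [hb, Matrix.det_mul, Matrix.det_mul]
    have h1 : (1 + N).det = 1 := by
      have := det_smul_one_add_nilpotent (1 : F) (Z := N) ⟨D, hNd⟩
      simpa using this
    rw [h1, mul_one, ← Matrix.det_mul, hcc', Matrix.det_one]
  -- the extension by the identity
  let ε : Fin D ⊕ Fin (n - D) ≃ Fin n := finSumFinEquiv.trans (finCongr (by omega))
  let R := Matrix.reindexAlgEquiv F F ε
  have hRinj : Function.Injective R := R.injective
  have hRdg : ∀ X : Matrix (Fin D ⊕ Fin (n - D)) (Fin D ⊕ Fin (n - D)) F, dg ρ (R X) = R ((X.map ρ)ᵀ) := by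
    intro X
    ext i j
    simp [dg, R, Matrix.reindexAlgEquiv_apply]
  let ex : Matrix (Fin D) (Fin D) F → Matrix (Fin n) (Fin n) F := fun X => R (Matrix.fromBlocks X 0 0 1)
  have hexmul : ∀ X X', ex X * ex X' = ex (X * X') := by
    intro X X'
    simp only [ex]
    rw [← map_mul, Matrix.fromBlocks_multiply]
    simp
  have hexone : ex 1 = 1 := by
    simp only [ex]
    rw [Matrix.fromBlocks_one, map_one]
  have hexpow : ∀ (X) (k : ℕ), ex X ^ k = ex (X ^ k) := by
    intro X k
    induction k with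
    | zero => rw [pow_zero, pow_zero, hexone]
    | succ k ih => rw [pow_succ, ih, hexmul, pow_succ]
  have hexdg : ∀ X, dg ρ (ex X) = ex (dg ρ X) := by
    intro X
    simp only [ex]
    rw [hRdg]
    congr 1
    ext i j
    rcases i with i | i <;> rcases j with j | j <;> simp [dg, Matrix.one_apply]
    split_ifs <;> simp_all
  have hexdet : ∀ X, (ex X).det = X.det := by
    intro X
    simp only [ex, R]
    rw [Matrix.det_reindexAlgEquiv, Matrix.det_fromBlocks_zero₂₁, Matrix.det_one, mul_one]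
  obtain ⟨U, hU⟩ := su_of_mat ρ hρq hρ (q := q) (ex b) (by rw [hexdet, hdetb]) (by rw [hexdg, hexmul, hbu, hexone])
  have hUo : orderOf (piU n F q U) = p ^ t := by
    have h1 : piU n F q U ^ p ^ t = 1 := by
      rw [← map_pow]
      have : U ^ p ^ t = 1 := by
        apply Subtype.ext
        apply Subtype.ext
        change matS (U ^ p ^ t) = 1
        rw [matS_pow, hU, hexpow, hb1, hexone]
      rw [this, map_one]
    have h2 : piU n F q U ^ p ^ (t - 1) ≠ 1 := by
      rw [← map_pow]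
      intro h0
      obtain ⟨d, hd⟩ := (piU_eq_one_iff hF hn _).1 h0
      rw [matS_pow, hU, hexpow] at hd
      have hdR : ex (b ^ p ^ (t - 1)) = R (d • 1) := by
        rw [hd, map_smul, map_one]
      have h3 := hRinj hdR
      haveI : Nonempty (Fin (n - D)) := ⟨⟨0, by omega⟩⟩
      let i₀ : Fin (n - D) := ⟨0, by omega⟩
      have h4 := congrFun (congrFun h3 (Sum.inr i₀)) (Sum.inr i₀)
      simp only [Matrix.fromBlocks_apply₂₂, Matrix.smul_apply, Matrix.one_apply_eq, Matrix.one_apply_eq, smul_eq_mul, mul_one] at h4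
      have hd1 : d = 1 := h4.symm
      apply hb2
      ext i j
      have h5 := congrFun (congrFun h3 (Sum.inl i)) (Sum.inl j)
      rw [hd1] at h5
      simpa [Matrix.one_apply] using h5
    have ht' : t = (t - 1) + 1 := by omega
    have := orderOf_eq_prime_pow (p := p) (n := t - 1) h2 (by rw [← ht']; exact h1)
    rw [this, ← ht']
  -- idempotents
  let e₁ : Matrix (Fin n) (Fin n) F := R (Matrix.fromBlocks 1 0 0 0)
  let e₂ : Matrix (Fin n) (Fin n) F := R (Matrix.fromBlocks 0 0 0 1)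
  have he : e₁ + e₂ = 1 := by
    simp only [e₁, e₂]
    rw [← map_add, Matrix.fromBlocks_add]
    simp only [add_zero, zero_add]
    rw [Matrix.fromBlocks_one, map_one]
  have hee : e₁ * e₂ = 0 := by
    simp only [e₁, e₂]
    rw [← map_mul, Matrix.fromBlocks_multiply]
    simp
  have h10 : e₁ ≠ 0 := by
    intro h0
    have h1 : Matrix.fromBlocks (1 : Matrix (Fin D) (Fin D) F) 0 0 0 = (0 : Matrix (Fin D ⊕ Fin (n - D)) (Fin D ⊕ Fin (n - D)) F) := hRinj (by rw [map_zero]; exact h0)
    have h2 := congrFun (congrFun h1 (Sum.inl ⟨0, by omega⟩)) (Sum.inl ⟨0, by omega⟩)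
    simp at h2
  have h20 : e₂ ≠ 0 := by
    intro h0
    have h1 : Matrix.fromBlocks (0 : Matrix (Fin D) (Fin D) F) 0 0 (1 : Matrix (Fin (n - D)) (Fin (n - D)) F) = (0 : Matrix (Fin D ⊕ Fin (n - D)) (Fin D ⊕ Fin (n - D)) F) := hRinj (by rw [map_zero]; exact h0)
    have h2 := congrFun (congrFun h1 (Sum.inr ⟨0, by omega⟩)) (Sum.inr ⟨0, by omega⟩)
    simp at h2
  have hd1 : dg ρ e₁ = e₁ := by
    simp only [e₁]
    rw [hRdg]
    congr 1
    ext i j
    rcases i with i | i <;> rcases j with j | j <;> simp [Matrix.one_apply]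
    split_ifs <;> simp_all
  have hd2 : dg ρ e₂ = e₂ := by
    simp only [e₂]
    rw [hRdg]
    congr 1
    ext i j
    rcases i with i | i <;> rcases j with j | j <;> simp [Matrix.one_apply]
    split_ifs <;> simp_all
  have hc1 : matS U * e₁ = e₁ * matS U := by
    rw [hU]
    simp only [ex, e₁]
    rw [← map_mul, ← map_mul, Matrix.fromBlocks_multiply, Matrix.fromBlocks_multiply]
    simp
  have hx : ¬ r ∣ orderOf (piU n F q U) := by
    rw [hUo]
    intro h
    exact hrp ((Nat.prime_dvd_prime_iff_eq hr hp).1 (hr.dvd_of_dvd_pow h))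
  obtain ⟨x', hx'⟩ := mul_r_su ρ hρq hρ hF hn hr hrq hrn U e₁ e₂ he hee h10 h20 hd1 hd2 hc1 hx
  exact ⟨x', by rw [hx', hUo]⟩

end Cfsg.Agent.H11.Spec
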