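import Cfsg.Agent.Lib.H10.SS2
import Cfsg.Agent.Lib.H11.PSU3a

/-! Sesquilinear forms invariant under an operator of finite order: basic facts and splitting. -/

set_option autoImplicit false
set_option linter.unusedSectionVars false
set_option linter.unusedVariables false

namespace Cfsg.Agent.H11.Wall

open Polynomial Module

universe u v

variable {F : Type u} [Field F]

/-- (`ρ`, `ε`)-symmetric nondegenerate forms. -/
structure Sf (ρ : F →+* F) (ε : F) {V : Type v} [AddCommGroup V] [Module F V] (B : V → V → F) : Prop where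
  rho2 : ∀ x, ρ (ρ x) = x
  eps : ε * ρ ε = 1
  add_left : ∀ x x' y, B (x + x') y = B x y + B x' y
  smul_left : ∀ (c : F) x y, B (c • x) y = c * B x y
  symm : ∀ x y, B y x = ε * ρ (B x y)
  nd : ∀ x, (∀ y, B x y = 0) → x = 0

namespace Sf

variable {ρ : F →+* F} {ε : F} {V : Type v} [AddCommGroup V] [Module F V] {B : V → V → F}

theorem add_right (h : Sf ρ ε B) (x y y' : V) : B x (y + y') = B x y + B x y' := by
  rw [h.symm (y + y') x, h.add_left, map_add, mul_add, ← h.symm, ← h.symm]

theorem smul_right (h : Sf ρ ε B) (c : F) (x y : V) : B x (c • y) = ρ c * B x y := by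
  rw [h.symm (c • y) x, h.smul_left, map_mul, ← mul_assoc, mul_comm ε, mul_assoc, ← h.symm]

theorem zero_left (h : Sf ρ ε B) (y : V) : B 0 y = 0 := by
  have := h.smul_left 0 0 y
  simpa using this

theorem zero_right (h : Sf ρ ε B) (x : V) : B x 0 = 0 := by
  have := h.smul_right 0 x 0
  simpa using this

theorem neg_left (h : Sf ρ ε B) (x y : V) : B (-x) y = - B x y := by
  have := h.smul_left (-1) x y
  simpa using this

theorem neg_right (h : Sf ρ ε B) (x y : V) : B x (-y) = - B x y := by
  have := h.smul_right (-1) x y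
  simpa using this

theorem sub_left (h : Sf ρ ε B) (x x' y : V) : B (x - x') y = B x y - B x' y := by
  rw [sub_eq_add_neg, h.add_left, h.neg_left, sub_eq_add_neg]

theorem sub_right (h : Sf ρ ε B) (x y y' : V) : B x (y - y') = B x y - B x y' := by
  rw [sub_eq_add_neg, h.add_right, h.neg_right, sub_eq_add_neg]

theorem eq_zero_comm (h : Sf ρ ε B) {x y : V} (h0 : B x y = 0) : B y x = 0 := by
  rw [h.symm x y, h0, map_zero, mul_zero]

theorem nd_right (h : Sf ρ ε B) (y : V) (hy : ∀ x, B x y = 0) : y = 0 :=
  h.nd y fun x => h.eq_zero_comm (hy x)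

/-- the left linear functional -/
def leftL (h : Sf ρ ε B) (y : V) : V →ₗ[F] F where
  toFun x := B x y
  map_add' x x' := h.add_left x x' y
  map_smul' c x := h.smul_left c x y

@[simp] theorem leftL_apply (h : Sf ρ ε B) (y x : V) : h.leftL y x = B x y := rfl

end Sf

section adj

variable {ρ : F →+* F} {ε : F} {V : Type v} [AddCommGroup V] [Module F V] {B : V → V → F}

/-- adjoints of polynomials -/
theorem adj_aeval (h : Sf ρ ε B) (T S : V →ₗ[F] V) (hTS : ∀ x y, B (T x) y = B x (S y)) (f : F[X]) (x y : V) :
    B (aeval T f x) y = B x (aeval S (f.map ρ) y) := by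
  have hp : ∀ (n : ℕ) (x y : V), B ((T ^ n) x) y = B x ((S ^ n) y) := by
    intro n
    induction n with
    | zero => intro x y; simp
    | succ n ih =>
      intro x y
      rw [pow_succ, Module.End.mul_apply, ih, hTS, pow_succ', Module.End.mul_apply]
  induction f using Polynomial.induction_on' with
  | add f g hf hg =>
    simp only [map_add, LinearMap.add_apply, Polynomial.map_add, h.add_left, h.add_right, hf, hg]
  | monomial n a =>
    simp only [aeval_monomial, Module.End.mul_apply, Module.algebraMap_end_apply, map_monomial, h.smul_left, h.smul_right, hp]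
    rw [h.rho2]

/-- an operator of finite order: the inverse -/
theorem iso_adj (t : V →ₗ[F] V) (hiso : ∀ x y, B (t x) (t y) = B x y) (N : ℕ) (hN : 0 < N) (ht : t ^ N = 1) (x w : V) :
    B (t x) w = B x ((t ^ (N - 1)) w) := by
  have h1 : t ((t ^ (N - 1)) w) = w := by
    rw [← Module.End.mul_apply, ← pow_succ', Nat.sub_add_cancel hN, ht]
    rfl
  conv_lhs => rw [← h1]
  exact hiso _ _

theorem iso_adj' (t : V →ₗ[F] V) (hiso : ∀ x y, B (t x) (t y) = B x y) (N : ℕ) (hN : 0 < N) (ht : t ^ N = 1) (x w : V) :
    B ((t ^ (N - 1)) x) w = B x (t w) := by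
  have h1 : t ((t ^ (N - 1)) x) = x := by
    rw [← Module.End.mul_apply, ← pow_succ', Nat.sub_add_cancel hN, ht]
    rfl
  conv_rhs => rw [← h1]
  exact (hiso _ _).symm

end adj

section split

variable [Fintype F] {ρ : F →+* F} {ε : F} {V : Type v} [AddCommGroup V] [Module F V] [FiniteDimensional F V]
  {B : V → V → F}

/-- every linear functional on a subspace is represented by a vector -/
theorem riesz_top (h : Sf ρ ε B) (f : V →ₗ[F] F) : ∃ y, ∀ x, B x y = f x := by
  classical
  haveI : Finite V := Module.finite_of_finite F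
  let m : V → (V →ₗ[F] F) := fun y => h.leftL y
  have hinj : Function.Injective m := by
    intro y y' hyy
    have h1 : y - y' = 0 := by
      apply h.nd_right
      intro x
      have h2 := congrArg (fun g : V →ₗ[F] F => g x) hyy
      simp only [m, Sf.leftL_apply] at h2
      rw [h.sub_right, h2, sub_self]
    exact sub_eq_zero.1 h1
  have hcard : Nat.card V = Nat.card (V →ₗ[F] F) := by
    rw [Module.natCard_eq_pow_finrank (K := F) (V := V), Module.natCard_eq_pow_finrank (K := F) (V := V →ₗ[F] F),
      Subspace.dual_finrank_eq]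
  have hsurj : Function.Surjective m := by
    haveI : Finite (V →ₗ[F] F) := Module.finite_of_finite F
    exact ((Nat.bijective_iff_injective_and_card m).2 ⟨hinj, hcard⟩).2
  obtain ⟨y, hy⟩ := hsurj f
  refine ⟨y, fun x => ?_⟩
  have := congrArg (fun g : V →ₗ[F] F => g x) hy
  simpa [m] using this

/-- the orthogonal complement -/
def orth (h : Sf ρ ε B) (W : Submodule F V) : Submodule F V where
  carrier := {x | ∀ w ∈ W, B w x = 0}
  add_mem' := by
    intro a b ha hb w hw
    rw [h.add_right, ha w hw, hb w hw, add_zero]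
  zero_mem' := fun w _ => h.zero_right w
  smul_mem' := by
    intro c a ha w hw
    rw [h.smul_right, ha w hw, mul_zero]

theorem mem_orth (h : Sf ρ ε B) {W : Submodule F V} {x : V} : x ∈ orth h W ↔ ∀ w ∈ W, B w x = 0 := Iff.rfl

/-- the restricted form is still nondegenerate -/
theorem riesz_sub (h : Sf ρ ε B) (W : Submodule F V) (hW : ∀ x ∈ W, (∀ y ∈ W, B x y = 0) → x = 0)
    (f : W →ₗ[F] F) : ∃ y ∈ W, ∀ x : W, B x y = f x := by
  classical
  haveI : Finite W := Module.finite_of_finite F
  let B' : W → W → F := fun a b => B a b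
  have h' : Sf ρ ε B' :=
    { rho2 := h.rho2
      eps := h.eps
      add_left := fun a a' b => h.add_left a a' b
      smul_left := fun c a b => h.smul_left c a b
      symm := fun a b => h.symm a b
      nd := fun a ha => by
        apply Subtype.ext
        exact hW a a.2 (fun y hy => ha ⟨y, hy⟩) }
  obtain ⟨y, hy⟩ := riesz_top h' f
  exact ⟨y, y.2, hy⟩

theorem sf_restrict (h : Sf ρ ε B) (W : Submodule F V) (hW : ∀ x ∈ W, (∀ y ∈ W, B x y = 0) → x = 0) :
    Sf ρ ε (fun a b : W => B a b) :=
  { rho2 := h.rho2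
    eps := h.eps
    add_left := fun a a' b => h.add_left a a' b
    smul_left := fun c a b => h.smul_left c a b
    symm := fun a b => h.symm a b
    nd := fun a ha => by
      apply Subtype.ext
      exact hW a a.2 (fun y hy => ha ⟨y, hy⟩) }

/-- the orthogonal complement of a nondegenerate subspace -/
theorem orth_nd (h : Sf ρ ε B) (W : Submodule F V) (hW : ∀ x ∈ W, (∀ y ∈ W, B x y = 0) → x = 0) :
    ∀ x ∈ orth h W, (∀ y ∈ orth h W, B x y = 0) → x = 0 := by
  intro x hx hxy
  apply h.nd
  intro z
  obtain ⟨y, hy, hy2⟩ := riesz_sub h W hW (h.leftL z ∘ₗ W.subtype)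
  -- `z - y` is orthogonal to `W`
  have h1 : z - y ∈ orth h W := by
    intro w hw
    rw [h.sub_right, hy2 ⟨w, hw⟩]
    simp
  have h2 := hxy _ h1
  rw [h.sub_right] at h2
  have h3 : B y x = 0 := hx y hy
  have h4 := h.eq_zero_comm h3
  rw [h4, sub_zero] at h2
  exact h2

theorem isCompl_orth (h : Sf ρ ε B) (W : Submodule F V) (hW : ∀ x ∈ W, (∀ y ∈ W, B x y = 0) → x = 0) :
    IsCompl W (orth h W) := by
  constructor
  · rw [Submodule.disjoint_def]
    intro x hx hx2
    exact hW x hx (fun y hy => h.eq_zero_comm (hx2 y hy))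
  · rw [codisjoint_iff, eq_top_iff]
    intro z _
    obtain ⟨y, hy, hy2⟩ := riesz_sub h W hW (h.leftL z ∘ₗ W.subtype)
    have h1 : z - y ∈ orth h W := by
      intro w hw
      rw [h.sub_right, hy2 ⟨w, hw⟩]
      simp
    have : z = y + (z - y) := by abel
    rw [this]
    exact Submodule.add_mem_sup hy h1

end split

end Cfsg.Agent.H11.Wall
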