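import Cfsg.Agent.Lib.H11.Wall1
import Cfsg.Agent.Lib.H11.PSU3c
import Cfsg.Agent.Lib.H11.PSpE

/-! Forms on a residue field, invariant under the root. -/

set_option autoImplicit false
set_option linter.unusedSectionVars false
set_option linter.unusedVariables false

namespace Cfsg.Agent.H11.Wall

open Polynomial Module

universe u v

section norm

/-- norms for an involution of a finite field -/
theorem norm_of_invol {E : Type*} [Field E] [Fintype E] (σ : E →+* E) (hσ2 : ∀ x, σ (σ x) = x) (hσ : ∃ e, σ e ≠ e)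
    (c : E) (hc : c ≠ 0) (hcσ : σ c = c) : ∃ d, d * σ d = c := by
  classical
  obtain ⟨p, hp⟩ := CharP.exists E
  haveI hpf : Fact p.Prime := ⟨CharP.char_is_prime E p⟩
  haveI : Algebra (ZMod p) E := ZMod.algebra E p
  have hinj : Function.Bijective σ :=
    ⟨σ.injective, fun x => ⟨σ x, hσ2 x⟩⟩
  let σR : E ≃+* E := RingEquiv.ofBijective σ hinj
  let σA : E ≃ₐ[ZMod p] E := AlgEquiv.ofRingEquiv (f := σR) (by
    intro a
    have h1 : (σ.comp (algebraMap (ZMod p) E)) = algebraMap (ZMod p) E := Subsingleton.elim _ _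
    exact congrArg (fun g : ZMod p →+* E => g a) h1)
  have hσA : ∀ x, σA x = σ x := fun _ => rfl
  let Fr := FiniteField.frobeniusAlgEquivOfAlgebraic (ZMod p) E
  have hbij := FiniteField.bijective_frobeniusAlgEquivOfAlgebraic_pow (ZMod p) E
  obtain ⟨j, hj⟩ := hbij.2 σA
  obtain ⟨J, hJlt, hj'⟩ : ∃ J : ℕ, J < finrank (ZMod p) E ∧ Fr ^ J = σA := ⟨j.1, j.2, hj⟩
  have hfrob : ∀ (i : ℕ) (x : E), (Fr ^ i) x = x ^ p ^ i := by
    intro i x
    have := Cfsg.Agent.H11.PSpG.frob_pow (F := ZMod p) (E := E) i x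
    rwa [ZMod.card] at this
  have hσp : ∀ x, σ x = x ^ p ^ J := by
    intro x
    rw [← hfrob, hj']
    rfl
  have hcard : Fintype.card E = p ^ finrank (ZMod p) E := by
    have := Module.card_eq_pow_finrank (K := ZMod p) (V := E)
    rw [ZMod.card] at this
    exact this
  have hm1 : Fr ^ finrank (ZMod p) E = 1 := by
    ext x
    rw [hfrob, ← hcard, FiniteField.pow_card]
    rfl
  have hj0 : J ≠ 0 := by
    intro h
    obtain ⟨e, he⟩ := hσ
    apply he
    rw [hσp, h]
    simp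
  have h2j : Fr ^ (2 * J) = 1 := by
    ext x
    rw [hfrob, two_mul, pow_add, pow_mul, ← hσp, ← hσp, hσ2]
    rfl
  have hinjF := hbij.1
  have hm_eq : 2 * J = finrank (ZMod p) E := by
    by_contra hne
    rcases lt_or_gt_of_ne hne with hlt | hgt
    · have : (⟨2 * J, hlt⟩ : Fin (finrank (ZMod p) E)) = ⟨0, by omega⟩ := by
        apply hinjF
        change Fr ^ (2 * J) = Fr ^ 0
        rw [h2j, pow_zero]
      have h5 : 2 * J = 0 := congrArg Fin.val this
      omega
    · have hsub : 2 * J - finrank (ZMod p) E < finrank (ZMod p) E := by omega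
      have h3 : Fr ^ (2 * J - finrank (ZMod p) E) = 1 := by
        have h4 : Fr ^ (2 * J) = Fr ^ (2 * J - finrank (ZMod p) E) * Fr ^ finrank (ZMod p) E := by
          rw [← pow_add, Nat.sub_add_cancel hgt.le]
        rw [h2j, hm1, mul_one] at h4
        exact h4.symm
      have : (⟨2 * J - finrank (ZMod p) E, hsub⟩ : Fin (finrank (ZMod p) E)) = ⟨0, by omega⟩ := by
        apply hinjF
        change Fr ^ (2 * J - finrank (ZMod p) E) = Fr ^ 0
        rw [h3, pow_zero]
      have h5 : 2 * J - finrank (ZMod p) E = 0 := congrArg Fin.val this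
      omega
  have hF2 : Fintype.card E = (p ^ J) ^ 2 := by
    rw [hcard, ← pow_mul, mul_comm J, hm_eq]
  have hp0 : 1 ≤ p ^ J := Nat.one_le_pow _ _ hpf.out.pos
  have hc2 : c ^ p ^ J = c := by rw [← hσp, hcσ]
  obtain ⟨d, hd⟩ := Cfsg.Agent.H11.PSU3.exists_norm (F := E) hF2 hp0 c hc hc2
  refine ⟨d, ?_⟩
  rw [hσp, ← pow_succ', hd]

end norm

section model

variable {F : Type u} [Field F] [Fintype F] {ρ : F →+* F} {ε : F} (π : F[X]) [hπ : Fact (Irreducible π)]

local notation "E" => AdjoinRoot π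
local notation "θ" => AdjoinRoot.root π

theorem mk_monomial (n : ℕ) (a : F) : AdjoinRoot.mk π (monomial n a) = a • θ ^ n := by
  rw [← C_mul_X_pow_eq_monomial, map_mul, map_pow, AdjoinRoot.mk_X, AdjoinRoot.mk_C, Algebra.smul_def]
  rfl

/-- nondegeneracy from non-vanishing -/
theorem model_nd (b : E → E → F) (hadd : ∀ x x' y, b (x + x') y = b x y + b x' y) (hsmul : ∀ (c : F) x y, b (c • x) y = c * b x y)
    (hinv : ∀ x y, b (θ * x) (θ * y) = b x y) (hθ : θ ≠ 0) (hne : ∃ x y, b x y ≠ 0) (x : E) (hx : ∀ y, b x y = 0) : x = 0 := by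
  by_contra hx0
  have hpow : ∀ (n : ℕ) (z w : E), b (θ ^ n * z) (θ ^ n * w) = b z w := by
    intro n
    induction n with
    | zero => intro z w; simp
    | succ n ih =>
      intro z w
      rw [pow_succ, mul_assoc, mul_assoc, ih, hinv]
  have key : ∀ (f : F[X]) (z : E), b (AdjoinRoot.mk π f * x) z = 0 := by
    intro f
    induction f using Polynomial.induction_on' with
    | add f g hf hg =>
      intro z
      rw [map_add, add_mul, hadd, hf, hg, add_zero]
    | monomial n a =>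
      intro z
      rw [mk_monomial, smul_mul_assoc, hsmul]
      have h1 : z = θ ^ n * ((θ ^ n)⁻¹ * z) := by
        rw [← mul_assoc, mul_inv_cancel₀ (pow_ne_zero _ hθ), one_mul]
      rw [h1, hpow, hx, mul_zero]
  obtain ⟨x₀, y₀, h0⟩ := hne
  obtain ⟨f, hf⟩ := AdjoinRoot.mk_surjective (x₀ * x⁻¹)
  apply h0
  have := key f y₀
  rw [hf, mul_assoc, inv_mul_cancel₀ hx0, mul_one] at this
  exact this

variable {π}

/-- the adjoint on the field -/
theorem model_adj {b : E → E → F} (hb : Sf ρ ε b) (hinv : ∀ x y, b (θ * x) (θ * y) = b x y) (hθ : θ ≠ 0)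
    (f : F[X]) (x y : E) : b (AdjoinRoot.mk π f * x) y = b x (aeval θ⁻¹ (f.map ρ) * y) := by
  have hpow : ∀ (n : ℕ) (z w : E), b (θ ^ n * z) w = b z ((θ⁻¹) ^ n * w) := by
    intro n
    induction n with
    | zero => intro z w; simp
    | succ n ih =>
      intro z w
      rw [pow_succ, mul_assoc, ih]
      have hh : θ * θ⁻¹ = 1 := mul_inv_cancel₀ hθ
      have h1 : (θ⁻¹) ^ n * w = θ * ((θ⁻¹) ^ (n + 1) * w) := by
        rw [pow_succ]
        calc (θ⁻¹) ^ n * w = (θ * θ⁻¹) * ((θ⁻¹) ^ n * w) := by rw [hh, one_mul]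
          _ = _ := by ring
      rw [h1, hinv]
  induction f using Polynomial.induction_on' with
  | add f g hf hg =>
    rw [map_add, add_mul, hb.add_left, hf, hg, Polynomial.map_add, map_add, add_mul, hb.add_right]
  | monomial n a =>
    rw [mk_monomial, smul_mul_assoc, hb.smul_left, hpow, map_monomial, aeval_monomial, mul_assoc, ← Algebra.smul_def,
      hb.smul_right, hb.rho2]

/-- the self-duality condition -/
theorem model_D {b : E → E → F} (hb : Sf ρ ε b) (hinv : ∀ x y, b (θ * x) (θ * y) = b x y) (hθ : θ ≠ 0) :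
    aeval (θ⁻¹ : E) (π.map ρ) = 0 := by
  have h1 := fun x => model_adj hb hinv hθ π x 1
  rw [AdjoinRoot.mk_self] at h1
  simp only [zero_mul, hb.zero_left, mul_one] at h1
  exact hb.nd_right _ (fun x => (h1 x).symm)

/-- the involution of the field -/
noncomputable def sig (hD : aeval (θ⁻¹ : E) (π.map ρ) = 0) : E →+* E :=
  AdjoinRoot.lift ((algebraMap F E).comp ρ) (θ⁻¹) (by
    rw [← Polynomial.eval₂_map, ← aeval_def]
    exact hD)

theorem sig_mk (hD : aeval (θ⁻¹ : E) (π.map ρ) = 0) (f : F[X]) :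
    sig hD (AdjoinRoot.mk π f) = aeval (θ⁻¹ : E) (f.map ρ) := by
  rw [sig, AdjoinRoot.lift_mk, aeval_def, Polynomial.eval₂_map]

theorem sig_algebraMap (hD : aeval (θ⁻¹ : E) (π.map ρ) = 0) (c : F) : sig hD (algebraMap F E c) = algebraMap F E (ρ c) := by
  have h1 : algebraMap F E c = AdjoinRoot.mk π (C c) := rfl
  rw [h1, sig_mk]
  simp

theorem sig_root (hD : aeval (θ⁻¹ : E) (π.map ρ) = 0) : sig hD θ = θ⁻¹ := by
  have h1 : θ = AdjoinRoot.mk π X := rfl
  rw [h1, sig_mk]
  simp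

theorem model_adj' {b : E → E → F} (hb : Sf ρ ε b) (hinv : ∀ x y, b (θ * x) (θ * y) = b x y) (hθ : θ ≠ 0)
    (hD : aeval (θ⁻¹ : E) (π.map ρ) = 0) (e x y : E) : b (e * x) y = b x (sig hD e * y) := by
  obtain ⟨f, rfl⟩ := AdjoinRoot.mk_surjective e
  rw [sig_mk]
  exact model_adj hb hinv hθ f x y

theorem sig_sig {b : E → E → F} (hb : Sf ρ ε b) (hinv : ∀ x y, b (θ * x) (θ * y) = b x y) (hθ : θ ≠ 0)
    (hD : aeval (θ⁻¹ : E) (π.map ρ) = 0) (e : E) : sig hD (sig hD e) = e := by
  have h1 : sig hD (sig hD e) - e = 0 := by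
    apply hb.nd_right
    intro x
    have h2 : b x (sig hD (sig hD e)) = b (sig hD e * x) 1 := by
      have h5 := model_adj' hb hinv hθ hD (sig hD e) x 1
      rw [mul_one] at h5
      exact h5.symm
    have h3 : b (sig hD e * x) 1 = b x e := by
      rw [hb.symm 1 (sig hD e * x)]
      have h4 := model_adj' hb hinv hθ hD e 1 x
      rw [mul_one] at h4
      rw [← h4]
      exact (hb.symm e x).symm
    rw [hb.sub_right, h2, h3, sub_self]
  exact sub_eq_zero.1 h1

/-- uniqueness of forms on the field -/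
theorem model_unique [Module.Finite F E] {b b' : E → E → F} (hb : Sf ρ ε b) (hb' : Sf ρ ε b') (hinv : ∀ x y, b (θ * x) (θ * y) = b x y)
    (hinv' : ∀ x y, b' (θ * x) (θ * y) = b' x y) (hθ : θ ≠ 0) (hσ : (∃ c, ρ c ≠ c) ∨ (θ⁻¹ : E) ≠ θ) :
    ∃ d : E, d ≠ 0 ∧ ∀ x y, b' (d * x) (d * y) = b x y := by
  have hD := model_D hb hinv hθ
  let σ := sig hD
  have hσσ : ∀ e, σ (σ e) = e := sig_sig hb hinv hθ hD
  have hne : ∃ e, σ e ≠ e := by
    rcases hσ with ⟨c, hc⟩ | h
    · refine ⟨algebraMap F E c, ?_⟩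
      change sig hD _ ≠ _
      rw [sig_algebraMap]
      intro h
      exact hc ((algebraMap F E).injective h)
    · refine ⟨θ, ?_⟩
      change sig hD _ ≠ _
      rw [sig_root]
      exact h
  have hadj : ∀ e x y, b (e * x) y = b x (σ e * y) := model_adj' hb hinv hθ hD
  have hadj' : ∀ e x y, b' (e * x) y = b' x (σ e * y) := model_adj' hb' hinv' hθ hD
  have hl : ∀ x y, b x y = b (σ y * x) 1 := by
    intro x y
    rw [hadj, hσσ, mul_one]
  have hl' : ∀ x y, b' x y = b' (σ y * x) 1 := by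
    intro x y
    rw [hadj', hσσ, mul_one]
  -- represent the functional of `b'` through `b`
  obtain ⟨y₀, hy₀⟩ := riesz_top hb (hb'.leftL 1)
  simp only [Sf.leftL_apply] at hy₀
  obtain ⟨c, hc⟩ : ∃ c, c = σ y₀ := ⟨_, rfl⟩
  have hc1 : ∀ e, b' e 1 = b (c * e) 1 := by
    intro e
    rw [← hy₀, hl, hc, mul_comm]
  have hc0 : c ≠ 0 := by
    intro h
    have h1 : (1 : E) = 0 := by
      apply hb'.nd
      intro y
      rw [hl', hc1, h, zero_mul, hb.zero_left]
    exact one_ne_zero h1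
  have hsym : ∀ x, b (σ x) 1 = ε * ρ (b x 1) := by
    intro x
    have h1 := hl 1 x
    rw [mul_one] at h1
    rw [← h1]
    exact hb.symm x 1
  have hsym' : ∀ x, b' (σ x) 1 = ε * ρ (b' x 1) := by
    intro x
    have h1 := hl' 1 x
    rw [mul_one] at h1
    rw [← h1]
    exact hb'.symm x 1
  have hcσ : σ c = c := by
    have h1 : ∀ u, b ((c - σ c) * u) 1 = 0 := by
      intro u
      have h2 := hsym' (σ u)
      rw [hσσ, hc1, hc1, ← hsym, map_mul, hσσ] at h2
      rw [sub_mul, hb.sub_left, h2, sub_self]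
    by_contra hne2
    have h3 : c - σ c ≠ 0 := sub_ne_zero.2 (Ne.symm hne2)
    have h4 : (1 : E) = 0 := by
      apply hb.nd
      intro y
      have h5 := h1 ((c - σ c)⁻¹ * (σ y))
      rw [← mul_assoc, mul_inv_cancel₀ h3, one_mul] at h5
      rw [hl, mul_one]
      exact h5
    exact one_ne_zero h4
  haveI : Finite E := Module.finite_of_finite F
  haveI : Fintype E := Fintype.ofFinite E
  obtain ⟨d, hd⟩ := norm_of_invol σ hσσ hne c⁻¹ (inv_ne_zero hc0) (by rw [map_inv₀, hcσ])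
  have hd0 : d ≠ 0 := by
    rintro rfl
    rw [zero_mul] at hd
    exact inv_ne_zero hc0 hd.symm
  refine ⟨d, hd0, fun x y => ?_⟩
  rw [hl', hc1, hl x y, map_mul]
  congr 1
  calc c * (σ d * σ y * (d * x)) = c * (d * σ d) * (σ y * x) := by ring
    _ = σ y * x := by rw [hd, mul_inv_cancel₀ hc0, one_mul]

end model

end Cfsg.Agent.H11.Wall
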