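import Cfsg.Agent.Lib.H11.Wall2

/-! The action of the residue field on the kernel of `π(A)`; nondegenerate pieces. -/

set_option autoImplicit false
set_option linter.unusedSectionVars false
set_option linter.unusedVariables false

namespace Cfsg.Agent.H11.Wall

open Polynomial Module Cfsg.Agent.H10

universe u v

variable {F : Type u} [Field F] [Fintype F] {ρ : F →+* F} {ε : F}

section phi

variable {V : Type v} [AddCommGroup V] [Module F V] (A : V →ₗ[F] V) (π : F[X])

/-- the orbit map of a vector killed by `π(A)` -/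
noncomputable def phi (v : V) (hv : aeval A π v = 0) : AdjoinRoot π →ₗ[F] V :=
  (Submodule.subtype (LinearMap.ker (aeval A π))) ∘ₗ
    (LinearMap.applyₗ (⟨v, hv⟩ : LinearMap.ker (aeval A π))) ∘ₗ (kerAct A π).toLinearMap

variable {A π}

theorem phi_mk (v : V) (hv : aeval A π v = 0) (f : F[X]) : phi A π v hv (AdjoinRoot.mk π f) = aeval A f v :=
  aeval_restrict_coe A (ker_aeval_inv A π) f ⟨v, hv⟩

theorem phi_one (v : V) (hv : aeval A π v = 0) : phi A π v hv 1 = v := by
  have := phi_mk v hv 1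
  simpa using this

theorem phi_root_mul (v : V) (hv : aeval A π v = 0) (e : AdjoinRoot π) :
    phi A π v hv (AdjoinRoot.root π * e) = A (phi A π v hv e) := by
  obtain ⟨f, rfl⟩ := AdjoinRoot.mk_surjective e
  rw [phi_mk, ← AdjoinRoot.mk_X, ← map_mul, phi_mk, map_mul, aeval_X]
  rfl

theorem phi_inj [hπ : Fact (Irreducible π)] (v : V) (hv : aeval A π v = 0) (hv0 : v ≠ 0) : Function.Injective (phi A π v hv) := by
  rw [← LinearMap.ker_eq_bot, LinearMap.ker_eq_bot']
  intro e he
  by_contra h0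
  apply hv0
  have h1 : (kerAct A π e) ⟨v, hv⟩ = 0 := Subtype.ext he
  have h2 : (kerAct A π (e⁻¹ * e)) ⟨v, hv⟩ = ⟨v, hv⟩ := by
    rw [inv_mul_cancel₀ h0, map_one]
    rfl
  rw [map_mul, Module.End.mul_apply, h1, map_zero] at h2
  exact congrArg Subtype.val h2.symm

theorem phi_mem_ker (v : V) (hv : aeval A π v = 0) (e : AdjoinRoot π) : aeval A π (phi A π v hv e) = 0 :=
  ((kerAct A π e) ⟨v, hv⟩).2

theorem phi_add (x y : V) (hx : aeval A π x = 0) (hy : aeval A π y = 0) (hxy : aeval A π (x + y) = 0) (e : AdjoinRoot π) :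
    phi A π (x + y) hxy e = phi A π x hx e + phi A π y hy e := by
  obtain ⟨f, rfl⟩ := AdjoinRoot.mk_surjective e
  simp only [phi_mk, map_add]

/-- the root has order dividing `N` -/
theorem root_pow [hπ : Fact (Irreducible π)] (N : ℕ) (hAN : A ^ N = 1) (v : V) (hv : aeval A π v = 0) (hv0 : v ≠ 0) :
    (AdjoinRoot.root π) ^ N = 1 := by
  apply phi_inj v hv hv0
  have h1 : AdjoinRoot.root π ^ N = AdjoinRoot.mk π (X ^ N) := by simp
  rw [h1, phi_mk, phi_one]
  simp [hAN]

theorem root_inv [hπ : Fact (Irreducible π)] (N : ℕ) (hN : 0 < N) (hroot : (AdjoinRoot.root π) ^ N = 1) :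
    (AdjoinRoot.root π)⁻¹ = (AdjoinRoot.root π) ^ (N - 1) := by
  have h0 : AdjoinRoot.root π ≠ 0 := by
    intro h
    rw [h, zero_pow (by omega)] at hroot
    exact zero_ne_one hroot
  have h : AdjoinRoot.root π ^ (N - 1) * AdjoinRoot.root π = 1 := by
    rw [← pow_succ, Nat.sub_add_cancel hN, hroot]
  exact (eq_inv_of_mul_eq_one_left h).symm

/-- the inverse operator through the field -/
theorem phi_aeval_inv [hπ : Fact (Irreducible π)] (N : ℕ) (hN : 0 < N) (hroot : (AdjoinRoot.root π) ^ N = 1)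
    (g : F[X]) (v : V) (hv : aeval A π v = 0) :
    phi A π v hv (aeval (AdjoinRoot.root π)⁻¹ g) = aeval (A ^ (N - 1)) g v := by
  rw [root_inv N hN hroot]
  have h1 : aeval ((AdjoinRoot.root π) ^ (N - 1)) g = AdjoinRoot.mk π (g.comp (X ^ (N - 1))) := by
    rw [← AdjoinRoot.aeval_eq, aeval_comp]
    simp
  rw [h1, phi_mk, aeval_comp]
  simp

end phi

section L2

variable {V : Type v} [AddCommGroup V] [Module F V] [FiniteDimensional F V] {B : V → V → F}

theorem pow_inv_mem (t : V →ₗ[F] V) (W : Submodule F V) (hW : ∀ v ∈ W, t v ∈ W) (m : ℕ) (v : V) (hv : v ∈ W) :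
    (t ^ m) v ∈ W := by
  induction m with
  | zero => simpa using hv
  | succ m ih =>
    rw [pow_succ', Module.End.mul_apply]
    exact hW _ ih

/-- operators that are polynomials in `A` preserve invariant subspaces -/
theorem aeval_inv_mem (t : V →ₗ[F] V) (W : Submodule F V) (hW : ∀ v ∈ W, t v ∈ W) (f : F[X]) (v : V) (hv : v ∈ W) :
    aeval t f v ∈ W := by
  induction f using Polynomial.induction_on' with
  | add f g hf hg =>
    simp only [map_add, LinearMap.add_apply]
    exact W.add_mem hf hg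
  | monomial n a =>
    simp only [aeval_monomial, Module.End.mul_apply, Module.algebraMap_end_apply]
    exact W.smul_mem _ (pow_inv_mem t W hW n v hv)

theorem aeval_comm (t c : V →ₗ[F] V) (h : ∀ x, c (t x) = t (c x)) (f : F[X]) (x : V) : c (aeval t f x) = aeval t f (c x) := by
  have hc : ∀ (m : ℕ) (x : V), c ((t ^ m) x) = (t ^ m) (c x) := by
    intro m
    induction m with
    | zero => intro x; simp
    | succ m ih =>
      intro x
      rw [pow_succ, Module.End.mul_apply, ih, h, Module.End.mul_apply]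
  induction f using Polynomial.induction_on' with
  | add f g hf hg =>
    simp only [map_add, LinearMap.add_apply, hf, hg]
  | monomial m a =>
    simp only [aeval_monomial, Module.End.mul_apply, Module.algebraMap_end_apply, map_smul, hc]

/-- The kernel of `π(A)` is nondegenerate when `π` is self-dual. -/
theorem ker_nd (hB : Sf ρ ε B) (A : V →ₗ[F] V) (hS : Module.End.IsSemisimple A) (hiso : ∀ x y, B (A x) (A y) = B x y) (N : ℕ) (hN : 0 < N)
    (hAN : A ^ N = 1) (π : F[X]) (hker : ∀ x, aeval A π x = 0 → aeval (A ^ (N - 1)) (π.map ρ) x = 0) (x : V)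
    (hx : aeval A π x = 0) (hx0 : x ≠ 0) : ∃ y, aeval A π y = 0 ∧ B x y ≠ 0 := by
  classical
  set P := aeval A π with hP
  have hadj : ∀ x y, B (aeval (A ^ (N - 1)) (π.map ρ) x) y = B x (P y) := by
    intro x y
    have h1 := adj_aeval hB (A ^ (N - 1)) A (iso_adj' A hiso N hN hAN) (π.map ρ) x y
    rw [Polynomial.map_map] at h1
    have h2 : ρ.comp ρ = RingHom.id F := by
      ext c
      exact hB.rho2 c
    rw [h2, Polynomial.map_id] at h1
    exact h1
  have hcomm : ∀ y, P (A y) = A (P y) := fun y => (aeval_comm A A (fun _ => rfl) π y).symm ▸ rfl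
  have hKinv : LinearMap.ker P ∈ Module.End.invtSubmodule A := by
    rw [Module.End.mem_invtSubmodule]
    intro y hy
    rw [Submodule.mem_comap, LinearMap.mem_ker, hcomm, LinearMap.mem_ker.1 hy, map_zero]
  obtain ⟨C, hC, hcompl⟩ := (Module.End.isSemisimple_iff.1 hS) _ hKinv
  have hCinv : ∀ y ∈ C, A y ∈ C := fun y hy => (Module.End.mem_invtSubmodule A).1 hC hy
  have hPC : ∀ y ∈ C, P y ∈ C := fun y hy => aeval_inv_mem A C hCinv π y hy
  -- `P` is onto `C`
  let PC : C →ₗ[F] C := P.restrict hPC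
  have hinj : Function.Injective PC := by
    rw [← LinearMap.ker_eq_bot, LinearMap.ker_eq_bot']
    rintro ⟨y, hy⟩ h
    have h1 : P y = 0 := congrArg Subtype.val h
    have h2 : y ∈ LinearMap.ker P ⊓ C := ⟨h1, hy⟩
    rw [hcompl.inf_eq_bot] at h2
    exact Subtype.ext ((Submodule.mem_bot F).1 h2)
  have hsurj : Function.Surjective PC := LinearMap.injective_iff_surjective.1 hinj
  have hxC : ∀ y ∈ C, B x y = 0 := by
    intro y hy
    obtain ⟨⟨y₀, hy₀⟩, h1⟩ := hsurj ⟨y, hy⟩
    have h2 : P y₀ = y := congrArg Subtype.val h1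
    rw [← h2, ← hadj, hker x hx, hB.zero_left]
  by_contra hcon
  push Not at hcon
  apply hx0
  apply hB.nd
  intro z
  have hz : z ∈ LinearMap.ker P ⊔ C := by
    rw [hcompl.sup_eq_top]
    exact Submodule.mem_top
  obtain ⟨k, hk, c, hc, rfl⟩ := Submodule.mem_sup.1 hz
  rw [hB.add_right, hcon k hk, hxC c hc, add_zero]

/-- A nondegenerate cyclic subspace exists in the self-dual case. -/
theorem exists_nd_cyclic (hB : Sf ρ ε B) (A : V →ₗ[F] V) (hS : Module.End.IsSemisimple A) (hiso : ∀ x y, B (A x) (A y) = B x y) (N : ℕ) (hN : 0 < N)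
    (hAN : A ^ N = 1) (π : F[X]) [hπ : Fact (Irreducible π)] (hD : aeval (AdjoinRoot.root π)⁻¹ (π.map ρ) = 0)
    (hσ : (∃ c, ρ c ≠ c) ∨ ((AdjoinRoot.root π)⁻¹ : AdjoinRoot π) ≠ AdjoinRoot.root π) (x₀ : V) (hx₀ : aeval A π x₀ = 0)
    (hx₀0 : x₀ ≠ 0) :
    ∃ (v : V) (hv : aeval A π v = 0) (e₁ e₂ : AdjoinRoot π), B (phi A π v hv e₁) (phi A π v hv e₂) ≠ 0 := by
  have hroot := root_pow N hAN x₀ hx₀ hx₀0
  have hker : ∀ x, aeval A π x = 0 → aeval (A ^ (N - 1)) (π.map ρ) x = 0 := by
    intro x hx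
    rw [← phi_aeval_inv N hN hroot (π.map ρ) x hx, hD, map_zero]
  by_contra hcon
  push Not at hcon
  have hiso0 : ∀ (x : V) (hx : aeval A π x = 0) (g : F[X]), B (aeval A g x) x = 0 := by
    intro x hx g
    have h1 := hcon x hx (AdjoinRoot.mk π g) 1
    rwa [phi_mk, phi_one] at h1
  have hpolar : ∀ (x y : V) (hx : aeval A π x = 0) (hy : aeval A π y = 0) (g : F[X]),
      B (aeval A g x) y + B (aeval A g y) x = 0 := by
    intro x y hx hy g
    have hxy : aeval A π (x + y) = 0 := by rw [map_add, hx, hy, add_zero]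
    have h1 := hiso0 (x + y) hxy g
    rw [map_add, hB.add_left, hB.add_right, hB.add_right, hiso0 x hx, hiso0 y hy] at h1
    rw [add_comm]
    linear_combination h1
  obtain ⟨y₀, hy₀, hxy₀⟩ := ker_nd hB A hS hiso N hN hAN π hker x₀ hx₀ hx₀0
  have hKA : ∀ y, aeval A π y = 0 → aeval A π (A y) = 0 := by
    intro y hy
    have := aeval_comm A A (fun _ => rfl) π y
    rw [← this, hy, map_zero]
  rcases hσ with ⟨c, hc⟩ | hθ
  · -- a scalar that moves
    have h1 : ∀ (x y : V), aeval A π x = 0 → aeval A π y = 0 → B x (c • y) = B (c • x) y := by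
      intro x y hx hy
      have hcy : aeval A π (c • y) = 0 := by rw [map_smul, hy, smul_zero]
      have h2 := hpolar x (c • y) hx hcy 1
      have h3 := hpolar x y hx hy (C c)
      simp only [map_one, Module.End.one_apply, aeval_C, Module.algebraMap_end_apply] at h2 h3
      linear_combination h2 - h3
    have h2 := h1 x₀ y₀ hx₀ hy₀
    rw [hB.smul_right, hB.smul_left] at h2
    have h3 : (ρ c - c) * B x₀ y₀ = 0 := by linear_combination h2
    rcases mul_eq_zero.1 h3 with h4 | h4
    · exact hc (sub_eq_zero.1 h4)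
    · exact hxy₀ h4
  · -- the root itself moves
    have h1 : ∀ (x y : V), aeval A π x = 0 → aeval A π y = 0 → B x (A y) = B (A x) y := by
      intro x y hx hy
      have h2 := hpolar x (A y) hx (hKA y hy) 1
      have h3 := hpolar x y hx hy X
      simp only [map_one, Module.End.one_apply, aeval_X] at h2 h3
      linear_combination h2 - h3
    -- `(A - A⁻¹) y = 0` on the kernel
    have h2 : (AdjoinRoot.root π)⁻¹ - AdjoinRoot.root π = 0 := by
      apply phi_inj y₀ hy₀ (by
        rintro rfl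
        exact hxy₀ (hB.zero_right _))
      have h3 : phi A π y₀ hy₀ ((AdjoinRoot.root π)⁻¹) = (A ^ (N - 1)) y₀ := by
        have h4 := phi_aeval_inv N hN hroot X y₀ hy₀
        simpa using h4
      have h5 : phi A π y₀ hy₀ (AdjoinRoot.root π) = A y₀ := by
        have h6 := phi_root_mul y₀ hy₀ 1
        rwa [mul_one, phi_one] at h6
      rw [map_sub, h3, h5, map_zero, sub_eq_zero]
      have hKinv2 : aeval A π ((A ^ (N - 1)) y₀ - A y₀) = 0 := by
        rw [map_sub, hKA y₀ hy₀]
        have h7 := aeval_comm A (A ^ (N - 1)) (fun z => by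
          rw [← Module.End.mul_apply, ← Module.End.mul_apply, ← pow_succ, ← pow_succ']) π y₀
        rw [← h7, hy₀, map_zero, sub_zero]
      by_contra hne
      have hne2 : (A ^ (N - 1)) y₀ - A y₀ ≠ 0 := sub_ne_zero.2 hne
      obtain ⟨z, hz, hz2⟩ := ker_nd hB A hS hiso N hN hAN π hker _ hKinv2 hne2
      apply hz2
      rw [hB.sub_left, iso_adj' A hiso N hN hAN, h1 y₀ z hy₀ hz, sub_self]
    exact hθ (sub_eq_zero.1 h2)

end L2

end Cfsg.Agent.H11.Wall
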