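import Cfsg.Agent.Lib.H11.Wall3

/-! Nondegenerate pieces. -/

set_option autoImplicit false
set_option linter.unusedSectionVars false
set_option linter.unusedVariables false

namespace Cfsg.Agent.H11.Wall

open Polynomial Module Cfsg.Agent.H10

universe u v

variable {F : Type u} [Field F] [Fintype F] {ρ : F →+* F} {ε : F}

section pieces

variable {V V' : Type v} [AddCommGroup V] [Module F V] [FiniteDimensional F V] [AddCommGroup V'] [Module F V']
  [FiniteDimensional F V'] {B : V → V → F} {B' : V' → V' → F}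

/-- isometric, intertwining nondegenerate subspaces -/
def HasPiece (B : V → V → F) (B' : V' → V' → F) (A : V →ₗ[F] V) (A' : V' →ₗ[F] V') : Prop :=
  ∃ (W : Submodule F V) (W' : Submodule F V') (hW : ∀ v ∈ W, A v ∈ W) (hW' : ∀ v ∈ W', A' v ∈ W') (g : W ≃ₗ[F] W'),
    W ≠ ⊥ ∧ (∀ x ∈ W, (∀ y ∈ W, B x y = 0) → x = 0) ∧
    (∀ x : W, ((g (A.restrict hW x) : W') : V') = A' (g x)) ∧ ∀ x y : W, B' (g x) (g y) = B x y

theorem phi_zero_of {A : V →ₗ[F] V} {π : F[X]} (hv : aeval A π (0 : V) = 0) (e : AdjoinRoot π) : phi A π 0 hv e = 0 := by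
  obtain ⟨f, rfl⟩ := AdjoinRoot.mk_surjective e
  rw [phi_mk, map_zero]

/-- the piece in the self-dual case -/
theorem piece_I (hB : Sf ρ ε B) (hB' : Sf ρ ε B') (A : V →ₗ[F] V) (A' : V' →ₗ[F] V')
    (hiso : ∀ x y, B (A x) (A y) = B x y) (hiso' : ∀ x y, B' (A' x) (A' y) = B' x y) (N : ℕ) (hN : 0 < N)
    (hAN : A ^ N = 1) (π : F[X]) [hπ : Fact (Irreducible π)] (v : V) (hv : aeval A π v = 0) (v' : V') (hv' : aeval A' π v' = 0)
    (hne : ∃ e₁ e₂, B (phi A π v hv e₁) (phi A π v hv e₂) ≠ 0) (hne' : ∃ e₁ e₂, B' (phi A' π v' hv' e₁) (phi A' π v' hv' e₂) ≠ 0)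
    (hσ : (∃ c, ρ c ≠ c) ∨ ((AdjoinRoot.root π)⁻¹ : AdjoinRoot π) ≠ AdjoinRoot.root π) :
    HasPiece B B' A A' := by
  classical
  have hv0 : v ≠ 0 := by
    rintro rfl
    obtain ⟨e₁, e₂, h⟩ := hne
    rw [phi_zero_of hv, phi_zero_of hv, hB.zero_left] at h
    exact h rfl
  have hv'0 : v' ≠ 0 := by
    rintro rfl
    obtain ⟨e₁, e₂, h⟩ := hne'
    rw [phi_zero_of hv', phi_zero_of hv', hB'.zero_left] at h
    exact h rfl
  have hroot := root_pow N hAN v hv hv0
  have hθ : AdjoinRoot.root π ≠ 0 := by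
    intro h
    rw [h, zero_pow hN.ne'] at hroot
    exact zero_ne_one hroot
  let φ := phi A π v hv
  let φ' := phi A' π v' hv'
  let b : AdjoinRoot π → AdjoinRoot π → F := fun e₁ e₂ => B (φ e₁) (φ e₂)
  let b' : AdjoinRoot π → AdjoinRoot π → F := fun e₁ e₂ => B' (φ' e₁) (φ' e₂)
  have hinv : ∀ x y, b (AdjoinRoot.root π * x) (AdjoinRoot.root π * y) = b x y := by
    intro x y
    simp only [b, φ, phi_root_mul, hiso]
  have hinv' : ∀ x y, b' (AdjoinRoot.root π * x) (AdjoinRoot.root π * y) = b' x y := by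
    intro x y
    simp only [b', φ', phi_root_mul, hiso']
  have hb : Sf ρ ε b :=
    { rho2 := hB.rho2
      eps := hB.eps
      add_left := fun a a' c => by simp only [b, map_add, hB.add_left]
      smul_left := fun c a d => by simp only [b, map_smul, hB.smul_left]
      symm := fun a c => hB.symm _ _
      nd := model_nd π b (fun a a' c => by simp only [b, map_add, hB.add_left])
        (fun c a d => by simp only [b, map_smul, hB.smul_left]) hinv hθ hne }
  have hb' : Sf ρ ε b' :=
    { rho2 := hB'.rho2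
      eps := hB'.eps
      add_left := fun a a' c => by simp only [b', map_add, hB'.add_left]
      smul_left := fun c a d => by simp only [b', map_smul, hB'.smul_left]
      symm := fun a c => hB'.symm _ _
      nd := model_nd π b' (fun a a' c => by simp only [b', map_add, hB'.add_left])
        (fun c a d => by simp only [b', map_smul, hB'.smul_left]) hinv' hθ hne' }
  haveI : Module.Finite F (AdjoinRoot π) := (AdjoinRoot.powerBasis hπ.out.ne_zero).finite
  obtain ⟨d, hd0, hd⟩ := model_unique hb hb' hinv hinv' hθ hσ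
  have hφi : Function.Injective φ := phi_inj v hv hv0
  have hφi' : Function.Injective φ' := phi_inj v' hv' hv'0
  let eW := LinearEquiv.ofInjective φ hφi
  let eW' := LinearEquiv.ofInjective φ' hφi'
  let md : AdjoinRoot π ≃ₗ[F] AdjoinRoot π :=
    { LinearMap.mulLeft F d with
      invFun := fun a => d⁻¹ * a
      left_inv := fun a => by
        change d⁻¹ * (d * a) = a
        rw [← mul_assoc, inv_mul_cancel₀ hd0, one_mul]
      right_inv := fun a => by
        change d * (d⁻¹ * a) = a
        rw [← mul_assoc, mul_inv_cancel₀ hd0, one_mul] }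
  have hmd : ∀ a, md a = d * a := fun _ => rfl
  have hW : ∀ x ∈ LinearMap.range φ, A x ∈ LinearMap.range φ := by
    rintro _ ⟨e, rfl⟩
    exact ⟨AdjoinRoot.root π * e, phi_root_mul v hv e⟩
  have hW' : ∀ x ∈ LinearMap.range φ', A' x ∈ LinearMap.range φ' := by
    rintro _ ⟨e, rfl⟩
    exact ⟨AdjoinRoot.root π * e, phi_root_mul v' hv' e⟩
  let g : LinearMap.range φ ≃ₗ[F] LinearMap.range φ' := eW.symm.trans (md.trans eW')
  have hg : ∀ e, g (eW e) = eW' (d * e) := by
    intro e
    simp only [g, LinearEquiv.trans_apply, LinearEquiv.symm_apply_apply, hmd]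
  have hsurj : ∀ x : LinearMap.range φ, ∃ e, x = eW e := fun x => ⟨eW.symm x, (eW.apply_symm_apply x).symm⟩
  have heW : ∀ e, ((eW e : LinearMap.range φ) : V) = φ e := fun _ => rfl
  have heW' : ∀ e, ((eW' e : LinearMap.range φ') : V') = φ' e := fun _ => rfl
  refine ⟨_, _, hW, hW', g, ?_, ?_, ?_, ?_⟩
  · intro h
    have h1 : v ∈ LinearMap.range φ := ⟨1, phi_one v hv⟩
    rw [h] at h1
    exact hv0 ((Submodule.mem_bot F).1 h1)
  · rintro _ ⟨e, rfl⟩ h
    have h1 : e = 0 := by
      apply hb.nd
      intro y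
      exact h _ ⟨y, rfl⟩
    rw [h1, map_zero]
  · intro x
    obtain ⟨e, rfl⟩ := hsurj x
    have h1 : A.restrict hW (eW e) = eW (AdjoinRoot.root π * e) := by
      apply Subtype.ext
      exact (phi_root_mul v hv e).symm
    rw [h1, hg, hg, heW', heW']
    rw [← mul_assoc, mul_comm d, mul_assoc]
    exact phi_root_mul v' hv' _
  · intro x y
    obtain ⟨e, rfl⟩ := hsurj x
    obtain ⟨e', rfl⟩ := hsurj y
    rw [hg, hg, heW', heW', heW, heW]
    exact hd e e'

/-- the partner of an isotropic cyclic subspace -/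
theorem partner (hB : Sf ρ ε B) (A : V →ₗ[F] V) (hS : Module.End.IsSemisimple A)
    (hiso : ∀ x y, B (A x) (A y) = B x y) (N : ℕ) (hN : 0 < N)
    (hAN : A ^ N = 1) (halt : (∀ c, ρ c = c) → ∀ v, (A v = v ∨ A v = -v) → B v v = 0)
    (π : F[X]) [hπ : Fact (Irreducible π)] (v : V) (hv : aeval A π v = 0) (hv0 : v ≠ 0)
    (hiso0 : ∀ (x : V) (hx : aeval A π x = 0) (e₁ e₂ : AdjoinRoot π), B (phi A π x hx e₁) (phi A π x hx e₂) = 0) :
    ∃ W₂ : Submodule F V, (∀ w ∈ W₂, A w ∈ W₂) ∧
      (∀ f : LinearMap.range (phi A π v hv) →ₗ[F] F, ∃ w ∈ W₂, ∀ u : LinearMap.range (phi A π v hv), B u w = f u) ∧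
      (∀ w ∈ W₂, (∀ u ∈ LinearMap.range (phi A π v hv), B u w = 0) → w = 0) ∧
      (∀ u ∈ LinearMap.range (phi A π v hv), (∀ w ∈ W₂, B u w = 0) → u = 0) ∧
      (∀ x ∈ W₂, ∀ y ∈ W₂, B x y = 0) := by
  classical
  set W₁ := LinearMap.range (phi A π v hv) with hW₁
  have hW₁inv : ∀ x ∈ W₁, A x ∈ W₁ := by
    rintro _ ⟨e, rfl⟩
    exact ⟨AdjoinRoot.root π * e, phi_root_mul v hv e⟩
  have hOinv : orth hB W₁ ∈ Module.End.invtSubmodule A := by
    rw [Module.End.mem_invtSubmodule]
    intro y hy w hw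
    rw [← iso_adj' A hiso N hN hAN]
    exact hy _ (pow_inv_mem A W₁ hW₁inv _ _ hw)
  obtain ⟨W₂, hW₂, hcompl⟩ := (Module.End.isSemisimple_iff.1 hS) _ hOinv
  have hW₂inv : ∀ w ∈ W₂, A w ∈ W₂ := fun y hy => (Module.End.mem_invtSubmodule A).1 hW₂ hy
  have hdecomp : ∀ z : V, ∃ o ∈ orth hB W₁, ∃ w ∈ W₂, o + w = z := by
    intro z
    have hz : z ∈ orth hB W₁ ⊔ W₂ := by
      rw [hcompl.sup_eq_top]
      exact Submodule.mem_top
    exact Submodule.mem_sup.1 hz
  have p3 : ∀ w ∈ W₂, (∀ u ∈ W₁, B u w = 0) → w = 0 := by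
    intro w hw h
    have h2 : w ∈ orth hB W₁ ⊓ W₂ := ⟨h, hw⟩
    rw [hcompl.inf_eq_bot] at h2
    exact (Submodule.mem_bot F).1 h2
  refine ⟨W₂, hW₂inv, ?_, p3, ?_, ?_⟩
  · intro f
    obtain ⟨g, hg⟩ := LinearMap.exists_extend f
    obtain ⟨y, hy⟩ := riesz_top hB g
    obtain ⟨o, ho, w, hw, rfl⟩ := hdecomp y
    refine ⟨w, hw, fun u => ?_⟩
    have h1 := hy u
    rw [hB.add_right, ho u u.2, zero_add] at h1
    rw [h1]
    exact LinearMap.congr_fun hg u
  · intro u hu h
    apply hB.nd
    intro z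
    obtain ⟨o, ho, w, hw, rfl⟩ := hdecomp z
    rw [hB.add_right, ho u hu, h w hw, add_zero]
  · -- isotropy
    have hroot := root_pow N hAN v hv hv0
    have hKer : ∀ u ∈ W₁, aeval A π u = 0 := by
      rintro _ ⟨e, rfl⟩
      exact phi_mem_ker v hv e
    have hadj : ∀ x y, B (aeval (A ^ (N - 1)) (π.map ρ) x) y = B x (aeval A π y) := by
      intro x y
      have h1 := adj_aeval hB (A ^ (N - 1)) A (iso_adj' A hiso N hN hAN) (π.map ρ) x y
      rw [Polynomial.map_map] at h1
      have h2 : ρ.comp ρ = RingHom.id F := by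
        ext c
        exact hB.rho2 c
      rw [h2, Polynomial.map_id] at h1
      exact h1
    have hadj2 : ∀ x y, B (aeval A π x) y = B x (aeval (A ^ (N - 1)) (π.map ρ) y) :=
      adj_aeval hB A (A ^ (N - 1)) (iso_adj A hiso N hN hAN) π
    have hinvW₂ : ∀ w ∈ W₂, (A ^ (N - 1)) w ∈ W₂ := fun w hw => pow_inv_mem A W₂ hW₂inv _ _ hw
    have hPh : ∀ w ∈ W₂, aeval (A ^ (N - 1)) (π.map ρ) w = 0 := by
      intro w hw
      apply p3 _ (aeval_inv_mem _ W₂ hinvW₂ _ _ hw)
      intro u hu
      rw [← hadj2, hKer u hu, hB.zero_left]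
    by_cases hD : aeval (AdjoinRoot.root π)⁻¹ (π.map ρ) = 0
    · -- self-dual but the involution is trivial
      by_cases hσ : (∃ c, ρ c ≠ c) ∨ ((AdjoinRoot.root π)⁻¹ : AdjoinRoot π) ≠ AdjoinRoot.root π
      · exfalso
        obtain ⟨x, hx, e₁, e₂, h⟩ := exists_nd_cyclic hB A hS hiso N hN hAN π hD hσ v hv hv0
        exact h (hiso0 x hx e₁ e₂)
      · push Not at hσ
        obtain ⟨hρ, hθ⟩ := hσ
        have hθ0 : AdjoinRoot.root π ≠ 0 := by
          intro h
          rw [h, zero_pow hN.ne'] at hroot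
          exact zero_ne_one hroot
        have hθ2 : AdjoinRoot.root π * AdjoinRoot.root π = 1 := by
          nth_rewrite 1 [← hθ]
          exact inv_mul_cancel₀ hθ0
        obtain ⟨μ, hμ, hμ2⟩ : ∃ μ : F, AdjoinRoot.root π = algebraMap F (AdjoinRoot π) μ ∧ (μ = 1 ∨ μ = -1) := by
          rcases mul_self_eq_one_iff.1 hθ2 with h | h
          · exact ⟨1, by rw [h, map_one], Or.inl rfl⟩
          · exact ⟨-1, by rw [h, map_neg, map_one], Or.inr rfl⟩
        have hμμ : μ * μ = 1 := by
          rcases hμ2 with rfl | rfl <;> simp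
        have hAv : A v = μ • v := by
          have h6 := phi_root_mul v hv 1
          rw [mul_one, phi_one, hμ] at h6
          rw [← h6]
          have h7 : algebraMap F (AdjoinRoot π) μ = AdjoinRoot.mk π (C μ) := rfl
          rw [h7, phi_mk]
          simp
        have h10 : ∀ n : ℕ, (A ^ n) v = μ ^ n • v := by
          intro n
          induction n with
          | zero => simp
          | succ n ih =>
            rw [pow_succ, Module.End.mul_apply, hAv, map_smul, ih, smul_smul, pow_succ, mul_comm]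
        have h9 : ∀ f : F[X], aeval A f v = f.eval μ • v := by
          intro f
          induction f using Polynomial.induction_on' with
          | add f g hf hg =>
            simp only [map_add, LinearMap.add_apply, eval_add, add_smul, hf, hg]
          | monomial n a =>
            simp only [aeval_monomial, Module.End.mul_apply, Module.algebraMap_end_apply, eval_monomial, h10, smul_smul]
        have hsc : ∀ u ∈ W₁, ∃ c : F, u = c • v := by
          rintro _ ⟨e, rfl⟩
          obtain ⟨f, rfl⟩ := AdjoinRoot.mk_surjective e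
          exact ⟨f.eval μ, by rw [phi_mk, h9]⟩
        have hvA : v = A (μ • v) := by
          rw [map_smul, hAv, smul_smul, hμμ, one_smul]
        have heig : ∀ w ∈ W₂, A w = μ • w := by
          intro w hw
          have h1 : A w - μ • w = 0 := by
            apply p3 _ (W₂.sub_mem (hW₂inv w hw) (W₂.smul_mem _ hw))
            intro u hu
            obtain ⟨c, rfl⟩ := hsc u hu
            rw [hB.smul_left, hB.sub_right, hB.smul_right, hρ μ]
            have h2 : B v (A w) = B (μ • v) w := by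
              conv_lhs => rw [hvA]
              exact hiso _ _
            rw [h2, hB.smul_left, sub_self, mul_zero]
          exact sub_eq_zero.1 h1
        have hww : ∀ w ∈ W₂, B w w = 0 := by
          intro w hw
          apply halt hρ
          rw [heig w hw]
          rcases hμ2 with rfl | rfl
          · left
            simp
          · right
            simp
        intro x hx y hy
        have h1 : B v y • x - B v x • y = 0 := by
          apply p3 _ (W₂.sub_mem (W₂.smul_mem _ hx) (W₂.smul_mem _ hy))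
          intro u hu
          obtain ⟨c, rfl⟩ := hsc u hu
          rw [hB.smul_left, hB.sub_right, hB.smul_right, hB.smul_right, hρ, hρ]
          ring
        by_cases ha : B v x = 0
        · have h2 : x = 0 := by
            apply p3 x hx
            intro u hu
            obtain ⟨c, rfl⟩ := hsc u hu
            rw [hB.smul_left, ha, mul_zero]
          rw [h2, hB.zero_left]
        · have h2 : y = (B v x)⁻¹ • (B v y • x) := by
            have h3 : B v y • x = B v x • y := sub_eq_zero.1 h1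
            rw [h3, smul_smul, inv_mul_cancel₀ ha, one_smul]
          rw [h2, hB.smul_right, hB.smul_right, hww x hx, mul_zero, mul_zero]
    · have hPW : ∀ w ∈ W₂, aeval A π w ∈ W₂ := fun w hw => aeval_inv_mem A W₂ hW₂inv π w hw
      let PC : W₂ →ₗ[F] W₂ := (aeval A π).restrict hPW
      have hinj : Function.Injective PC := by
        rw [← LinearMap.ker_eq_bot, LinearMap.ker_eq_bot']
        rintro ⟨w, hw⟩ h
        have h1 : aeval A π w = 0 := congrArg Subtype.val h
        by_contra hne
        have hw0 : w ≠ 0 := fun h0 => hne (Subtype.ext h0)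
        apply hD
        apply phi_inj w h1 hw0
        rw [map_zero, phi_aeval_inv N hN hroot _ w h1, hPh w hw]
      have hsurj : Function.Surjective PC := LinearMap.injective_iff_surjective.1 hinj
      intro x hx y hy
      obtain ⟨⟨y₀, hy₀⟩, h1⟩ := hsurj ⟨y, hy⟩
      have h2 : aeval A π y₀ = y := congrArg Subtype.val h1
      rw [← h2, ← hadj, hPh x hx, hB.zero_left]

end pieces

end Cfsg.Agent.H11.Wall
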