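import Cfsg.Agent.Lib.H11.Wall4

/-! Classification of invariant forms for semisimple operators of finite order. -/

set_option autoImplicit false
set_option linter.unusedSectionVars false
set_option linter.unusedVariables false

namespace Cfsg.Agent.H11.Wall

open Polynomial Module Cfsg.Agent.H10

universe u v

variable {F : Type u} [Field F] [Fintype F] {ρ : F →+* F} {ε : F}

section pieces

variable {V V' : Type v} [AddCommGroup V] [Module F V] [FiniteDimensional F V] [AddCommGroup V'] [Module F V']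
  [FiniteDimensional F V'] {B : V → V → F} {B' : V' → V' → F}

/-- the piece in the isotropic case -/
theorem piece_II (hB : Sf ρ ε B) (hB' : Sf ρ ε B') (A : V →ₗ[F] V) (A' : V' →ₗ[F] V')
    (hS : Module.End.IsSemisimple A) (hS' : Module.End.IsSemisimple A')
    (hiso : ∀ x y, B (A x) (A y) = B x y) (hiso' : ∀ x y, B' (A' x) (A' y) = B' x y) (N : ℕ) (hN : 0 < N)
    (hAN : A ^ N = 1) (hAN' : A' ^ N = 1) (halt : (∀ c, ρ c = c) → ∀ v, (A v = v ∨ A v = -v) → B v v = 0)
    (halt' : (∀ c, ρ c = c) → ∀ v, (A' v = v ∨ A' v = -v) → B' v v = 0)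
    (π : F[X]) [hπ : Fact (Irreducible π)] (v : V) (hv : aeval A π v = 0) (hv0 : v ≠ 0) (v' : V') (hv' : aeval A' π v' = 0) (hv'0 : v' ≠ 0)
    (hiso0 : ∀ (x : V) (hx : aeval A π x = 0) (e₁ e₂ : AdjoinRoot π), B (phi A π x hx e₁) (phi A π x hx e₂) = 0)
    (hiso0' : ∀ (x : V') (hx : aeval A' π x = 0) (e₁ e₂ : AdjoinRoot π), B' (phi A' π x hx e₁) (phi A' π x hx e₂) = 0) :
    HasPiece B B' A A' := by
  classical
  obtain ⟨W₂, hW₂i, p2, p3, p4, p5⟩ := partner hB A hS hiso N hN hAN halt π v hv hv0 hiso0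
  obtain ⟨W₂', hW₂i', p2', p3', p4', p5'⟩ := partner hB' A' hS' hiso' N hN hAN' halt' π v' hv' hv'0 hiso0'
  let φ := phi A π v hv
  let φ' := phi A' π v' hv'
  have hφi : Function.Injective φ := phi_inj v hv hv0
  have hφi' : Function.Injective φ' := phi_inj v' hv' hv'0
  set W₁ := LinearMap.range φ with hW₁
  set W₁' := LinearMap.range φ' with hW₁'
  let eW := LinearEquiv.ofInjective φ hφi
  let eW' := LinearEquiv.ofInjective φ' hφi'
  let ψ : W₁ ≃ₗ[F] W₁' := eW.symm.trans eW'
  have hψ : ∀ e, ψ (eW e) = eW' e := fun e => by simp [ψ]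
  have hsurj : ∀ x : W₁, ∃ e, x = eW e := fun x => ⟨eW.symm x, (eW.apply_symm_apply x).symm⟩
  have hsurj' : ∀ x : W₁', ∃ e, x = eW' e := fun x => ⟨eW'.symm x, (eW'.apply_symm_apply x).symm⟩
  have heW : ∀ e, ((eW e : W₁) : V) = φ e := fun _ => rfl
  have heW' : ∀ e, ((eW' e : W₁') : V') = φ' e := fun _ => rfl
  have hW₁i : ∀ x ∈ W₁, A x ∈ W₁ := by
    rintro _ ⟨e, rfl⟩
    exact ⟨AdjoinRoot.root π * e, phi_root_mul v hv e⟩
  have hW₁i' : ∀ x ∈ W₁', A' x ∈ W₁' := by
    rintro _ ⟨e, rfl⟩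
    exact ⟨AdjoinRoot.root π * e, phi_root_mul v' hv' e⟩
  have hisoW : ∀ x ∈ W₁, ∀ y ∈ W₁, B x y = 0 := by
    rintro _ ⟨e, rfl⟩ _ ⟨e', rfl⟩
    exact hiso0 _ _ _ _
  have hisoW' : ∀ x ∈ W₁', ∀ y ∈ W₁', B' x y = 0 := by
    rintro _ ⟨e, rfl⟩ _ ⟨e', rfl⟩
    exact hiso0' _ _ _ _
  -- the dual map
  have hex : ∀ w : W₂, ∃ w' ∈ W₂', ∀ u : W₁, B' (ψ u) w' = B u w := by
    intro w
    obtain ⟨w', hw', h⟩ := p2' ((hB.leftL (w : V)) ∘ₗ W₁.subtype ∘ₗ ψ.symm.toLinearMap)
    refine ⟨w', hw', fun u => ?_⟩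
    have := h (ψ u)
    simpa using this
  choose g₂f hg₂m hg₂ using hex
  have hp3' : ∀ a b : V', a ∈ W₂' → b ∈ W₂' → (∀ u : W₁, B' (ψ u) a = B' (ψ u) b) → a = b := by
    intro a b ha hb h
    have h1 : a - b = 0 := by
      apply p3' _ (W₂'.sub_mem ha hb)
      intro u hu
      have h2 := h (ψ.symm ⟨u, hu⟩)
      rw [LinearEquiv.apply_symm_apply] at h2
      rw [hB'.sub_right]
      exact sub_eq_zero.2 h2
    exact sub_eq_zero.1 h1
  let g₂ : W₂ →ₗ[F] W₂' :=
    { toFun := fun w => ⟨g₂f w, hg₂m w⟩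
      map_add' := by
        intro a b
        apply Subtype.ext
        apply hp3' _ _ (hg₂m _) (W₂'.add_mem (hg₂m a) (hg₂m b))
        intro u
        rw [hg₂, hB'.add_right, hg₂, hg₂]
        exact hB.add_right _ _ _
      map_smul' := by
        intro c a
        apply Subtype.ext
        apply hp3' _ _ (hg₂m _) (W₂'.smul_mem _ (hg₂m a))
        intro u
        rw [hg₂, hB'.smul_right, hg₂]
        exact hB.smul_right _ _ _ }
  have hg₂' : ∀ (w : W₂) (u : W₁), B' (ψ u) (g₂ w) = B u w := hg₂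
  have hg₂inj : Function.Injective g₂ := by
    rw [← LinearMap.ker_eq_bot, LinearMap.ker_eq_bot']
    intro w hw
    apply Subtype.ext
    apply p3 _ w.2
    intro u hu
    have h1 := hg₂' w ⟨u, hu⟩
    rw [hw] at h1
    rw [← h1]
    exact hB'.zero_right _
  have hg₂surj : Function.Surjective g₂ := by
    intro w'
    obtain ⟨w, hw, h⟩ := p2 ((hB'.leftL (w' : V')) ∘ₗ W₁'.subtype ∘ₗ ψ.toLinearMap)
    refine ⟨⟨w, hw⟩, ?_⟩
    apply Subtype.ext
    apply hp3' _ _ (g₂ _).2 w'.2
    intro u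
    rw [hg₂']
    exact h u
  let g₂e : W₂ ≃ₗ[F] W₂' := LinearEquiv.ofBijective g₂ ⟨hg₂inj, hg₂surj⟩
  -- the operators on the pieces
  have hψA : ∀ u : W₁, ((ψ (A.restrict hW₁i u) : W₁') : V') = A' (ψ u) := by
    intro u
    obtain ⟨e, rfl⟩ := hsurj u
    have h1 : A.restrict hW₁i (eW e) = eW (AdjoinRoot.root π * e) := by
      apply Subtype.ext
      exact (phi_root_mul v hv e).symm
    rw [h1, hψ, hψ, heW', heW']
    exact phi_root_mul v' hv' e
  -- the sum of the two subspaces
  let ι : (W₁ × W₂) →ₗ[F] V := LinearMap.coprod W₁.subtype W₂.subtype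
  let ι' : (W₁' × W₂') →ₗ[F] V' := LinearMap.coprod W₁'.subtype W₂'.subtype
  have hι : ∀ a, ι a = (a.1 : V) + a.2 := fun a => by simp [ι]
  have hι' : ∀ a, ι' a = (a.1 : V') + a.2 := fun a => by simp [ι']
  have hιinj : Function.Injective ι := by
    rw [← LinearMap.ker_eq_bot, LinearMap.ker_eq_bot']
    rintro ⟨u, w⟩ h
    rw [hι] at h
    have hw : (w : V) = 0 := by
      apply p3 _ w.2
      intro u' hu'
      have h1 : (w : V) = - (u : V) := eq_neg_of_add_eq_zero_right h
      rw [h1, hB.neg_right, hisoW u' hu' u u.2, neg_zero]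
    have hu : (u : V) = 0 := by
      have h1 : (u : V) + w = 0 := h
      rwa [hw, add_zero] at h1
    exact Prod.ext (Subtype.ext hu) (Subtype.ext hw)
  have hιinj' : Function.Injective ι' := by
    rw [← LinearMap.ker_eq_bot, LinearMap.ker_eq_bot']
    rintro ⟨u, w⟩ h
    rw [hι'] at h
    have hw : (w : V') = 0 := by
      apply p3' _ w.2
      intro u' hu'
      have h1 : (w : V') = - (u : V') := eq_neg_of_add_eq_zero_right h
      rw [h1, hB'.neg_right, hisoW' u' hu' u u.2, neg_zero]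
    have hu : (u : V') = 0 := by
      have h1 : (u : V') + w = 0 := h
      rwa [hw, add_zero] at h1
    exact Prod.ext (Subtype.ext hu) (Subtype.ext hw)
  let eι := LinearEquiv.ofInjective ι hιinj
  let eι' := LinearEquiv.ofInjective ι' hιinj'
  have heι : ∀ a, ((eι a : LinearMap.range ι) : V) = ι a := fun _ => rfl
  have heι' : ∀ a, ((eι' a : LinearMap.range ι') : V') = ι' a := fun _ => rfl
  let G : (W₁ × W₂) ≃ₗ[F] (W₁' × W₂') := ψ.prodCongr g₂e
  have hG : ∀ a, G a = (ψ a.1, g₂ a.2) := fun _ => rfl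
  let g : LinearMap.range ι ≃ₗ[F] LinearMap.range ι' := eι.symm.trans (G.trans eι')
  have hg : ∀ a, g (eι a) = eι' (G a) := by
    intro a
    simp only [g, LinearEquiv.trans_apply, LinearEquiv.symm_apply_apply]
  have hsurjι : ∀ x : LinearMap.range ι, ∃ a, x = eι a := fun x => ⟨eι.symm x, (eι.apply_symm_apply x).symm⟩
  have hWi : ∀ x ∈ LinearMap.range ι, A x ∈ LinearMap.range ι := by
    rintro _ ⟨a, rfl⟩
    refine ⟨(A.restrict hW₁i a.1, A.restrict hW₂i a.2), ?_⟩
    rw [hι, hι, map_add]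
    rfl
  have hWi' : ∀ x ∈ LinearMap.range ι', A' x ∈ LinearMap.range ι' := by
    rintro _ ⟨a, rfl⟩
    refine ⟨(A'.restrict hW₁i' a.1, A'.restrict hW₂i' a.2), ?_⟩
    rw [hι', hι', map_add]
    rfl
  -- intertwining on the second factor
  have hAinv1 : ∀ x ∈ W₁, (A ^ (N - 1)) x ∈ W₁ := fun x hx => pow_inv_mem A W₁ hW₁i _ x hx
  have hψAi : ∀ u : W₁, ((ψ ((A ^ (N - 1)).restrict hAinv1 u) : W₁') : V') = (A' ^ (N - 1)) (ψ u) := by
    intro u
    have hAinj : Function.Injective A' := by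
      intro a b hab
      have h1 : (A' ^ (N - 1) * A') a = (A' ^ (N - 1) * A') b := by
        rw [Module.End.mul_apply, Module.End.mul_apply, hab]
      rwa [← pow_succ, Nat.sub_add_cancel hN, hAN'] at h1
    apply hAinj
    rw [← hψA]
    have h1 : A.restrict hW₁i ((A ^ (N - 1)).restrict hAinv1 u) = u := by
      apply Subtype.ext
      change A ((A ^ (N - 1)) u.1) = u.1
      rw [← Module.End.mul_apply, ← pow_succ', Nat.sub_add_cancel hN, hAN]
      rfl
    rw [h1, ← Module.End.mul_apply, ← pow_succ', Nat.sub_add_cancel hN, hAN']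
    rfl
  have hg₂A : ∀ w : W₂, ((g₂ (A.restrict hW₂i w) : W₂') : V') = A' (g₂ w) := by
    intro w
    apply hp3' _ _ (g₂ _).2 (hW₂i' _ (g₂ w).2)
    intro u
    rw [hg₂', ← iso_adj' A' hiso' N hN hAN', ← hψAi, hg₂']
    change B u (A w) = B ((A ^ (N - 1)) u) w
    rw [iso_adj' A hiso N hN hAN]
  have hrestrict : ∀ a, A.restrict hWi (eι a) = eι (A.restrict hW₁i a.1, A.restrict hW₂i a.2) := by
    intro a
    apply Subtype.ext
    change A (ι a) = ι _
    rw [hι, hι, map_add]
    rfl
  refine ⟨_, _, hWi, hWi', g, ?_, ?_, ?_, ?_⟩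
  · intro h
    have h1 : v ∈ LinearMap.range ι := ⟨(⟨v, ⟨1, phi_one v hv⟩⟩, 0), by rw [hι]; simp⟩
    rw [h] at h1
    exact hv0 ((Submodule.mem_bot F).1 h1)
  · rintro _ ⟨⟨u, w⟩, rfl⟩ h
    rw [hι] at h ⊢
    have hw : (w : V) = 0 := by
      apply p3 _ w.2
      intro u' hu'
      apply hB.eq_zero_comm
      have h1 := h u' ⟨(⟨u', hu'⟩, 0), by rw [hι]; simp⟩
      simp only at h1
      rw [hB.add_left, hisoW _ u.2 _ hu', zero_add] at h1
      exact h1
    have hu : (u : V) = 0 := by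
      apply p4 _ u.2
      intro w' hw'
      have h1 := h w' ⟨(0, ⟨w', hw'⟩), by rw [hι]; simp⟩
      simp only at h1
      rw [hB.add_left, p5 _ w.2 _ hw', add_zero] at h1
      exact h1
    simp only
    rw [hw, hu, add_zero]
  · intro x
    obtain ⟨a, rfl⟩ := hsurjι x
    rw [hrestrict, hg, hg, heι', heι', hι', hι', hG, hG]
    simp only
    rw [hψA, hg₂A, map_add]
  · intro x y
    obtain ⟨a, rfl⟩ := hsurjι x
    obtain ⟨b, rfl⟩ := hsurjι y
    rw [hg, hg, heι', heι', heι, heι, hι', hι', hι, hι, hG, hG]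
    simp only
    rw [hB'.add_left, hB'.add_right, hB'.add_right, hB.add_left, hB.add_right, hB.add_right]
    rw [hisoW' _ (ψ a.1).2 _ (ψ b.1).2, hisoW _ a.1.2 _ b.1.2, p5' _ (g₂ a.2).2 _ (g₂ b.2).2, p5 _ a.2.2 _ b.2.2]
    rw [hg₂', hB'.symm (ψ b.1 : V') (g₂ a.2 : V'), hg₂', ← hB.symm]

/-- a semisimplicity criterion -/
theorem semisimple_of_pow (T : V →ₗ[F] V) (N : ℕ) (hN0 : (N : F) ≠ 0) (hT : T ^ N = 1) : Module.End.IsSemisimple T := by
  have hsep : (X ^ N - C 1 : F[X]).Separable := separable_X_pow_sub_C 1 hN0 one_ne_zero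
  apply Module.End.isSemisimple_of_squarefree_aeval_eq_zero hsep.squarefree
  simp only [map_sub, map_pow, aeval_X, map_one, hT, sub_self]

/-- what a non-isotropic cyclic subspace says about the polynomial -/
theorem ni_gives (hB : Sf ρ ε B) (A : V →ₗ[F] V) (hiso : ∀ x y, B (A x) (A y) = B x y) (N : ℕ) (hN : 0 < N)
    (hAN : A ^ N = 1) (halt : (∀ c, ρ c = c) → ∀ v, (A v = v ∨ A v = -v) → B v v = 0)
    (π : F[X]) [hπ : Fact (Irreducible π)] (v : V) (hv : aeval A π v = 0)
    (hne : ∃ e₁ e₂, B (phi A π v hv e₁) (phi A π v hv e₂) ≠ 0) :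
    aeval (AdjoinRoot.root π)⁻¹ (π.map ρ) = 0 ∧
      ((∃ c, ρ c ≠ c) ∨ ((AdjoinRoot.root π)⁻¹ : AdjoinRoot π) ≠ AdjoinRoot.root π) := by
  have hv0 : v ≠ 0 := by
    rintro rfl
    obtain ⟨e₁, e₂, h⟩ := hne
    rw [phi_zero_of hv, phi_zero_of hv, hB.zero_left] at h
    exact h rfl
  have hroot := root_pow N hAN v hv hv0
  have hθ : AdjoinRoot.root π ≠ 0 := by
    intro h
    rw [h, zero_pow hN.ne'] at hroot
    exact zero_ne_one hroot
  let φ := phi A π v hv
  let b : AdjoinRoot π → AdjoinRoot π → F := fun e₁ e₂ => B (φ e₁) (φ e₂)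
  have hinv : ∀ x y, b (AdjoinRoot.root π * x) (AdjoinRoot.root π * y) = b x y := by
    intro x y
    simp only [b, φ, phi_root_mul, hiso]
  have hb : Sf ρ ε b :=
    { rho2 := hB.rho2
      eps := hB.eps
      add_left := fun a a' c => by simp only [b, map_add, hB.add_left]
      smul_left := fun c a d => by simp only [b, map_smul, hB.smul_left]
      symm := fun a c => hB.symm _ _
      nd := model_nd π b (fun a a' c => by simp only [b, map_add, hB.add_left])
        (fun c a d => by simp only [b, map_smul, hB.smul_left]) hinv hθ hne }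
  refine ⟨model_D hb hinv hθ, ?_⟩
  by_contra hσ
  push Not at hσ
  obtain ⟨hρ, hθ1⟩ := hσ
  have hθ2 : AdjoinRoot.root π * AdjoinRoot.root π = 1 := by
    nth_rewrite 1 [← hθ1]
    exact inv_mul_cancel₀ hθ
  obtain ⟨μ, hμ, hμ2⟩ : ∃ μ : F, AdjoinRoot.root π = algebraMap F (AdjoinRoot π) μ ∧ (μ = 1 ∨ μ = -1) := by
    rcases mul_self_eq_one_iff.1 hθ2 with h | h
    · exact ⟨1, by rw [h, map_one], Or.inl rfl⟩
    · exact ⟨-1, by rw [h, map_neg, map_one], Or.inr rfl⟩
  have hAv : A v = μ • v := by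
    have h6 := phi_root_mul v hv 1
    rw [mul_one, phi_one, hμ] at h6
    rw [← h6]
    have h7 : algebraMap F (AdjoinRoot π) μ = AdjoinRoot.mk π (C μ) := rfl
    rw [h7, phi_mk]
    simp
  have h10 : ∀ n : ℕ, (A ^ n) v = μ ^ n • v := by
    intro n
    induction n with
    | zero => simp
    | succ n ih =>
      rw [pow_succ, Module.End.mul_apply, hAv, map_smul, ih, smul_smul, pow_succ, mul_comm]
  have h9 : ∀ f : F[X], aeval A f v = f.eval μ • v := by
    intro f
    induction f using Polynomial.induction_on' with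
    | add f g hf hg =>
      simp only [map_add, LinearMap.add_apply, eval_add, add_smul, hf, hg]
    | monomial n a =>
      simp only [aeval_monomial, Module.End.mul_apply, Module.algebraMap_end_apply, eval_monomial, h10, smul_smul]
  have hvv : B v v = 0 := by
    apply halt hρ
    rw [hAv]
    rcases hμ2 with rfl | rfl
    · left
      simp
    · right
      simp
  obtain ⟨e₁, e₂, h⟩ := hne
  obtain ⟨f₁, rfl⟩ := AdjoinRoot.mk_surjective e₁
  obtain ⟨f₂, rfl⟩ := AdjoinRoot.mk_surjective e₂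
  rw [phi_mk, phi_mk, h9, h9, hB.smul_left, hB.smul_right, hvv, mul_zero, mul_zero] at h
  exact h rfl

end pieces

/-- Isometric conjugacy of semisimple operators with the same characteristic polynomial. -/
theorem core : ∀ (n : ℕ) (V V' : Type v) [AddCommGroup V] [Module F V] [FiniteDimensional F V] [AddCommGroup V'] [Module F V']
    [FiniteDimensional F V'] (B : V → V → F) (B' : V' → V' → F) (hB : Sf ρ ε B) (hB' : Sf ρ ε B') (A : V →ₗ[F] V) (A' : V' →ₗ[F] V')
    (N : ℕ) (hN : 0 < N) (hN0 : (N : F) ≠ 0) (hAN : A ^ N = 1) (hAN' : A' ^ N = 1)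
    (hiso : ∀ x y, B (A x) (A y) = B x y) (hiso' : ∀ x y, B' (A' x) (A' y) = B' x y)
    (halt : (∀ c, ρ c = c) → ∀ v, (A v = v ∨ A v = -v) → B v v = 0)
    (halt' : (∀ c, ρ c = c) → ∀ v, (A' v = v ∨ A' v = -v) → B' v v = 0),
    finrank F V = n → A.charpoly = A'.charpoly →
    ∃ g : V ≃ₗ[F] V', (∀ x, g (A x) = A' (g x)) ∧ ∀ x y, B' (g x) (g y) = B x y := by
  intro n
  induction n using Nat.strong_induction_on with
  | _ n ih =>
    intro V V' _ _ _ _ _ _ B B' hB hB' A A' N hN hN0 hAN hAN' hiso hiso' halt halt' hn hchar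
    classical
    have hfr' : finrank F V' = n := by
      rw [← hn, ← A.charpoly_natDegree, ← A'.charpoly_natDegree, hchar]
    by_cases hn0 : n = 0
    · have h1 : finrank F V = finrank F V' := by rw [hn, hfr']
      have hs : Subsingleton V' := (Module.finrank_zero_iff (R := F)).1 (by rw [hfr', hn0])
      have hs2 : Subsingleton V := (Module.finrank_zero_iff (R := F)).1 (by rw [hn, hn0])
      refine ⟨LinearEquiv.ofFinrankEq V V' h1, fun x => Subsingleton.elim _ _, fun x y => ?_⟩
      rw [Subsingleton.elim x 0, map_zero, hB.zero_left, hB'.zero_left]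
    have hdeg : A.charpoly.natDegree ≠ 0 := by
      rw [A.charpoly_natDegree, hn]
      exact hn0
    have hS := semisimple_of_pow A N hN0 hAN
    have hS' := semisimple_of_pow A' N hN0 hAN'
    obtain ⟨π, hπm, hπi, hπd⟩ := exists_monic_irreducible_dvd A.charpoly_monic.ne_zero hdeg
    haveI : Fact (Irreducible π) := ⟨hπi⟩
    obtain ⟨v, hv0, hv⟩ := exists_ker_of_dvd_charpoly n V A hn hS π hπi hπd
    obtain ⟨v', hv'0, hv'⟩ := exists_ker_of_dvd_charpoly n V' A' hfr' hS' π hπi (hchar ▸ hπd)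
    have hpiece : HasPiece B B' A A' := by
      by_cases hNI : ∃ (x : V) (hx : aeval A π x = 0) (e₁ e₂ : AdjoinRoot π), B (phi A π x hx e₁) (phi A π x hx e₂) ≠ 0
      · obtain ⟨x, hx, hne⟩ := hNI
        obtain ⟨hD, hσ⟩ := ni_gives hB A hiso N hN hAN halt π x hx hne
        obtain ⟨x', hx', hne'⟩ := exists_nd_cyclic hB' A' hS' hiso' N hN hAN' π hD hσ v' hv' hv'0
        exact piece_I hB hB' A A' hiso hiso' N hN hAN π x hx x' hx' hne hne' hσ
      · push Not at hNI
        have hNI' : ∀ (x : V') (hx : aeval A' π x = 0) (e₁ e₂ : AdjoinRoot π), B' (phi A' π x hx e₁) (phi A' π x hx e₂) = 0 := by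
          by_contra hcon
          push Not at hcon
          obtain ⟨x, hx, hne⟩ := hcon
          obtain ⟨hD, hσ⟩ := ni_gives hB' A' hiso' N hN hAN' halt' π x hx hne
          obtain ⟨x', hx', e₁, e₂, h⟩ := exists_nd_cyclic hB A hS hiso N hN hAN π hD hσ v hv hv0
          exact h (hNI x' hx' e₁ e₂)
        exact piece_II hB hB' A A' hS hS' hiso hiso' N hN hAN hAN' halt halt' π v hv hv0 v' hv' hv'0 hNI hNI'
    obtain ⟨W, W', hW, hW', g₁, hW0, hWnd, hg₁A, hg₁B⟩ := hpiece
    have hW'nd : ∀ x ∈ W', (∀ y ∈ W', B' x y = 0) → x = 0 := by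
      intro x hx h
      have h1 : g₁.symm ⟨x, hx⟩ = 0 := by
        apply Subtype.ext
        apply hWnd _ (g₁.symm ⟨x, hx⟩).2
        intro y hy
        have h3 := hg₁B (g₁.symm ⟨x, hx⟩) ⟨y, hy⟩
        rw [LinearEquiv.apply_symm_apply] at h3
        change B (↑(g₁.symm ⟨x, hx⟩)) y = 0
        rw [← h3]
        exact h _ (g₁ ⟨y, hy⟩).2
      have h2 : (⟨x, hx⟩ : W') = 0 := by
        rw [← g₁.apply_symm_apply ⟨x, hx⟩, h1, map_zero]
      exact congrArg Subtype.val h2
    have hc := isCompl_orth hB W hWnd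
    have hc' := isCompl_orth hB' W' hW'nd
    have hUi : ∀ x ∈ orth hB W, A x ∈ orth hB W := by
      intro y hy w hw
      rw [← iso_adj' A hiso N hN hAN]
      exact hy _ (pow_inv_mem A W hW _ _ hw)
    have hUi' : ∀ x ∈ orth hB' W', A' x ∈ orth hB' W' := by
      intro y hy w hw
      rw [← iso_adj' A' hiso' N hN hAN']
      exact hy _ (pow_inv_mem A' W' hW' _ _ hw)
    let e := Submodule.prodEquivOfIsCompl W (orth hB W) hc
    let e' := Submodule.prodEquivOfIsCompl W' (orth hB' W') hc'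
    have he : ∀ a, e a = (a.1 : V) + a.2 := fun a => rfl
    have he' : ∀ a, e' a = (a.1 : V') + a.2 := fun a => rfl
    have hconj : A = e.conj (LinearMap.prodMap (A.restrict hW) (A.restrict hUi)) := by
      apply LinearMap.ext
      intro x
      obtain ⟨⟨a, w⟩, rfl⟩ := e.surjective x
      rw [LinearEquiv.conj_apply]
      simp only [LinearMap.comp_apply, LinearEquiv.coe_coe, LinearEquiv.symm_apply_apply, LinearMap.prodMap_apply]
      rw [he, he, map_add]
      rfl
    have hconj' : A' = e'.conj (LinearMap.prodMap (A'.restrict hW') (A'.restrict hUi')) := by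
      apply LinearMap.ext
      intro x
      obtain ⟨⟨a, w⟩, rfl⟩ := e'.surjective x
      rw [LinearEquiv.conj_apply]
      simp only [LinearMap.comp_apply, LinearEquiv.coe_coe, LinearEquiv.symm_apply_apply, LinearMap.prodMap_apply]
      rw [he', he', map_add]
      rfl
    have hch : A.charpoly = (A.restrict hW).charpoly * (A.restrict hUi).charpoly := by
      conv_lhs => rw [hconj]
      rw [LinearEquiv.charpoly_conj, LinearMap.charpoly_prodMap]
    have hch' : A'.charpoly = (A'.restrict hW').charpoly * (A'.restrict hUi').charpoly := by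
      conv_lhs => rw [hconj']
      rw [LinearEquiv.charpoly_conj, LinearMap.charpoly_prodMap]
    have hgconj : A'.restrict hW' = g₁.conj (A.restrict hW) := by
      ext x
      obtain ⟨x, rfl⟩ := g₁.surjective x
      simp only [LinearEquiv.conj_apply, LinearMap.coe_comp, LinearEquiv.coe_coe, Function.comp_apply,
        LinearEquiv.symm_apply_apply]
      exact (hg₁A x).symm
    have hchW : (A.restrict hW).charpoly = (A'.restrict hW').charpoly := by
      rw [hgconj, LinearEquiv.charpoly_conj]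
    have hchU : (A.restrict hUi).charpoly = (A'.restrict hUi').charpoly := by
      rw [hch, hch', hchW] at hchar
      exact mul_left_cancel₀ (LinearMap.charpoly_monic _).ne_zero hchar
    have hfrU : finrank F (orth hB W) < n := by
      have h1 := Submodule.finrank_add_eq_of_isCompl hc
      have h2 : 0 < finrank F W := Nat.pos_of_ne_zero (fun h => hW0 (Submodule.finrank_eq_zero.1 h))
      omega
    have hpowU : ∀ (T : V →ₗ[F] V) (U : Submodule F V) (hU : ∀ x ∈ U, T x ∈ U) (m : ℕ) (x : U), (((T.restrict hU) ^ m) x : V) = (T ^ m) x := by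
      intro T U hU m x
      exact pow_restrict_coe T hU m x
    have hpowU' : ∀ (T : V' →ₗ[F] V') (U : Submodule F V') (hU : ∀ x ∈ U, T x ∈ U) (m : ℕ) (x : U), (((T.restrict hU) ^ m) x : V') = (T ^ m) x := by
      intro T U hU m x
      exact pow_restrict_coe T hU m x
    obtain ⟨gU, hgUA, hgUB⟩ := ih (finrank F (orth hB W)) hfrU (orth hB W) (orth hB' W')
      (fun a b => B a b) (fun a b => B' a b) (sf_restrict hB _ (orth_nd hB W hWnd)) (sf_restrict hB' _ (orth_nd hB' W' hW'nd))
      (A.restrict hUi) (A'.restrict hUi') N hN hN0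
      (by
        apply LinearMap.ext
        intro x
        apply Subtype.ext
        rw [hpowU, hAN]
        rfl)
      (by
        apply LinearMap.ext
        intro x
        apply Subtype.ext
        rw [hpowU', hAN']
        rfl)
      (fun x y => hiso x y) (fun x y => hiso' x y)
      (fun hρ x hx => halt hρ x (by
        rcases hx with h | h
        · left
          exact congrArg Subtype.val h
        · right
          exact congrArg Subtype.val h))
      (fun hρ x hx => halt' hρ x (by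
        rcases hx with h | h
        · left
          exact congrArg Subtype.val h
        · right
          exact congrArg Subtype.val h))
      rfl hchU
    refine ⟨e.symm.trans ((g₁.prodCongr gU).trans e'), ?_, ?_⟩
    · intro x
      obtain ⟨⟨a, w⟩, rfl⟩ := e.surjective x
      have h1 : A (e (a, w)) = e (A.restrict hW a, A.restrict hUi w) := by
        rw [he, he, map_add]
        rfl
      rw [h1]
      simp only [LinearEquiv.trans_apply, LinearEquiv.symm_apply_apply, LinearEquiv.prodCongr_apply]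
      rw [he', he']
      simp only
      rw [hg₁A, map_add]
      congr 1
      exact congrArg Subtype.val (hgUA w)
    · intro x y
      obtain ⟨⟨a, w⟩, rfl⟩ := e.surjective x
      obtain ⟨⟨a', w'⟩, rfl⟩ := e.surjective y
      simp only [LinearEquiv.trans_apply, LinearEquiv.symm_apply_apply, LinearEquiv.prodCongr_apply]
      rw [he', he', he, he]
      simp only
      rw [hB'.add_left, hB'.add_right, hB'.add_right, hB.add_left, hB.add_right, hB.add_right]
      rw [(gU w').2 _ (g₁ a).2, hB'.eq_zero_comm ((gU w).2 _ (g₁ a').2), w'.2 _ a.2, hB.eq_zero_comm (w.2 _ a'.2), hg₁B]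
      have h9 : B' (gU w) (gU w') = B w w' := hgUB w w'
      rw [h9]

end Cfsg.Agent.H11.Wall
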