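import Cfsg.Agent.Lib.H11.Wall5

/-! Determinants on the centraliser of a semisimple isometry of a Hermitian form. -/

set_option autoImplicit false
set_option linter.unusedSectionVars false
set_option linter.unusedVariables false

namespace Cfsg.Agent.H11.Wall

open Polynomial Module Cfsg.Agent.H10

universe u v

variable {F : Type u} [Field F] [Fintype F]

/-- determinants of adjoint maps under a perfect sesquilinear pairing -/
theorem dual_det {U W : Type*} [AddCommGroup U] [Module F U] [FiniteDimensional F U] [AddCommGroup W] [Module F W]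
    [FiniteDimensional F W] (ρ : F →+* F) (hρ : ∀ x, ρ (ρ x) = x) (P : U → W → F)
    (ha : ∀ x x' y, P (x + x') y = P x y + P x' y) (hs : ∀ (c : F) x y, P (c • x) y = c * P x y)
    (hb : ∀ x y y', P x (y + y') = P x y + P x y') (ht : ∀ (c : F) x y, P x (c • y) = ρ c * P x y)
    (hrep : ∀ f : U →ₗ[F] F, ∃ w, ∀ u, P u w = f u) (hnd : ∀ w, (∀ u, P u w = 0) → w = 0)
    (c₁ : U →ₗ[F] U) (c₂ : W →ₗ[F] W) (h : ∀ u w, P (c₁ u) (c₂ w) = P u w) :
    LinearMap.det c₁ * ρ (LinearMap.det c₂) = 1 := by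
  classical
  let e := Module.finBasis F U
  let L : W → (U →ₗ[F] F) := fun w =>
    { toFun := fun u => P u w
      map_add' := fun x x' => ha x x' w
      map_smul' := fun c x => hs c x w }
  have hL : ∀ w u, L w u = P u w := fun _ _ => rfl
  let Θl : W →ₗ[F] (Fin (finrank F U) → F) :=
    { toFun := fun w i => ρ (P (e i) w)
      map_add' := by
        intro x y
        funext i
        simp only [Pi.add_apply, hb, map_add]
      map_smul' := by
        intro c x
        funext i
        simp only [Pi.smul_apply, ht, map_mul, hρ, smul_eq_mul, RingHom.id_apply] }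
  have hΘl : ∀ w i, Θl w i = ρ (P (e i) w) := fun _ _ => rfl
  choose f hf using fun j => hrep (e.coord j)
  have hΘf : ∀ j i, P (e i) (f j) = if i = j then 1 else 0 := by
    intro j i
    rw [hf, Basis.coord_apply, Basis.repr_self_apply]
  have hinj : Function.Injective Θl := by
    rw [← LinearMap.ker_eq_bot, LinearMap.ker_eq_bot']
    intro w hw
    apply hnd
    intro u
    rw [← hL]
    have h0 : L w = 0 := by
      apply e.ext
      intro i
      have h1 := congrFun hw i
      rw [hΘl, Pi.zero_apply] at h1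
      have h2 := congrArg ρ h1
      rw [hρ, map_zero] at h2
      exact h2
    rw [h0]
    rfl
  have hsurj : Function.Surjective Θl := by
    intro a
    refine ⟨∑ j, a j • f j, ?_⟩
    rw [map_sum]
    funext i
    rw [Finset.sum_apply, Finset.sum_eq_single i]
    · rw [map_smul, Pi.smul_apply, hΘl, hΘf, if_pos rfl, map_one]
      simp
    · intro j _ hj
      rw [map_smul, Pi.smul_apply, hΘl, hΘf, if_neg (Ne.symm hj), map_zero, smul_zero]
    · intro hi
      exact absurd (Finset.mem_univ i) hi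
  let Θ : W ≃ₗ[F] (Fin (finrank F U) → F) := LinearEquiv.ofBijective Θl ⟨hinj, hsurj⟩
  let b : Basis (Fin (finrank F U)) F W := Basis.ofEquivFun Θ
  have hb1 : ∀ w i, b.repr w i = ρ (P (e i) w) := fun w i => by
    simp only [b, Basis.ofEquivFun_repr_apply]
    rfl
  have hb2 : ∀ w i, P (e i) w = ρ (b.repr w i) := fun w i => by
    rw [hb1, hρ]
  let M := LinearMap.toMatrix e e c₁
  let m := LinearMap.toMatrix b b c₂
  have hprod : M.transpose * (ρ.mapMatrix m) = 1 := by
    ext i j
    rw [Matrix.mul_apply]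
    have h1 : ∀ k, M.transpose i k * ρ.mapMatrix m k j = (e.repr (c₁ (e i))) k * P (e k) (c₂ (b j)) := by
      intro k
      rw [Matrix.transpose_apply, RingHom.mapMatrix_apply, Matrix.map_apply, hb2 (c₂ (b j)) k]
      have hM : M k i = e.repr (c₁ (e i)) k := LinearMap.toMatrix_apply _ _ _ _ _
      have hm : m k j = b.repr (c₂ (b j)) k := LinearMap.toMatrix_apply _ _ _ _ _
      rw [hM, hm]
    simp_rw [h1]
    have h2 : ∑ k, (e.repr (c₁ (e i))) k * P (e k) (c₂ (b j)) = P (c₁ (e i)) (c₂ (b j)) := by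
      conv_rhs => rw [← e.sum_repr (c₁ (e i))]
      rw [← hL, map_sum]
      apply Finset.sum_congr rfl
      intro k _
      rw [map_smul, hL, smul_eq_mul]
    rw [h2, h, hb2, b.repr_self_apply]
    by_cases hij : i = j
    · subst hij
      simp
    · rw [if_neg (Ne.symm hij), map_zero, Matrix.one_apply_ne hij]
  have hdet := congrArg Matrix.det hprod
  rw [Matrix.det_mul, Matrix.det_transpose, ← RingHom.map_det, Matrix.det_one] at hdet
  rwa [LinearMap.det_toMatrix, LinearMap.det_toMatrix] at hdet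

theorem hilbert90 (ρ : F →+* F) (hρ : ∀ x, ρ (ρ x) = x) (hne : ∃ c, ρ c ≠ c) (δ : F) (hδ : δ * ρ δ = 1) :
    ∃ y, y ≠ 0 ∧ y = δ * ρ y := by
  by_cases h : 1 + δ = 0
  · obtain ⟨c, hc⟩ := hne
    have hδ' : δ = -1 := by linear_combination h
    refine ⟨c - ρ c, sub_ne_zero.2 hc.symm, ?_⟩
    rw [hδ', map_sub, hρ]
    ring
  · refine ⟨1 + δ, h, ?_⟩
    rw [map_add, map_one, mul_add, hδ]
    ring

theorem norm_sig {E : Type*} [Field E] [Algebra F E] [Finite E] (ρ : F →+* F) (σ : E →+* E)
    (hσ : ∀ c, σ (algebraMap F E c) = algebraMap F E (ρ c)) (a : E) :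
    Algebra.norm F (σ a) = ρ (Algebra.norm F a) := by
  apply (algebraMap F E).injective
  rw [FiniteField.algebraMap_norm_eq_pow, ← hσ, FiniteField.algebraMap_norm_eq_pow, map_pow]

variable {ρ : F →+* F} {ε : F}

section pieces

variable {V : Type v} [AddCommGroup V] [Module F V] [FiniteDimensional F V] {B : V → V → F}

/-- a piece carrying an isometry of prescribed determinant commuting with `A` -/
def HasDet (B : V → V → F) (A : V →ₗ[F] V) (δ : F) : Prop :=
  ∃ (W : Submodule F V) (hW : ∀ v ∈ W, A v ∈ W) (c : W →ₗ[F] W), (∀ x ∈ W, (∀ y ∈ W, B x y = 0) → x = 0) ∧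
    (∀ x : W, c (A.restrict hW x) = A.restrict hW (c x)) ∧ (∀ x y : W, B (c x) (c y) = B x y) ∧ LinearMap.det c = δ

/-- extension by the identity -/
theorem extend_piece (hB : Sf ρ ε B) (A : V →ₗ[F] V) (hiso : ∀ x y, B (A x) (A y) = B x y) (N : ℕ) (hN : 0 < N) (hAN : A ^ N = 1)
    (δ : F) (h : HasDet B A δ) : ∃ c : V →ₗ[F] V, (∀ x, c (A x) = A (c x)) ∧ (∀ x y, B (c x) (c y) = B x y) ∧ LinearMap.det c = δ := by
  classical
  obtain ⟨W, hW, cW, hWnd, hcomm, hisom, hdet⟩ := h
  have hc := isCompl_orth hB W hWnd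
  have hUi : ∀ x ∈ orth hB W, A x ∈ orth hB W := by
    intro y hy w hw
    rw [← iso_adj' A hiso N hN hAN]
    exact hy _ (pow_inv_mem A W hW _ _ hw)
  let e := Submodule.prodEquivOfIsCompl W (orth hB W) hc
  have he : ∀ a, e a = (a.1 : V) + a.2 := fun a => rfl
  let c₀ : (W × orth hB W) →ₗ[F] (W × orth hB W) := LinearMap.prodMap cW LinearMap.id
  refine ⟨(e : (W × orth hB W) →ₗ[F] V) ∘ₗ c₀ ∘ₗ (e.symm : V →ₗ[F] (W × orth hB W)), ?_, ?_, ?_⟩
  · intro x
    obtain ⟨⟨a, w⟩, rfl⟩ := e.surjective x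
    have h1 : A (e (a, w)) = e (A.restrict hW a, A.restrict hUi w) := by
      rw [he, he, map_add]
      rfl
    rw [h1]
    simp only [LinearMap.comp_apply, LinearEquiv.coe_coe, LinearEquiv.symm_apply_apply, c₀, LinearMap.prodMap_apply, LinearMap.id_apply]
    rw [he, he, hcomm, map_add]
    rfl
  · intro x y
    obtain ⟨⟨a, w⟩, rfl⟩ := e.surjective x
    obtain ⟨⟨a', w'⟩, rfl⟩ := e.surjective y
    simp only [LinearMap.comp_apply, LinearEquiv.coe_coe, LinearEquiv.symm_apply_apply, c₀, LinearMap.prodMap_apply, LinearMap.id_apply]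
    rw [he, he, he, he]
    simp only
    rw [hB.add_left, hB.add_right, hB.add_right, hB.add_left, hB.add_right, hB.add_right]
    rw [w'.2 _ (cW a).2, hB.eq_zero_comm (w.2 _ (cW a').2), w'.2 _ a.2, hB.eq_zero_comm (w.2 _ a'.2), hisom]
  · rw [LinearMap.det_conj, LinearMap.det_prodMap, LinearMap.det_id, mul_one, hdet]

/-- the non-isotropic case -/
theorem case_I (hB : Sf ρ ε B) (A : V →ₗ[F] V) (hiso : ∀ x y, B (A x) (A y) = B x y) (N : ℕ) (hN : 0 < N) (hAN : A ^ N = 1)
    (hρne : ∃ c, ρ c ≠ c) (π : F[X]) [hπ : Fact (Irreducible π)] (v : V) (hv : aeval A π v = 0)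
    (hne : ∃ e₁ e₂, B (phi A π v hv e₁) (phi A π v hv e₂) ≠ 0) (δ : F) (hδ : δ * ρ δ = 1) : HasDet B A δ := by
  classical
  have hv0 : v ≠ 0 := by
    rintro rfl
    obtain ⟨e₁, e₂, h⟩ := hne
    rw [phi_zero_of hv, phi_zero_of hv, hB.zero_left] at h
    exact h rfl
  have hroot := root_pow N hAN v hv hv0
  have hθ : AdjoinRoot.root π ≠ 0 := by
    intro h
    rw [h, zero_pow hN.ne'] at hroot
    exact zero_ne_one hroot
  let φ := phi A π v hv
  let b : AdjoinRoot π → AdjoinRoot π → F := fun e₁ e₂ => B (φ e₁) (φ e₂)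
  have hinv : ∀ x y, b (AdjoinRoot.root π * x) (AdjoinRoot.root π * y) = b x y := by
    intro x y
    simp only [b, φ, phi_root_mul, hiso]
  have hb : Sf ρ ε b :=
    { rho2 := hB.rho2
      eps := hB.eps
      add_left := fun a a' c => by simp only [b, map_add, hB.add_left]
      smul_left := fun c a d => by simp only [b, map_smul, hB.smul_left]
      symm := fun a c => hB.symm _ _
      nd := model_nd π b (fun a a' c => by simp only [b, map_add, hB.add_left])
        (fun c a d => by simp only [b, map_smul, hB.smul_left]) hinv hθ hne }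
  haveI : Module.Finite F (AdjoinRoot π) := (AdjoinRoot.powerBasis hπ.out.ne_zero).finite
  haveI : Finite (AdjoinRoot π) := Module.finite_of_finite F
  have hD := model_D hb hinv hθ
  set σ := sig hD with hσdef
  have hσσ : ∀ e, σ (σ e) = e := sig_sig hb hinv hθ hD
  have hadj : ∀ e x y, b (e * x) y = b x (σ e * y) := model_adj' hb hinv hθ hD
  obtain ⟨y, hy0, hy⟩ := hilbert90 ρ hB.rho2 hρne δ hδ
  obtain ⟨a, ha⟩ := FiniteField.norm_surjective F (AdjoinRoot π) y
  have ha0 : a ≠ 0 := by
    rintro rfl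
    rw [Algebra.norm_zero] at ha
    exact hy0 ha.symm
  have hσa0 : σ a ≠ 0 := fun h => ha0 (by
    have := congrArg σ h
    rwa [hσσ, map_zero] at this)
  set u := a * (σ a)⁻¹ with hu
  have huσ : σ u * u = 1 := by
    rw [hu, map_mul, map_inv₀, hσσ]
    field_simp
  have hφi : Function.Injective φ := phi_inj v hv hv0
  let eW := LinearEquiv.ofInjective φ hφi
  have heW : ∀ e, ((eW e : LinearMap.range φ) : V) = φ e := fun _ => rfl
  have hsurj : ∀ x : LinearMap.range φ, ∃ e, x = eW e := fun x => ⟨eW.symm x, (eW.apply_symm_apply x).symm⟩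
  have hW : ∀ x ∈ LinearMap.range φ, A x ∈ LinearMap.range φ := by
    rintro _ ⟨e, rfl⟩
    exact ⟨AdjoinRoot.root π * e, phi_root_mul v hv e⟩
  let c : LinearMap.range φ →ₗ[F] LinearMap.range φ :=
    (eW : AdjoinRoot π →ₗ[F] LinearMap.range φ) ∘ₗ (LinearMap.mulLeft F u) ∘ₗ (eW.symm : LinearMap.range φ →ₗ[F] AdjoinRoot π)
  have hc : ∀ e, c (eW e) = eW (u * e) := by
    intro e
    simp only [c, LinearMap.comp_apply, LinearEquiv.coe_coe, LinearEquiv.symm_apply_apply, LinearMap.mulLeft_apply]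
  have hA : ∀ e, A.restrict hW (eW e) = eW (AdjoinRoot.root π * e) := by
    intro e
    apply Subtype.ext
    exact (phi_root_mul v hv e).symm
  refine ⟨LinearMap.range φ, hW, c, ?_, ?_, ?_, ?_⟩
  · rintro _ ⟨e, rfl⟩ h
    have h1 : e = 0 := by
      apply hb.nd
      intro y
      exact h _ ⟨y, rfl⟩
    rw [h1, map_zero]
  · intro x
    obtain ⟨e, rfl⟩ := hsurj x
    rw [hA, hc, hc, hA]
    congr 1
    ring
  · intro x y
    obtain ⟨e, rfl⟩ := hsurj x
    obtain ⟨e', rfl⟩ := hsurj y
    rw [hc, hc, heW, heW, heW, heW]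
    change b (u * e) (u * e') = b e e'
    rw [hadj, ← mul_assoc, huσ, one_mul]
  · rw [LinearMap.det_conj]
    have h1 : LinearMap.det (LinearMap.mulLeft F u) = Algebra.norm F u := rfl
    rw [h1]
    have hρy : ρ y ≠ 0 := fun h => hy0 (by rw [hy, h, mul_zero])
    have h2 : Algebra.norm F u * Algebra.norm F (σ a) = Algebra.norm F a := by
      rw [← map_mul, hu, mul_assoc, inv_mul_cancel₀ hσa0, mul_one]
    rw [norm_sig ρ σ (sig_algebraMap hD), ha] at h2
    apply mul_right_cancel₀ hρy
    rw [h2]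
    exact hy

end pieces

end Cfsg.Agent.H11.Wall
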