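import Cfsg.Agent.Lib.H11.Wall6

/-! The isotropic case: determinants on the centraliser; surjectivity of the determinant. -/

set_option autoImplicit false
set_option linter.unusedSectionVars false
set_option linter.unusedVariables false

namespace Cfsg.Agent.H11.Wall

open Polynomial Module Cfsg.Agent.H10

universe u v

variable {F : Type u} [Field F] [Fintype F] {ρ : F →+* F} {ε : F}

section pieces

variable {V : Type v} [AddCommGroup V] [Module F V] [FiniteDimensional F V] {B : V → V → F}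

/-- the isotropic case -/
theorem case_II (hB : Sf ρ ε B) (A : V →ₗ[F] V) (hS : Module.End.IsSemisimple A)
    (hiso : ∀ x y, B (A x) (A y) = B x y) (N : ℕ) (hN : 0 < N)
    (hAN : A ^ N = 1) (hρne : ∃ c, ρ c ≠ c) (π : F[X]) [hπ : Fact (Irreducible π)] (v : V) (hv : aeval A π v = 0) (hv0 : v ≠ 0)
    (hiso0 : ∀ (x : V) (hx : aeval A π x = 0) (e₁ e₂ : AdjoinRoot π), B (phi A π x hx e₁) (phi A π x hx e₂) = 0)
    (δ : F) (hδ : δ * ρ δ = 1) : HasDet B A δ := by
  classical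
  have halt : (∀ c, ρ c = c) → ∀ v, (A v = v ∨ A v = -v) → B v v = 0 := by
    intro h
    obtain ⟨c, hc⟩ := hρne
    exact absurd (h c) hc
  obtain ⟨W₂, hW₂i, p2, p3, p4, p5⟩ := partner hB A hS hiso N hN hAN halt π v hv hv0 hiso0
  haveI : Module.Finite F (AdjoinRoot π) := (AdjoinRoot.powerBasis hπ.out.ne_zero).finite
  haveI : Finite (AdjoinRoot π) := Module.finite_of_finite F
  let φ := phi A π v hv
  have hφi : Function.Injective φ := phi_inj v hv hv0
  set W₁ := LinearMap.range φ with hW₁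
  let eW := LinearEquiv.ofInjective φ hφi
  have heW : ∀ e, ((eW e : W₁) : V) = φ e := fun _ => rfl
  have hsurj : ∀ x : W₁, ∃ e, x = eW e := fun x => ⟨eW.symm x, (eW.apply_symm_apply x).symm⟩
  have hW₁i : ∀ x ∈ W₁, A x ∈ W₁ := by
    rintro _ ⟨e, rfl⟩
    exact ⟨AdjoinRoot.root π * e, phi_root_mul v hv e⟩
  have hisoW : ∀ x ∈ W₁, ∀ y ∈ W₁, B x y = 0 := by
    rintro _ ⟨e, rfl⟩ _ ⟨e', rfl⟩
    exact hiso0 _ _ _ _
  obtain ⟨y, hy0, hy⟩ := hilbert90 ρ hB.rho2 hρne δ hδ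
  obtain ⟨a, ha⟩ := FiniteField.norm_surjective F (AdjoinRoot π) y
  have ha0 : a ≠ 0 := by
    rintro rfl
    rw [Algebra.norm_zero] at ha
    exact hy0 ha.symm
  let c₁ : W₁ →ₗ[F] W₁ := (eW : AdjoinRoot π →ₗ[F] W₁) ∘ₗ (LinearMap.mulLeft F a) ∘ₗ (eW.symm : W₁ →ₗ[F] AdjoinRoot π)
  let c₁' : W₁ →ₗ[F] W₁ := (eW : AdjoinRoot π →ₗ[F] W₁) ∘ₗ (LinearMap.mulLeft F a⁻¹) ∘ₗ (eW.symm : W₁ →ₗ[F] AdjoinRoot π)
  have hc₁ : ∀ e, c₁ (eW e) = eW (a * e) := by
    intro e
    simp only [c₁, LinearMap.comp_apply, LinearEquiv.coe_coe, LinearEquiv.symm_apply_apply, LinearMap.mulLeft_apply]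
  have hc₁' : ∀ e, c₁' (eW e) = eW (a⁻¹ * e) := by
    intro e
    simp only [c₁', LinearMap.comp_apply, LinearEquiv.coe_coe, LinearEquiv.symm_apply_apply, LinearMap.mulLeft_apply]
  have hcc' : ∀ u, c₁ (c₁' u) = u := by
    intro u
    obtain ⟨e, rfl⟩ := hsurj u
    rw [hc₁', hc₁, mul_inv_cancel_left₀ ha0]
  have hc'c : ∀ u, c₁' (c₁ u) = u := by
    intro u
    obtain ⟨e, rfl⟩ := hsurj u
    rw [hc₁, hc₁', inv_mul_cancel_left₀ ha0]
  have hdetc : LinearMap.det c₁ = y := by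
    rw [LinearMap.det_conj]
    exact ha
  have hex : ∀ w : W₂, ∃ w' ∈ W₂, ∀ u : W₁, B (c₁ u) w' = B u w := by
    intro w
    obtain ⟨w', hw', h⟩ := p2 ((hB.leftL (w : V)) ∘ₗ W₁.subtype ∘ₗ c₁')
    refine ⟨w', hw', fun u => ?_⟩
    have := h (c₁ u)
    rw [this]
    simp only [LinearMap.comp_apply, Submodule.subtype_apply, Sf.leftL_apply, hc'c]
  choose g₂f hg₂m hg₂ using hex
  have hp3' : ∀ a b : V, a ∈ W₂ → b ∈ W₂ → (∀ u : W₁, B (c₁ u) a = B (c₁ u) b) → a = b := by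
    intro a b ha hb h
    have h1 : a - b = 0 := by
      apply p3 _ (W₂.sub_mem ha hb)
      intro u hu
      have h2 := h (c₁' ⟨u, hu⟩)
      rw [hcc'] at h2
      rw [hB.sub_right]
      exact sub_eq_zero.2 h2
    exact sub_eq_zero.1 h1
  let g₂ : W₂ →ₗ[F] W₂ :=
    { toFun := fun w => ⟨g₂f w, hg₂m w⟩
      map_add' := by
        intro a b
        apply Subtype.ext
        apply hp3' _ _ (hg₂m _) (W₂.add_mem (hg₂m a) (hg₂m b))
        intro u
        rw [hg₂, hB.add_right, hg₂, hg₂]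
        exact hB.add_right _ _ _
      map_smul' := by
        intro c a
        apply Subtype.ext
        apply hp3' _ _ (hg₂m _) (W₂.smul_mem _ (hg₂m a))
        intro u
        rw [hg₂, hB.smul_right, hg₂]
        exact hB.smul_right _ _ _ }
  have hg₂' : ∀ (w : W₂) (u : W₁), B (c₁ u) (g₂ w) = B u w := hg₂
  have hdetg := dual_det ρ hB.rho2 (fun (u : W₁) (w : W₂) => B (u : V) (w : V))
    (fun x x' y => hB.add_left _ _ _) (fun c x y => hB.smul_left _ _ _)
    (fun x y y' => hB.add_right _ _ _) (fun c x y => hB.smul_right _ _ _)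
    (fun f => by
      obtain ⟨w, hw, h⟩ := p2 f
      exact ⟨⟨w, hw⟩, h⟩)
    (fun w h => Subtype.ext (p3 _ w.2 (fun u hu => h ⟨u, hu⟩)))
    c₁ g₂ (fun u w => hg₂' w u)
  rw [hdetc] at hdetg
  have hdetg2 : ρ y * LinearMap.det g₂ = 1 := by
    have := congrArg ρ hdetg
    rwa [map_mul, hB.rho2, map_one] at this
  -- commutation
  have hApow : ∀ (m : ℕ) (e : AdjoinRoot π), (A ^ m) (φ e) = φ (AdjoinRoot.root π ^ m * e) := by
    intro m
    induction m with
    | zero => intro e; simp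
    | succ m ih =>
      intro e
      rw [pow_succ, Module.End.mul_apply]
      have h1 : A (φ e) = φ (AdjoinRoot.root π * e) := (phi_root_mul v hv e).symm
      rw [h1, ih, pow_succ, mul_assoc]
  have hg₂A : ∀ w : W₂, ((g₂ (A.restrict hW₂i w) : W₂) : V) = A (g₂ w) := by
    intro w
    apply hp3' _ _ (g₂ _).2 (hW₂i _ (g₂ w).2)
    intro u
    rw [hg₂']
    obtain ⟨e, rfl⟩ := hsurj u
    have h5 : ((A.restrict hW₂i w : W₂) : V) = A w := rfl
    rw [h5, hc₁, heW, heW, ← iso_adj' A hiso N hN hAN, ← iso_adj' A hiso N hN hAN, hApow, hApow]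
    have e1 : AdjoinRoot.root π ^ (N - 1) * (a * e) = a * (AdjoinRoot.root π ^ (N - 1) * e) := by ring
    rw [e1]
    have h3 := hg₂' w (eW (AdjoinRoot.root π ^ (N - 1) * e))
    rw [hc₁, heW, heW] at h3
    exact h3.symm
  -- the sum
  let ι : (W₁ × W₂) →ₗ[F] V := LinearMap.coprod W₁.subtype W₂.subtype
  have hι : ∀ a, ι a = (a.1 : V) + a.2 := fun a => by simp [ι]
  have hιinj : Function.Injective ι := by
    rw [← LinearMap.ker_eq_bot, LinearMap.ker_eq_bot']
    rintro ⟨u, w⟩ h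
    rw [hι] at h
    have hw : (w : V) = 0 := by
      apply p3 _ w.2
      intro u' hu'
      have h1 : (w : V) = - (u : V) := eq_neg_of_add_eq_zero_right h
      rw [h1, hB.neg_right, hisoW u' hu' u u.2, neg_zero]
    have hu : (u : V) = 0 := by
      have h1 : (u : V) + w = 0 := h
      rwa [hw, add_zero] at h1
    exact Prod.ext (Subtype.ext hu) (Subtype.ext hw)
  let eι := LinearEquiv.ofInjective ι hιinj
  have heι : ∀ a, ((eι a : LinearMap.range ι) : V) = ι a := fun _ => rfl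
  have hsurjι : ∀ x : LinearMap.range ι, ∃ a, x = eι a := fun x => ⟨eι.symm x, (eι.apply_symm_apply x).symm⟩
  have hWi : ∀ x ∈ LinearMap.range ι, A x ∈ LinearMap.range ι := by
    rintro _ ⟨a, rfl⟩
    refine ⟨(A.restrict hW₁i a.1, A.restrict hW₂i a.2), ?_⟩
    rw [hι, hι, map_add]
    rfl
  have hrestrict : ∀ a, A.restrict hWi (eι a) = eι (A.restrict hW₁i a.1, A.restrict hW₂i a.2) := by
    intro a
    apply Subtype.ext
    change A (ι a) = ι _
    rw [hι, hι, map_add]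
    rfl
  let c₀ : (W₁ × W₂) →ₗ[F] (W₁ × W₂) := LinearMap.prodMap c₁ g₂
  let c : LinearMap.range ι →ₗ[F] LinearMap.range ι :=
    (eι : (W₁ × W₂) →ₗ[F] LinearMap.range ι) ∘ₗ c₀ ∘ₗ (eι.symm : LinearMap.range ι →ₗ[F] (W₁ × W₂))
  have hc : ∀ a, c (eι a) = eι (c₁ a.1, g₂ a.2) := by
    intro a
    simp only [c, LinearMap.comp_apply, LinearEquiv.coe_coe, LinearEquiv.symm_apply_apply]
    rfl
  have hc₁A : ∀ u : W₁, ((c₁ (A.restrict hW₁i u) : W₁) : V) = A (c₁ u) := by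
    intro u
    obtain ⟨e, rfl⟩ := hsurj u
    have h1 : A.restrict hW₁i (eW e) = eW (AdjoinRoot.root π * e) := by
      apply Subtype.ext
      exact (phi_root_mul v hv e).symm
    rw [h1, hc₁, hc₁, heW, heW]
    rw [← mul_assoc, mul_comm a, mul_assoc]
    exact phi_root_mul v hv _
  refine ⟨_, hWi, c, ?_, ?_, ?_, ?_⟩
  · rintro _ ⟨⟨u, w⟩, rfl⟩ h
    rw [hι] at h ⊢
    have hw : (w : V) = 0 := by
      apply p3 _ w.2
      intro u' hu'
      apply hB.eq_zero_comm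
      have h1 := h u' ⟨(⟨u', hu'⟩, 0), by rw [hι]; simp⟩
      simp only at h1
      rw [hB.add_left, hisoW _ u.2 _ hu', zero_add] at h1
      exact h1
    have hu : (u : V) = 0 := by
      apply p4 _ u.2
      intro w' hw'
      have h1 := h w' ⟨(0, ⟨w', hw'⟩), by rw [hι]; simp⟩
      simp only at h1
      rw [hB.add_left, p5 _ w.2 _ hw', add_zero] at h1
      exact h1
    simp only
    rw [hw, hu, add_zero]
  · intro x
    obtain ⟨a, rfl⟩ := hsurjι x
    rw [hrestrict, hc, hc, hrestrict]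
    apply Subtype.ext
    rw [heι, heι, hι, hι]
    simp only
    rw [hc₁A, hg₂A]
    rfl
  · intro x y
    obtain ⟨a, rfl⟩ := hsurjι x
    obtain ⟨b, rfl⟩ := hsurjι y
    rw [hc, hc, heι, heι, heι, heι, hι, hι, hι, hι]
    simp only
    rw [hB.add_left, hB.add_right, hB.add_right, hB.add_left, hB.add_right, hB.add_right]
    rw [hisoW _ (c₁ a.1).2 _ (c₁ b.1).2, hisoW _ a.1.2 _ b.1.2, p5 _ (g₂ a.2).2 _ (g₂ b.2).2, p5 _ a.2.2 _ b.2.2]
    rw [hg₂', hB.symm (c₁ b.1 : V) (g₂ a.2 : V), hg₂', ← hB.symm]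
  · rw [LinearMap.det_conj, LinearMap.det_prodMap, hdetc]
    calc y * LinearMap.det g₂ = δ * (ρ y * LinearMap.det g₂) := by
          nth_rw 1 [hy]
          ring
      _ = δ := by rw [hdetg2, mul_one]

/-- the determinant on the centraliser of a semisimple isometry is onto the norm one group -/
theorem det_lift (hB : Sf ρ ε B) (A : V →ₗ[F] V) (hiso : ∀ x y, B (A x) (A y) = B x y) (N : ℕ) (hN : 0 < N) (hN0 : (N : F) ≠ 0) (hAN : A ^ N = 1)
    (hρne : ∃ c, ρ c ≠ c) (hV : finrank F V ≠ 0) (δ : F) (hδ : δ * ρ δ = 1) :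
    ∃ c : V →ₗ[F] V, (∀ x, c (A x) = A (c x)) ∧ (∀ x y, B (c x) (c y) = B x y) ∧ LinearMap.det c = δ := by
  classical
  have hS := semisimple_of_pow A N hN0 hAN
  have hdeg : A.charpoly.natDegree ≠ 0 := by
    rw [A.charpoly_natDegree]
    exact hV
  obtain ⟨π, hπm, hπi, hπd⟩ := exists_monic_irreducible_dvd A.charpoly_monic.ne_zero hdeg
  haveI : Fact (Irreducible π) := ⟨hπi⟩
  obtain ⟨v, hv0, hv⟩ := exists_ker_of_dvd_charpoly _ V A rfl hS π hπi hπd
  apply extend_piece hB A hiso N hN hAN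
  by_cases hNI : ∃ (x : V) (hx : aeval A π x = 0) (e₁ e₂ : AdjoinRoot π), B (phi A π x hx e₁) (phi A π x hx e₂) ≠ 0
  · obtain ⟨x, hx, hne⟩ := hNI
    exact case_I hB A hiso N hN hAN hρne π x hx hne δ hδ
  · push Not at hNI
    exact case_II hB A hS hiso N hN hAN hρne π v hv hv0 hNI δ hδ

end pieces

end Cfsg.Agent.H11.Wall
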